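import Cfsg.Agent.Lib.GTwoInvol.LocalModel
import Cfsg.Agent.Lib.GTwoTwoLocal.CentThree
import Cfsg.Agent.Lib.SpinCent.CaseBCommon
import Cfsg.Agent.Lib.Fitting.Basic

/-!
The local bound: centralisers of `d`, of `de` and of `E = ⟨d,e⟩`, their odd cores and their orders.
-/

set_option autoImplicit false
set_option linter.style.haveILetI false
set_option linter.unusedSectionVars false

namespace CfsgLib.GTwoInvol

open Cfsg CfsgLib.GTwoTwoLocal

variable {G : Type*} [Group G] [Finite G]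

namespace Hyp

variable (K : Hyp G)

theorem t_notMem_odd {X : Subgroup G} (hodd : Odd (Nat.card X)) : K.t ∉ X := fun h => by
  have h2 : orderOf K.t = 2 := orderOf_eq_prime (by rw [pow_two, K.t_sq]) K.t_ne_one
  have := hodd.of_dvd_nat (Subgroup.orderOf_dvd_natCard _ h)
  rw [h2] at this
  exact absurd this (by decide)

include K in
/-- A subgroup of odd order centralising an involution. -/
theorem odd_cent {X : Subgroup G} (hodd : Odd (Nat.card X)) {s : G} (hs2 : s * s = 1) (hs1 : s ≠ 1)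
    (hX : ∀ x ∈ X, Commute x s) :
    Nat.card X ∣ 9 ∧ (∀ x ∈ X, x ^ 3 = 1) ∧ ∀ a ∈ X, ∀ b ∈ X, Commute a b := by
  obtain ⟨g, hg⟩ := K.one_class s hs2 hs1
  set Y := X.map (MulAut.conj g⁻¹).toMonoidHom
  have hY : Y ≤ K.H := by
    rintro _ ⟨x, hx, rfl⟩
    refine K.mem_H.2 ?_
    have h := (hX x hx).map (MulAut.conj g⁻¹).toMonoidHom
    have e : (MulAut.conj g⁻¹).toMonoidHom s = K.t := by
      rw [← hg]
      simp [t, mul_assoc]
    rwa [e] at h
  have hinj : Function.Injective (MulAut.conj g⁻¹).toMonoidHom := (MulAut.conj g⁻¹).injective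
  have hYodd : Odd (Nat.card Y) := by rwa [Subgroup.card_map_of_injective hinj]
  have h9 := K.card_odd_dvd hY hYodd
  rw [Subgroup.card_map_of_injective hinj] at h9
  refine ⟨h9, fun x hx => hinj ?_, fun a ha b hb => ?_⟩
  · rw [map_pow, map_one]
    exact K.cube_odd hY hYodd ⟨x, hx, rfl⟩
  · haveI : Fact (Nat.Prime 3) := ⟨Nat.prime_three⟩
    have hc : ∀ p q : X, p * q = q * p := by
      obtain ⟨k, hk, hcard⟩ := (Nat.dvd_prime_pow Nat.prime_three).1 (show Nat.card X ∣ 3 ^ 2 by simpa using h9)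
      interval_cases k
      · haveI : Subsingleton X := (Nat.card_eq_one_iff_unique.1 (by simpa using hcard)).1
        exact fun p q => Subsingleton.elim _ _
      · haveI : IsCyclic X := isCyclic_of_prime_card (by simpa using hcard)
        exact fun p q => (IsCyclic.commGroup (α := X)).mul_comm p q
      · exact IsPGroup.commutative_of_card_eq_prime_sq hcard
    exact congrArg Subtype.val (hc ⟨a, ha⟩ ⟨b, hb⟩)

theorem tu_ne_one : K.t * K.u ≠ 1 := fun h => by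
  have hu : K.u = K.t := (eq_inv_of_mul_eq_one_right h).trans K.t_inv
  have := K.u_d
  rw [hu, K.t_comm_d.eq, mul_inv_cancel_right, eq_inv_iff_mul_eq_one] at this
  have h3 := K.d_cube
  rw [pow_succ, pow_two, this, one_mul] at h3
  exact K.d_ne h3

theorem u_ne_one : K.u ≠ 1 := fun h => by
  have := K.u_d
  rw [h, one_mul, inv_one, mul_one, eq_inv_iff_mul_eq_one] at this
  have h3 := K.d_cube
  rw [pow_succ, pow_two, this, one_mul] at h3
  exact K.d_ne h3

/-- A group of odd order normalised by `⟨t,u⟩` is a 3-group. -/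
theorem isPGroup_of_four {X : Subgroup G} (hodd : Odd (Nat.card X))
    (ht : ∀ x ∈ X, K.t * x * K.t⁻¹ ∈ X) (hu : ∀ x ∈ X, K.u * x * K.u⁻¹ ∈ X) : IsPGroup 3 X := by
  have h := CfsgLib.SmallCent.four_product hodd K.t_sq K.u_sq K.t_comm_u ht hu
  have hb : ∀ s : G, s * s = 1 → s ≠ 1 →
      Nat.card ↥(X ⊓ Subgroup.centralizer ({s} : Set G)) ∣ 9 := fun s h2 h1 =>
    (K.odd_cent (hodd.of_dvd_nat (Subgroup.card_dvd_of_le inf_le_left)) h2 h1 fun x hx =>
      Subgroup.mem_centralizer_singleton_iff.1 hx.2).1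
  have htu2 : K.t * K.u * (K.t * K.u) = 1 := by
    rw [K.t_comm_u.symm.mul_mul_mul_comm, K.t_sq, K.u_sq, one_mul]
  have hd : Nat.card X ∣ 3 ^ 6 := by
    refine (Dvd.intro _ h).trans ?_
    rw [show (3 : ℕ) ^ 6 = 9 * 9 * 9 by norm_num]
    exact mul_dvd_mul (mul_dvd_mul (hb _ K.t_sq K.t_ne_one) (hb _ K.u_sq K.u_ne_one))
      (hb _ htu2 K.tu_ne_one)
  obtain ⟨k, -, hk⟩ := (Nat.dvd_prime_pow Nat.prime_three).1 hd
  exact IsPGroup.of_card hk

/-! ### The centraliser of `d` -/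

theorem pair_β_comm_d (y : SL23) : Commute (K.β y) K.d := (K.comm sU y).symm

theorem decomp_d {g : G} (hg : Commute g K.d) :
    ∃ o ∈ coreCent K.d, ∃ y : SL23, g = o * K.β y := by
  obtain ⟨o, ho, c, hcd, hct, e⟩ := exists_coreCent_mul K.t_sq K.t_ne_one K.t_comm_d
    (fun s hsd hst => K.invol_d (K.mem_H.2 hst) hsd) hg
  obtain ⟨k, y, rfl⟩ := K.cent_d (K.mem_H.2 hct) hcd
  exact ⟨o * K.d ^ (k : ℕ), mul_mem ho (pow_mem (mem_coreCent_self K.d_cube) _), y,
    by rw [e, mul_assoc]⟩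

theorem core_d_inf_cent :
    coreCent K.d ⊓ Subgroup.centralizer ({K.t} : Set G) = Subgroup.zpowers K.d := by
  refine coreCent_inf_cent K.d_cube K.t_comm_d fun X hX hodd hn k hk => ?_
  have hk' := Subgroup.mem_centralizer_iff.1 (hX hk)
  simp only [Set.mem_insert_iff, Set.mem_singleton_iff, forall_eq_or_imp, forall_eq] at hk'
  obtain ⟨i, y, e⟩ := K.cent_d (K.mem_H.2 hk'.1.symm) hk'.2.symm
  have hq : ∀ q : SL23, K.β (q * y * q⁻¹ * y⁻¹) ∈ X := by
    intro q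
    have hqC : K.β q ∈ Subgroup.centralizer ({K.t, K.d} : Set G) := by
      rw [Subgroup.mem_centralizer_iff]
      simp only [Set.mem_insert_iff, Set.mem_singleton_iff, forall_eq_or_imp, forall_eq]
      exact ⟨(K.t_comm_β q).eq, (K.pair_β_comm_d q).symm.eq⟩
    have h := mul_mem (hn _ hqC k hk) (inv_mem hk)
    rw [e, show K.β q * (K.d ^ (i : ℕ) * K.β y) * (K.β q)⁻¹ * (K.d ^ (i : ℕ) * K.β y)⁻¹ =
      K.β q * K.d ^ (i : ℕ) * (K.β y * (K.β q)⁻¹ * (K.β y)⁻¹) * (K.d ^ (i : ℕ))⁻¹ by group,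
      ((K.pair_β_comm_d q).pow_right (i : ℕ)).eq, ← map_inv K.β q, ← map_inv K.β y, ← map_mul, ← map_mul,
      show K.d ^ (i : ℕ) * K.β q * K.β (y * q⁻¹ * y⁻¹) = K.d ^ (i : ℕ) * K.β (q * y * q⁻¹ * y⁻¹) by
        rw [mul_assoc, ← map_mul, show q * (y * q⁻¹ * y⁻¹) = q * y * q⁻¹ * y⁻¹ by group],
      ((K.pair_β_comm_d _).pow_right (i : ℕ)).symm.eq, mul_inv_cancel_right] at h
    exact h
  rcases comm_even y with h | h | ⟨q, h | h⟩
  · rw [e, h, map_one, mul_one]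
    exact pow_mem (Subgroup.mem_zpowers _) _
  · exfalso
    refine K.t_notMem_odd hodd ?_
    have h3 := pow_mem hk 3
    rw [e, h, ((K.pair_β_comm_d sZ).pow_right (i : ℕ)).symm.mul_pow, ← pow_mul, mul_comm (i : ℕ) 3, pow_mul,
      K.d_cube, one_pow, one_mul, ← map_pow, show sZ ^ 3 = sZ by decide +kernel, ← K.t_eq_β] at h3
    exact h3
  · exact absurd (by simpa [h, ← K.t_eq_β] using hq q) (K.t_notMem_odd hodd)
  · refine absurd ?_ (K.t_notMem_odd hodd)
    have := mul_mem (hq q) (hq q)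
    rwa [← map_mul, h, ← K.t_eq_β] at this

theorem core_d_inf_H : coreCent K.d ⊓ K.H = Subgroup.zpowers K.d := K.core_d_inf_cent

theorem core_d_inf_β {y : SL23} (h : K.β y ∈ coreCent K.d) : y = 1 := by
  have h' : K.β y ∈ Subgroup.zpowers K.d := K.core_d_inf_H ▸ ⟨h, K.β_mem_H y⟩
  obtain ⟨k, hk⟩ := Subgroup.mem_zpowers_iff.1 h'
  have hk' : K.α (sU ^ k) = K.β y := by rw [map_zpow]; exact hk
  rcases K.α_eq_β hk' with ⟨-, h1⟩ | ⟨h1, -⟩
  · exact h1
  · exfalso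
    have h3 : (sU ^ k) ^ 3 = 1 := by
      rw [← zpow_natCast, ← zpow_mul, mul_comm, zpow_mul, zpow_natCast, sU_cube, one_zpow]
    rw [h1] at h3
    exact absurd h3 (by decide +kernel)

theorem u_normalises_d {x : G} (hx : x ∈ coreCent K.d) : K.u * x * K.u⁻¹ ∈ coreCent K.d :=
  conj_mem_coreCent (Or.inr K.u_d) hx

theorem t_normalises_d {x : G} (hx : x ∈ coreCent K.d) : K.t * x * K.t⁻¹ ∈ coreCent K.d :=
  conj_mem_coreCent (Or.inl (by rw [K.t_comm_d.eq, mul_inv_cancel_right])) hx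

theorem isPGroup_core_d : IsPGroup 3 (coreCent K.d) :=
  K.isPGroup_of_four (odd_coreCent _) (fun _ => K.t_normalises_d) (fun _ => K.u_normalises_d)

/-- The order of the core of `C(d)`. -/
theorem card_O {s : G} (hs : s ∈ K.H) (h2 : s * s = 1) (hd : s * K.d * s⁻¹ = K.d⁻¹) :
    Nat.card (coreCent K.d) = 3 * Nat.card ↥(coreCent K.d ⊓ Subgroup.centralizer ({s} : Set G)) ^ 2 := by
  obtain ⟨q, hq⟩ := K.exists_twist_β hs h2 hd
  exact card_coreCent K.t_sq h2 (K.mem_H.1 hs).symm K.d_cube K.d_ne K.t_comm_d hd K.core_d_inf_cent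
    (Or.inl (by rw [(K.pair_β_comm_d q).eq, mul_inv_cancel_right])) hq

theorem card_O_cases :
    Nat.card (coreCent K.d) = 3 ∨ Nat.card (coreCent K.d) = 27 ∨ Nat.card (coreCent K.d) = 243 :=
  card_coreCent_cases (K.card_O K.u_mem_H K.u_sq K.u_d)
    (K.odd_cent ((odd_coreCent _).of_dvd_nat (Subgroup.card_dvd_of_le inf_le_left)) K.u_sq K.u_ne_one
      fun _ hx => Subgroup.mem_centralizer_singleton_iff.1 hx.2).1

/-- An element of the core is an element of `⟨d⟩` times one inverted by `t`. -/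
theorem exists_inverted_d {x : G} (hx : x ∈ coreCent K.d) :
    ∃ f ∈ Subgroup.zpowers K.d, ∃ i ∈ coreCent K.d, K.t * i * K.t⁻¹ = i⁻¹ ∧ x = f * i := by
  obtain ⟨f, hf, hft, i, hi, hti, e⟩ := CfsgLib.SpinCent.exists_fixed_mul_inverted
    (odd_coreCent K.d) K.t_sq (fun _ => K.t_normalises_d) hx
  exact ⟨f, K.core_d_inf_cent ▸ ⟨hf, Subgroup.mem_centralizer_singleton_iff.2 hft⟩, i, hi, hti, e⟩

theorem zpowers_d_comm {f x : G} (hf : f ∈ Subgroup.zpowers K.d) (hx : x ∈ coreCent K.d) : Commute f x := by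
  obtain ⟨k, rfl⟩ := Subgroup.mem_zpowers_iff.1 hf
  exact (Commute.zpow_right (Subgroup.mem_centralizer_singleton_iff.1 (coreCent_le _ hx) : Commute x K.d) k).symm

/-- Commutators in the core lie in `⟨d⟩`. -/
theorem comm_core_d {a b : G} (ha : a ∈ coreCent K.d) (hb : b ∈ coreCent K.d) :
    a * b * a⁻¹ * b⁻¹ ∈ Subgroup.zpowers K.d := by
  obtain ⟨fa, hfa, ia, hia, hta, rfl⟩ := K.exists_inverted_d ha
  obtain ⟨fb, hfb, ib, hib, htb, rfl⟩ := K.exists_inverted_d hb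
  obtain ⟨f, hf, i, hi, hti, e⟩ := K.exists_inverted_d (mul_mem hia hib)
  have c1 := K.zpowers_d_comm hfa (mul_mem hb (inv_mem hia))
  have hft : K.t * f * K.t⁻¹ = f := by
    obtain ⟨k, rfl⟩ := Subgroup.mem_zpowers_iff.1 hf
    rw [(K.t_comm_d.zpow_right k).eq, mul_inv_cancel_right]
  have e1 : ia⁻¹ * ib⁻¹ = f * i⁻¹ := by
    calc ia⁻¹ * ib⁻¹ = K.t * ia * K.t⁻¹ * (K.t * ib * K.t⁻¹) := by rw [hta, htb]
      _ = K.t * (ia * ib) * K.t⁻¹ := by group
      _ = (K.t * f * K.t⁻¹) * (K.t * i * K.t⁻¹) := by rw [e]; group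
      _ = f * i⁻¹ := by rw [hft, hti]
  have e2 : i⁻¹ = ib⁻¹ * ia⁻¹ * f := by
    rw [show i = f⁻¹ * (ia * ib) by rw [e, inv_mul_cancel_left]]
    group
  have key : ia * ib * ia⁻¹ * ib⁻¹ = f * f := by
    have hc := K.zpowers_d_comm hf (mul_mem (inv_mem hib) (inv_mem hia))
    calc ia * ib * ia⁻¹ * ib⁻¹ = ia * ib * (ia⁻¹ * ib⁻¹) := by group
      _ = ia * ib * (f * (ib⁻¹ * ia⁻¹ * f)) := by rw [e1, e2]
      _ = ia * ib * (ib⁻¹ * ia⁻¹ * f * f) := by rw [← mul_assoc f, hc.eq]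
      _ = f * f := by group
  have ea := K.zpowers_d_comm hfa hib
  have ea' := K.zpowers_d_comm hfa hia
  have eb := K.zpowers_d_comm hfb hia
  have eb' := K.zpowers_d_comm hfb hib
  have eab := K.zpowers_d_comm hfa (Subgroup.zpowers_le.2 (mem_coreCent_self K.d_cube) hfb)
  have hcomm : fa * ia * (fb * ib) * (fa * ia)⁻¹ * (fb * ib)⁻¹ = ia * ib * ia⁻¹ * ib⁻¹ := by
    calc fa * ia * (fb * ib) * (fa * ia)⁻¹ * (fb * ib)⁻¹
        = fa * (ia * fb) * ib * ia⁻¹ * fa⁻¹ * ib⁻¹ * fb⁻¹ := by group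
      _ = fb * (fa * (ia * ib * ia⁻¹) * fa⁻¹) * (ib⁻¹ * fb⁻¹) := by
          rw [← eb.eq, ← mul_assoc fa fb, eab.eq]; group
      _ = fb * (ia * ib * ia⁻¹) * (fb⁻¹ * ib⁻¹) := by
          rw [(K.zpowers_d_comm hfa (mul_mem (mul_mem hia hib) (inv_mem hia))).eq, mul_inv_cancel_right,
            eb'.inv_inv.eq]
      _ = _ := by
          rw [(K.zpowers_d_comm hfb (mul_mem (mul_mem hia hib) (inv_mem hia))).eq]; group
  rw [hcomm, key]
  exact mul_mem hf hf

/-! ### `E` and the groups between `E` and `C(de)` -/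

theorem d_mem_E : K.d ∈ K.E := Subgroup.mem_sup_left (Subgroup.mem_zpowers _)

theorem e_mem_E : K.e ∈ K.E := Subgroup.mem_sup_right (Subgroup.mem_zpowers _)

theorem pow_mem_E (i j : ℕ) : K.d ^ i * K.e ^ j ∈ K.E :=
  mul_mem (pow_mem K.d_mem_E _) (pow_mem K.e_mem_E _)

theorem E_le_cent : K.E ≤ Subgroup.centralizer ({K.d, K.e, K.t} : Set G) := by
  refine sup_le (Subgroup.zpowers_le.2 ?_) (Subgroup.zpowers_le.2 ?_) <;>
    rw [Subgroup.mem_centralizer_iff] <;>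
    simp only [Set.mem_insert_iff, Set.mem_singleton_iff, forall_eq_or_imp, forall_eq]
  · exact ⟨trivial, K.d_comm_e.eq.symm, K.t_comm_d.eq⟩
  · exact ⟨K.d_comm_e.eq, trivial, K.t_comm_e.eq⟩

theorem E_comm {a : G} (ha : a ∈ K.E) : Commute a K.d ∧ Commute a K.e ∧ Commute a K.t := by
  have h := Subgroup.mem_centralizer_iff.1 (K.E_le_cent ha)
  simp only [Set.mem_insert_iff, Set.mem_singleton_iff, forall_eq_or_imp, forall_eq] at h
  exact ⟨h.1.symm, h.2.1.symm, h.2.2.symm⟩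

theorem E_comm_E {a b : G} (ha : a ∈ K.E) (hb : b ∈ K.E) : Commute a b := by
  have : K.E ≤ Subgroup.centralizer ({a} : Set G) :=
    sup_le (Subgroup.zpowers_le.2 (Subgroup.mem_centralizer_singleton_iff.2 (K.E_comm ha).1.symm.eq))
      (Subgroup.zpowers_le.2 (Subgroup.mem_centralizer_singleton_iff.2 (K.E_comm ha).2.1.symm.eq))
  exact (Subgroup.mem_centralizer_singleton_iff.1 (this hb) : Commute b a).symm

theorem E_le_H : K.E ≤ K.H := fun _ ha => K.mem_H.2 (K.E_comm ha).2.2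

theorem card_E_dvd : Nat.card K.E ∣ 9 := by
  let f : Subgroup.zpowers K.d × Subgroup.zpowers K.e →* G :=
    MonoidHom.noncommCoprod (Subgroup.zpowers K.d).subtype (Subgroup.zpowers K.e).subtype fun x y =>
      K.E_comm_E (Subgroup.mem_sup_left x.2) (Subgroup.mem_sup_right y.2)
  have hr : f.range = K.E := by
    simp only [f, MonoidHom.noncommCoprod_range, Subgroup.range_subtype]
    rfl
  rw [← hr]
  refine (Subgroup.card_range_dvd f).trans ?_
  rw [Nat.card_prod, Nat.card_zpowers, Nat.card_zpowers, orderOf_eq_prime K.d_cube K.d_ne,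
    orderOf_eq_prime K.e_cube K.e_ne]

theorem odd_E : Odd (Nat.card K.E) := (show Odd 9 by decide).of_dvd_nat K.card_E_dvd

theorem u_conj_E {a : G} (ha : a ∈ K.E) : K.u * a * K.u⁻¹ ∈ K.E := by
  have : K.E ≤ K.E.comap (MulAut.conj K.u).toMonoidHom :=
    sup_le
      (Subgroup.zpowers_le.2 (by
        show K.u * K.d * K.u⁻¹ ∈ K.E
        rw [K.u_d]; exact inv_mem K.d_mem_E))
      (Subgroup.zpowers_le.2 (by
        show K.u * K.e * K.u⁻¹ ∈ K.E
        rw [K.u_e]; exact inv_mem K.e_mem_E))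
  exact this ha

/-- The odd core of a subgroup, inside the group. -/
def coreIn (X : Subgroup G) : Subgroup G := (oddCore ↥X).map X.subtype

theorem coreIn_le (X : Subgroup G) : coreIn X ≤ X := Subgroup.map_subtype_le _

theorem odd_coreIn (X : Subgroup G) : Odd (Nat.card (coreIn X)) := by
  haveI : Fact (Nat.Prime 2) := ⟨Nat.prime_two⟩
  rw [coreIn, Subgroup.card_map_of_injective X.subtype_injective, ← Nat.not_even_iff_odd, even_iff_two_dvd]
  exact CfsgLib.Transfer.not_dvd_card_pPrimeCore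

theorem conj_coreIn {X : Subgroup G} {a x : G} (ha : a ∈ X) (hx : x ∈ coreIn X) : a * x * a⁻¹ ∈ coreIn X := by
  obtain ⟨w, hw, rfl⟩ := hx
  haveI := CfsgLib.Transfer.pPrimeCore_normal 2 ↥X
  exact ⟨⟨a, ha⟩ * w * ⟨a, ha⟩⁻¹, Subgroup.Normal.conj_mem inferInstance w hw _, rfl⟩

/-- A subgroup between `E⟨t⟩` and `C(de)`: its odd core contains `E`, meets `H` in `E`, has index at
most two. -/
theorem core_between {X : Subgroup G} (hE : K.E ≤ X) (ht : K.t ∈ X)
    (hX : X ≤ Subgroup.centralizer ({K.d * K.e} : Set G)) :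
    K.E ≤ coreIn X ∧ coreIn X ⊓ K.H = K.E ∧ ∀ g ∈ X, g ∈ coreIn X ∨ g * K.t ∈ coreIn X := by
  haveI : Fact (Nat.Prime 2) := ⟨Nat.prime_two⟩
  have hde : ∀ g ∈ X, Commute g (K.d * K.e) := fun g hg => Subgroup.mem_centralizer_singleton_iff.1 (hX hg)
  have hfix : ∀ c ∈ X, Commute c K.t → ∃ a ∈ K.E, c = a ∨ c = a * K.t := by
    intro c hc hct
    obtain ⟨i, j, h⟩ := K.cent_de (K.mem_H.2 hct) (hde c hc)
    exact ⟨_, K.pow_mem_E i j, h⟩
  have hdec : ∀ g ∈ X, ∃ o ∈ coreIn X, ∃ a ∈ K.E, g = o * a ∨ g = o * a * K.t := by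
    intro g hg
    obtain ⟨o, ho, c, hc, e⟩ := exists_core_mul_cent_of_unique K.t_sq K.t_ne_one ht
      (fun s hs hst => K.invol_de (K.mem_H.2 hst) (hde s hs)) hg
    obtain ⟨a, ha, h | h⟩ := hfix c hc.1 (Subgroup.mem_centralizer_singleton_iff.1 hc.2)
    · exact ⟨o, ho, a, ha, Or.inl (by rw [e, h])⟩
    · exact ⟨o, ho, a, ha, Or.inr (by rw [e, h, mul_assoc])⟩
  set J := coreIn X ⊔ K.E with hJ
  have hJX : J ≤ X := sup_le (coreIn_le X) hE
  have hEn : K.E ≤ Subgroup.normalizer (coreIn X : Set G) := fun a ha =>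
    Subgroup.mem_normalizer_iff.2 fun x => ⟨fun hx => conj_coreIn (hE ha) hx, fun hx => by
      simpa [mul_assoc] using conj_coreIn (inv_mem (hE ha)) hx⟩
  have hJodd : Odd (Nat.card J) := by
    have hc : ((coreIn X).subgroupOf J).Normal :=
      Subgroup.normal_subgroupOf_of_le_normalizer (sup_le Subgroup.le_normalizer hEn)
    have h1 : Nat.card ↥J ∣ Nat.card (coreIn X) * Nat.card K.E := by
      haveI := hc
      have h := Subgroup.card_eq_card_quotient_mul_card_subgroup ((coreIn X).subgroupOf J)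
      rw [Nat.card_congr (Subgroup.subgroupOfEquivOfLe (le_sup_left : coreIn X ≤ J)).toEquiv] at h
      have hq : Nat.card (↥J ⧸ (coreIn X).subgroupOf J) ∣ Nat.card K.E := by
        let φ : K.E →* ↥J ⧸ (coreIn X).subgroupOf J :=
          (QuotientGroup.mk' _).comp (Subgroup.inclusion le_sup_right)
        have hs : Function.Surjective φ := by
          intro y
          obtain ⟨⟨g, hg⟩, rfl⟩ := QuotientGroup.mk_surjective y
          have hg' : g ∈ ((coreIn X ⊔ K.E : Subgroup G) : Set G) := hg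
          rw [Subgroup.coe_mul_of_right_le_normalizer_left _ _ hEn] at hg'
          obtain ⟨o, ho, a, ha, rfl⟩ := hg'
          refine ⟨⟨a, ha⟩, QuotientGroup.eq.2 (Subgroup.mem_subgroupOf.2 ?_)⟩
          simpa [mul_assoc] using conj_coreIn (inv_mem (hE ha)) ho
        exact Subgroup.card_dvd_of_surjective φ hs
      rw [h, mul_comm]
      exact mul_dvd_mul_left _ hq
    exact ((odd_coreIn X).mul K.odd_E).of_dvd_nat h1
  have hJn : (J.subgroupOf X).Normal := by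
    refine ⟨fun x hx g => ?_⟩
    rw [Subgroup.mem_subgroupOf] at hx ⊢
    simp only [Subgroup.coe_mul, InvMemClass.coe_inv]
    have hconjE : ∀ c ∈ X, Commute c K.t → ∀ a ∈ K.E, c * a * c⁻¹ = a := by
      intro c hc hct a ha
      obtain ⟨b, hb, h | h⟩ := hfix c hc hct <;> subst h
      · rw [(K.E_comm_E hb ha).eq, mul_inv_cancel_right]
      · rw [((K.E_comm_E hb ha).mul_left (K.E_comm ha).2.2.symm).eq, mul_inv_cancel_right]
    have hgen : ∀ c ∈ X, (∀ a ∈ K.E, c * a * c⁻¹ ∈ J) → c * (x : G) * c⁻¹ ∈ J := by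
      intro c hc hca
      have : J ≤ J.comap (MulAut.conj c).toMonoidHom := by
        refine sup_le (fun z hz => ?_) (fun a ha => hca a ha)
        exact Subgroup.mem_sup_left (conj_coreIn hc hz)
      exact this hx
    refine hgen g g.2 fun a ha => ?_
    obtain ⟨o, ho, b, hb, h⟩ := hdec g g.2
    have hoJ : o ∈ J := Subgroup.mem_sup_left ho
    have haJ : a ∈ J := Subgroup.mem_sup_right ha
    rcases h with h | h <;> rw [h]
    · rw [show o * b * a * (o * b)⁻¹ = o * (b * a * b⁻¹) * o⁻¹ by group,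
        hconjE b (hE hb) (K.E_comm hb).2.2 a ha]
      exact mul_mem (mul_mem hoJ haJ) (inv_mem hoJ)
    · rw [show o * b * K.t * a * (o * b * K.t)⁻¹ = o * (b * K.t * a * (b * K.t)⁻¹) * o⁻¹ by group,
        hconjE (b * K.t) (mul_mem (hE hb) ht) ((K.E_comm hb).2.2.mul_left (Commute.refl _)) a ha]
      exact mul_mem (mul_mem hoJ haJ) (inv_mem hoJ)
  have hEO : K.E ≤ coreIn X := by
    intro a ha
    refine ⟨⟨a, hE ha⟩, ?_, rfl⟩
    refine CfsgLib.Transfer.le_pPrimeCore (p := 2) (N := J.subgroupOf X) hJn ?_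
      (Subgroup.mem_subgroupOf.2 (Subgroup.mem_sup_right ha))
    rw [Nat.card_congr (Subgroup.subgroupOfEquivOfLe hJX).toEquiv]
    exact Nat.coprime_two_right.2 hJodd
  refine ⟨hEO, le_antisymm (fun x hx => ?_) (le_inf hEO K.E_le_H), fun g hg => ?_⟩
  · obtain ⟨a, ha, h | h⟩ := hfix x (coreIn_le X hx.1) (K.mem_H.1 hx.2)
    · rwa [h]
    · exfalso
      refine K.t_notMem_odd (odd_coreIn X) ?_
      have := mul_mem (inv_mem (hEO ha)) hx.1
      rwa [h, inv_mul_cancel_left] at this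
  · obtain ⟨o, ho, a, ha, h | h⟩ := hdec g hg
    · exact Or.inl (h ▸ mul_mem ho (hEO ha))
    · refine Or.inr ?_
      rw [h, mul_assoc, K.t_sq, mul_one]
      exact mul_mem ho (hEO ha)

theorem E_le_cde : K.E ≤ Subgroup.centralizer ({K.d * K.e} : Set G) := fun _ ha =>
  Subgroup.mem_centralizer_singleton_iff.2 ((K.E_comm ha).1.mul_right (K.E_comm ha).2.1).eq

theorem t_mem_cde : K.t ∈ Subgroup.centralizer ({K.d * K.e} : Set G) :=
  Subgroup.mem_centralizer_singleton_iff.2 (K.t_comm_d.mul_right K.t_comm_e).eq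

theorem E_le_core_de : K.E ≤ coreCent (K.d * K.e) := (K.core_between K.E_le_cde K.t_mem_cde le_rfl).1

theorem core_de_inf_H : coreCent (K.d * K.e) ⊓ K.H = K.E :=
  (K.core_between K.E_le_cde K.t_mem_cde le_rfl).2.1

theorem decomp_de {g : G} (hg : Commute g (K.d * K.e)) :
    g ∈ coreCent (K.d * K.e) ∨ g * K.t ∈ coreCent (K.d * K.e) :=
  (K.core_between K.E_le_cde K.t_mem_cde le_rfl).2.2 g (Subgroup.mem_centralizer_singleton_iff.2 hg.eq)

theorem u_conj_de : K.u * (K.d * K.e) * K.u⁻¹ = (K.d * K.e)⁻¹ := by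
  rw [mul_inv_rev, ← K.u_d, ← K.u_e, K.d_comm_e.eq]
  group

theorem t_conj_de : K.t * (K.d * K.e) * K.t⁻¹ = K.d * K.e := by
  rw [(K.t_comm_d.mul_right K.t_comm_e).eq, mul_inv_cancel_right]

theorem isPGroup_core_de : IsPGroup 3 (coreCent (K.d * K.e)) :=
  K.isPGroup_of_four (odd_coreCent _) (fun _ hx => conj_mem_coreCent (Or.inl K.t_conj_de) hx)
    (fun _ hx => conj_mem_coreCent (Or.inr K.u_conj_de) hx)

theorem E_inf_u {a : G} (ha : a ∈ K.E) (hu : Commute K.u a) : a = 1 := by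
  have hinv : ∀ b ∈ K.E, K.u * b * K.u⁻¹ = b⁻¹ := by
    let L : Subgroup G :=
      { carrier := {b | b ∈ K.E ∧ K.u * b * K.u⁻¹ = b⁻¹}
        one_mem' := ⟨one_mem _, by simp⟩
        mul_mem' := fun {b c} hb hc => ⟨mul_mem hb.1 hc.1, by
          rw [show K.u * (b * c) * K.u⁻¹ = K.u * b * K.u⁻¹ * (K.u * c * K.u⁻¹) by group, hb.2, hc.2,
            mul_inv_rev, (K.E_comm_E (inv_mem hb.1) (inv_mem hc.1)).eq]⟩
        inv_mem' := fun {b} hb => ⟨inv_mem hb.1, by rw [← conj_inv, hb.2]⟩ }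
    have : K.E ≤ L := sup_le (Subgroup.zpowers_le.2 ⟨K.d_mem_E, K.u_d⟩)
      (Subgroup.zpowers_le.2 ⟨K.e_mem_E, K.u_e⟩)
    exact fun b hb => (this hb).2
  have h := hinv a ha
  rw [hu.eq, mul_inv_cancel_right, eq_inv_iff_mul_eq_one] at h
  obtain ⟨k, hk⟩ := K.odd_E.of_dvd_nat (Subgroup.orderOf_dvd_natCard _ ha)
  have h1 := pow_orderOf_eq_one a
  rwa [hk, pow_succ, pow_mul, pow_two, h, one_pow, one_mul] at h1

/-- The order of an odd group meeting `H` in `E`, normalised by `⟨t,u⟩`. -/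
theorem card_meet_E {X : Subgroup G} (hodd : Odd (Nat.card X)) (hH : X ⊓ K.H = K.E)
    (ht : ∀ x ∈ X, K.t * x * K.t⁻¹ ∈ X) (hu : ∀ x ∈ X, K.u * x * K.u⁻¹ ∈ X) :
    Nat.card X = Nat.card K.E * Nat.card ↥(X ⊓ Subgroup.centralizer ({K.u} : Set G)) *
      Nat.card ↥(X ⊓ Subgroup.centralizer ({K.t * K.u} : Set G)) := by
  have h := card_of_four hodd K.t_sq K.u_sq K.t_comm_u ht hu (by
    rw [eq_bot_iff]
    intro x hx
    have hxE : x ∈ K.E := hH ▸ (card_cent_pair_le X K.t K.u hx)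
    exact Subgroup.mem_bot.2 (K.E_inf_u hxE (Subgroup.mem_centralizer_iff.1 hx.2 K.u (by simp))))
  rwa [show X ⊓ Subgroup.centralizer ({K.t} : Set G) = K.E from hH] at h

theorem card_core_de :
    Nat.card (coreCent (K.d * K.e)) = Nat.card K.E *
      Nat.card ↥(coreCent (K.d * K.e) ⊓ Subgroup.centralizer ({K.u} : Set G)) *
      Nat.card ↥(coreCent (K.d * K.e) ⊓ Subgroup.centralizer ({K.t * K.u} : Set G)) :=
  K.card_meet_E (odd_coreCent _) K.core_de_inf_H (fun _ hx => conj_mem_coreCent (Or.inl K.t_conj_de) hx)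
    (fun _ hx => conj_mem_coreCent (Or.inr K.u_conj_de) hx)

/-- `O(C(E))`. -/
def R : Subgroup G := coreIn K.CE

theorem mem_CE {g : G} : g ∈ K.CE ↔ Commute g K.d ∧ Commute g K.e := by
  rw [CE, Subgroup.mem_inf, Subgroup.mem_centralizer_singleton_iff, Subgroup.mem_centralizer_singleton_iff]
  rfl

theorem CE_between : K.E ≤ K.CE ∧ K.t ∈ K.CE ∧ K.CE ≤ Subgroup.centralizer ({K.d * K.e} : Set G) :=
  ⟨fun _ ha => K.mem_CE.2 ⟨(K.E_comm ha).1, (K.E_comm ha).2.1⟩, K.mem_CE.2 ⟨K.t_comm_d, K.t_comm_e⟩,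
    fun _ hg => Subgroup.mem_centralizer_singleton_iff.2 ((K.mem_CE.1 hg).1.mul_right (K.mem_CE.1 hg).2).eq⟩

theorem R_le_CE : K.R ≤ K.CE := coreIn_le _

theorem odd_R : Odd (Nat.card K.R) := odd_coreIn _

theorem E_le_R : K.E ≤ K.R := (K.core_between K.CE_between.1 K.CE_between.2.1 K.CE_between.2.2).1

theorem R_inf_H : K.R ⊓ K.H = K.E := (K.core_between K.CE_between.1 K.CE_between.2.1 K.CE_between.2.2).2.1

theorem decomp_CE {g : G} (hg : g ∈ K.CE) : g ∈ K.R ∨ g * K.t ∈ K.R :=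
  (K.core_between K.CE_between.1 K.CE_between.2.1 K.CE_between.2.2).2.2 g hg

theorem conj_R {v x : G} (hd : v * K.d * v⁻¹ = K.d ∨ v * K.d * v⁻¹ = K.d⁻¹)
    (he : v * K.e * v⁻¹ = K.e ∨ v * K.e * v⁻¹ = K.e⁻¹) (hx : x ∈ K.R) : v * x * v⁻¹ ∈ K.R := by
  have hC : ∀ y ∈ K.CE, v * y * v⁻¹ ∈ K.CE := by
    intro y hy
    have h : ∀ c : G, Commute y c → (v * c * v⁻¹ = c ∨ v * c * v⁻¹ = c⁻¹) → Commute (v * y * v⁻¹) c := by
      intro c hc h
      have h' : Commute (v * y * v⁻¹) (v * c * v⁻¹) := hc.map (MulAut.conj v).toMonoidHom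
      rcases h with e | e <;> rw [e] at h'
      exacts [h', Commute.inv_right_iff.1 h']
    exact K.mem_CE.2 ⟨h _ (K.mem_CE.1 hy).1 hd, h _ (K.mem_CE.1 hy).2 he⟩
  let φ : ↥K.CE →* ↥K.CE :=
    ((MulAut.conj v).toMonoidHom.comp K.CE.subtype).codRestrict K.CE fun y => hC y y.2
  have hφ : Function.Bijective φ := Finite.injective_iff_bijective.1 fun a b h =>
    Subtype.ext ((MulAut.conj v).injective (congrArg Subtype.val h))
  obtain ⟨w, hw, rfl⟩ := hx
  have hch := Subgroup.characteristic_iff_map_eq.1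
    (inferInstance : (oddCore ↥K.CE).Characteristic) (MulEquiv.ofBijective φ hφ)
  exact ⟨φ w, hch ▸ ⟨w, hw, rfl⟩, rfl⟩

theorem t_conj_R {x : G} (hx : x ∈ K.R) : K.t * x * K.t⁻¹ ∈ K.R :=
  K.conj_R (Or.inl (by rw [K.t_comm_d.eq, mul_inv_cancel_right]))
    (Or.inl (by rw [K.t_comm_e.eq, mul_inv_cancel_right])) hx

theorem u_conj_R {x : G} (hx : x ∈ K.R) : K.u * x * K.u⁻¹ ∈ K.R :=
  K.conj_R (Or.inr K.u_d) (Or.inr K.u_e) hx

theorem isPGroup_R : IsPGroup 3 K.R :=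
  K.isPGroup_of_four K.odd_R (fun _ => K.t_conj_R) (fun _ => K.u_conj_R)

theorem card_R :
    Nat.card K.R = Nat.card K.E * Nat.card ↥(K.R ⊓ Subgroup.centralizer ({K.u} : Set G)) *
      Nat.card ↥(K.R ⊓ Subgroup.centralizer ({K.t * K.u} : Set G)) :=
  K.card_meet_E K.odd_R K.R_inf_H (fun _ => K.t_conj_R) (fun _ => K.u_conj_R)

end Hyp

end CfsgLib.GTwoInvol
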