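import Cfsg.Agent.Lib.GTwoInvol.Frame
import Cfsg.Agent.Lib.GTwoInvol.Local

/-!
Elementary facts for the nondegenerate case: fixed-point groups, the group `O(C(d))⟨e⟩`, frames.
-/

set_option autoImplicit false
set_option linter.style.haveILetI false
set_option linter.unusedSectionVars false

namespace CfsgLib.GTwoInvol

open CfsgLib.GTwoTwoLocal (coreCent conj_mem_coreCent odd_coreCent coreCent_le mem_coreCent_self
  mem_normalizer_coreCent card_cent_conj)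

variable {G : Type*} [Group G] [Finite G]

theorem cube_conj_U : ∀ x : SL23, x ^ 3 = 1 → ∃ p : SL23, ∃ i : Fin 3, p * x * p⁻¹ = sU ^ (i : ℕ) := by
  decide +kernel

/-- An element of odd order whose square lies in a subgroup lies there. -/
theorem mem_of_sq_mem {X : Subgroup G} {g : G} (ho : Odd (orderOf g)) (h : g * g ∈ X) : g ∈ X := by
  obtain ⟨k, hk⟩ := ho
  have e : g = (g * g) ^ (k + 1) := by
    rw [← pow_two, ← pow_mul, show 2 * (k + 1) = orderOf g + 1 by omega, pow_succ, pow_orderOf_eq_one,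
      one_mul]
  rw [e]
  exact pow_mem h _

theorem odd_order_of_cube {g : G} (h : g ^ 3 = 1) : Odd (orderOf g) :=
  (show Odd 3 by decide).of_dvd_nat (orderOf_dvd_of_pow_eq_one h)

theorem odd_order_of_mem {X : Subgroup G} (hX : Odd (Nat.card X)) {g : G} (hg : g ∈ X) : Odd (orderOf g) :=
  hX.of_dvd_nat (Subgroup.orderOf_dvd_natCard _ hg)

theorem conj_eq_self {a b : G} (h : Commute a b) : a * b * a⁻¹ = b := by
  rw [h.eq, mul_inv_cancel_right]

namespace Hyp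

variable (K : Hyp G)

theorem tu_sq : K.t * K.u * (K.t * K.u) = 1 := K.twist.u_sq

theorem t_mul_tu : K.t * (K.t * K.u) = K.u := by rw [← mul_assoc, K.t_sq, one_mul]

include K in
/-- A group of fixed points of an involution in a group of odd order. -/
theorem part {X : Subgroup G} (hX : Odd (Nat.card X)) {s : G} (hs2 : s * s = 1) (hs1 : s ≠ 1) :
    Nat.card (cfix X s) ∣ 9 ∧ (∀ x ∈ cfix X s, x ^ 3 = 1) ∧
      ∀ a ∈ cfix X s, ∀ b ∈ cfix X s, Commute a b :=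
  K.odd_cent (hX.of_dvd_nat (Subgroup.card_dvd_of_le inf_le_left)) hs2 hs1 fun _ hx => (mem_cfix.mp hx).2

theorem card_E_eq : Nat.card K.E = 9 := by
  refine le_antisymm (Nat.le_of_dvd (by norm_num) K.card_E_dvd) ?_
  have hinj : Function.Injective fun p : Fin 3 × Fin 3 =>
      (⟨K.α (sU ^ (p.1 : ℕ)) * K.β (sU ^ (p.2 : ℕ)), K.mem_E_iff.mpr ⟨p.1, p.2, rfl⟩⟩ : K.E) := by
    have inj : ∀ i j : Fin 3, sU ^ (i : ℕ) = sU ^ (j : ℕ) → i = j := by decide +kernel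
    have hz : ∀ i j : Fin 3, sU ^ (i : ℕ) ≠ sU ^ (j : ℕ) * sZ := by decide +kernel
    intro a b h
    rcases K.pair_eq (congrArg Subtype.val h) with ⟨h1, h2⟩ | ⟨h1, -⟩
    · exact Prod.ext (inj _ _ h1) (inj _ _ h2)
    · exact (hz _ _ h1).elim
  simpa using Nat.card_le_card_of_injective _ hinj

theorem E_le_CE : K.E ≤ K.CE := K.CE_between.1

theorem E_fix_u {x : G} (hx : x ∈ K.E) (hu : Commute x K.u) : x = 1 := K.E_inf_u hx hu.symm

theorem CE_swap : K.swap.CE = K.CE := inf_comm _ _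

theorem CE_flip : K.flip.CE = K.CE := by
  rw [CE, CE, K.e_flip, K.d_flip]
  congr 1
  ext g
  rw [Subgroup.mem_centralizer_singleton_iff, Subgroup.mem_centralizer_singleton_iff]
  exact (Commute.inv_right_iff : Commute g K.e⁻¹ ↔ Commute g K.e)

theorem R_swap : K.swap.R = K.R := by rw [R, R, K.CE_swap]

theorem R_flip : K.flip.R = K.R := by rw [R, R, K.CE_flip]

theorem R_twist : K.twist.R = K.R := rfl

theorem four_d : Four K.t K.u (coreCent K.d) :=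
  ⟨K.t_sq, K.u_sq, K.t_comm_u, odd_coreCent _, fun _ => K.t_normalises_d, fun _ => K.u_normalises_d,
    fun x hx ht hu => K.E_fix_u (Subgroup.mem_sup_left (K.core_d_inf_H ▸ ⟨hx, K.mem_H.mpr ht⟩)) hu⟩

theorem four_de : Four K.t K.u (coreCent (K.d * K.e)) :=
  ⟨K.t_sq, K.u_sq, K.t_comm_u, odd_coreCent _, fun _ hx => conj_mem_coreCent (Or.inl K.t_conj_de) hx,
    fun _ hx => conj_mem_coreCent (Or.inr K.u_conj_de) hx,
    fun x hx ht hu => K.E_fix_u (K.core_de_inf_H ▸ ⟨hx, K.mem_H.mpr ht⟩) hu⟩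

theorem four_R : Four K.t K.u K.R :=
  ⟨K.t_sq, K.u_sq, K.t_comm_u, K.odd_R, fun _ => K.t_conj_R, fun _ => K.u_conj_R,
    fun x hx ht hu => K.E_fix_u (K.R_inf_H ▸ ⟨hx, K.mem_H.mpr ht⟩) hu⟩

theorem cfix_R_t : cfix K.R K.t = K.E := K.R_inf_H

theorem cfix_d_t : cfix (coreCent K.d) K.t = Subgroup.zpowers K.d := K.core_d_inf_H

theorem card_R_parts : Nat.card K.R = 9 * Nat.card (cfix K.R K.u) * Nat.card (cfix K.R (K.t * K.u)) := by
  rw [K.card_R, K.card_E_eq]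

theorem mem_R {g : G} (hg : g ∈ K.CE) (ho : Odd (orderOf g)) : g ∈ K.R := by
  refine mem_of_sq_mem ho ?_
  rcases K.decomp_CE hg with h | h
  · exact mul_mem h h
  · have h' := mul_mem h (K.t_conj_R h)
    rwa [show g * K.t * (K.t * (g * K.t) * K.t⁻¹) = g * (K.t * K.t) * g * (K.t * K.t⁻¹) by group, K.t_sq,
      mul_one, mul_inv_cancel, mul_one] at h'

theorem R_comm_d {g : G} (hg : g ∈ K.R) : Commute g K.d := (K.mem_CE.mp (K.R_le_CE hg)).1

theorem R_comm_e {g : G} (hg : g ∈ K.R) : Commute g K.e := (K.mem_CE.mp (K.R_le_CE hg)).2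

theorem mem_core_de {g : G} (hg : Commute g (K.d * K.e)) (ho : Odd (orderOf g)) :
    g ∈ coreCent (K.d * K.e) := by
  refine mem_of_sq_mem ho ?_
  rcases K.decomp_de hg with h | h
  · exact mul_mem h h
  · have h' := mul_mem h (conj_mem_coreCent (g := K.t) (Or.inl K.t_conj_de) h)
    rwa [show g * K.t * (K.t * (g * K.t) * K.t⁻¹) = g * (K.t * K.t) * g * (K.t * K.t⁻¹) by group, K.t_sq,
      mul_one, mul_inv_cancel, mul_one] at h'

theorem R_le_core_de : K.R ≤ coreCent (K.d * K.e) := fun _ hg =>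
  K.mem_core_de ((K.R_comm_d hg).mul_right (K.R_comm_e hg)) (odd_order_of_mem K.odd_R hg)

/-- Every element of `C(d)` modulo the core: products. -/
theorem conj_core {g o : G} (hg : Commute g K.d) (ho : o ∈ coreCent K.d) : g * o * g⁻¹ ∈ coreCent K.d :=
  conj_mem_coreCent (Or.inl (conj_eq_self hg)) ho

theorem e_normalises_d {o : G} (ho : o ∈ coreCent K.d) : K.e * o * K.e⁻¹ ∈ coreCent K.d :=
  K.conj_core K.d_comm_e.symm ho

theorem β_inj_mod {x y : SL23} (h : (K.β x)⁻¹ * K.β y ∈ coreCent K.d) : x = y := by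
  rw [← map_inv, ← map_mul] at h
  exact inv_mul_eq_one.mp (K.core_d_inf_β h)

/-- An element of odd order of `C(d)` inverted by `t` lies in the core. -/
theorem mem_core_of_inverted {g : G} (hd : Commute g K.d) (ho : Odd (orderOf g))
    (hinv : K.t * g * K.t⁻¹ = g⁻¹) : g ∈ coreCent K.d := by
  obtain ⟨o, ho', y, rfl⟩ := K.decomp_d hd
  refine mem_of_sq_mem ho ?_
  have h1 : o * K.β y * (K.t * o * K.t⁻¹ * K.β y) = 1 := by
    rw [show K.t * o * K.t⁻¹ * K.β y = K.t * (o * K.β y) * K.t⁻¹ from ?_, hinv, mul_inv_cancel]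
    rw [mul_assoc K.t (o * K.β y), mul_assoc o, ← (K.t_comm_β y).inv_left.eq]
    group
  have h2 : (K.β y)⁻¹ * (K.β y)⁻¹ ∈ coreCent K.d := by
    have h3 : (K.β y)⁻¹ * (K.β y)⁻¹ = (K.β y)⁻¹ * o * K.β y * (K.t * o * K.t⁻¹) := by
      calc (K.β y)⁻¹ * (K.β y)⁻¹ = (K.β y)⁻¹ * (o * K.β y * (K.t * o * K.t⁻¹ * K.β y)) * (K.β y)⁻¹ := by
            rw [h1, mul_one]
        _ = _ := by group
    rw [h3]
    refine mul_mem ?_ (K.t_normalises_d ho')
    simpa using K.conj_core (K.pair_β_comm_d y).inv_left ho'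
  have h4 : o * K.β y * (o * K.β y) = o * (K.β y * o * (K.β y)⁻¹) * (K.β y * K.β y) := by group
  rw [h4]
  refine mul_mem (mul_mem ho' (K.conj_core (K.pair_β_comm_d y) ho')) ?_
  simpa using inv_mem h2

/-- The group `O(C(d))⟨e⟩`. -/
def U : Subgroup G := coreCent K.d ⊔ Subgroup.zpowers K.e

theorem zpowers_e_le : Subgroup.zpowers K.e ≤ Subgroup.normalizer (coreCent K.d : Set G) :=
  Subgroup.zpowers_le.mpr (mem_normalizer_coreCent (Or.inl (conj_eq_self K.d_comm_e.symm)))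

theorem mem_U {g : G} : g ∈ K.U ↔ ∃ o ∈ coreCent K.d, ∃ k : Fin 3, g = o * K.e ^ (k : ℕ) := by
  constructor
  · intro hg
    have hg' : g ∈ ((K.U : Subgroup G) : Set G) := hg
    rw [U, Subgroup.coe_mul_of_right_le_normalizer_left _ _ K.zpowers_e_le] at hg'
    obtain ⟨o, ho, a, ha, rfl⟩ := hg'
    obtain ⟨n, rfl⟩ := (isOfFinOrder_of_finite K.e).mem_powers_iff_mem_zpowers.mpr ha
    exact ⟨o, ho, ⟨n % 3, Nat.mod_lt _ (by norm_num)⟩, by rw [← pow_eq_pow_mod n K.e_cube]⟩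
  · rintro ⟨o, ho, k, rfl⟩
    exact mul_mem (Subgroup.mem_sup_left ho) (Subgroup.mem_sup_right (pow_mem (Subgroup.mem_zpowers _) _))

theorem e_pow_inj_mod {i j : Fin 3} (h : (K.e ^ (i : ℕ))⁻¹ * K.e ^ (j : ℕ) ∈ coreCent K.d) : i = j := by
  have inj : ∀ i j : Fin 3, sU ^ (i : ℕ) = sU ^ (j : ℕ) → i = j := by decide +kernel
  rw [e, ← map_pow, ← map_pow] at h
  exact inj i j (K.β_inj_mod h)

theorem card_meet_U {X : Subgroup G} (hX : X ≤ K.U) (he : K.e ∈ X) :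
    Nat.card X = 3 * Nat.card ↥(X ⊓ coreCent K.d) := by
  classical
  let f : ↥(X ⊓ coreCent K.d) × Fin 3 → X := fun p =>
    ⟨(p.1 : G) * K.e ^ (p.2 : ℕ), mul_mem p.1.2.1 (pow_mem he _)⟩
  have hf : Function.Bijective f := by
    constructor
    · rintro ⟨⟨o, ho⟩, i⟩ ⟨⟨o', ho'⟩, j⟩ h
      have h' : o * K.e ^ (i : ℕ) = o' * K.e ^ (j : ℕ) := congrArg Subtype.val h
      have e1 : o'⁻¹ * o = K.e ^ (j : ℕ) * (K.e ^ (i : ℕ))⁻¹ := by
        rw [eq_mul_inv_iff_mul_eq, mul_assoc, h', inv_mul_cancel_left]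
      have hij : i = j := by
        refine K.e_pow_inj_mod ?_
        rw [((Commute.refl K.e).pow_pow _ _).inv_left.eq, ← e1]
        exact mul_mem (inv_mem ho'.2) ho.2
      subst hij
      exact Prod.ext (Subtype.ext (mul_right_cancel h')) rfl
    · rintro ⟨g, hg⟩
      obtain ⟨o, ho, k, rfl⟩ := K.mem_U.mp (hX hg)
      have hoX : o ∈ X := by simpa using mul_mem hg (inv_mem (pow_mem he (k : ℕ)))
      exact ⟨(⟨o, hoX, ho⟩, k), rfl⟩
  rw [← Nat.card_congr (Equiv.ofBijective f hf), Nat.card_prod, Nat.card_fin, mul_comm]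

theorem R_le_U : K.R ≤ K.U := by
  intro g hg
  obtain ⟨o, ho, y, rfl⟩ := K.decomp_d (K.R_comm_d hg)
  refine mem_of_sq_mem (odd_order_of_mem K.odd_R hg) ?_
  have hy : y * sU = sU * y := by
    have h := (K.R_comm_e hg).eq
    refine K.β_inj_mod ?_
    rw [map_mul, map_mul]
    have h2 : K.β y * K.e = o⁻¹ * (K.e * o * K.e⁻¹) * (K.e * K.β y) := by
      calc K.β y * K.e = o⁻¹ * (o * K.β y * K.e) := by group
        _ = o⁻¹ * (K.e * (o * K.β y)) := by rw [h]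
        _ = _ := by group
    change (K.β y * K.e)⁻¹ * (K.e * K.β y) ∈ coreCent K.d
    rw [show (K.β y * K.e)⁻¹ * (K.e * K.β y) = (K.e * K.β y)⁻¹ *
      (o⁻¹ * (K.e * o * K.e⁻¹))⁻¹ * (K.e * K.β y) by rw [h2]; group]
    simpa using K.conj_core ((K.d_comm_e.symm.mul_left (K.pair_β_comm_d y)).inv_left)
      (inv_mem (mul_mem (inv_mem ho) (K.e_normalises_d ho)))
  have hy2 : ∀ y : SL23, y * sU = sU * y → ∃ k : Fin 3, y * y = sU ^ (k : ℕ) := by decide +kernel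
  obtain ⟨k, hk⟩ := hy2 y hy
  refine K.mem_U.mpr ⟨o * (K.β y * o * (K.β y)⁻¹), mul_mem ho (K.conj_core (K.pair_β_comm_d y) ho), k, ?_⟩
  rw [show o * K.β y * (o * K.β y) = o * (K.β y * o * (K.β y)⁻¹) * (K.β y * K.β y) by group, ← map_mul,
    hk, map_pow]
  rfl

theorem R_inf_core : K.R ⊓ coreCent K.d = coreCent K.d ⊓ Subgroup.centralizer ({K.e} : Set G) :=
  le_antisymm (fun _ hx => ⟨hx.2, Subgroup.mem_centralizer_singleton_iff.mpr (K.R_comm_e hx.1)⟩) fun _ hx =>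
    ⟨K.mem_R (K.mem_CE.mpr ⟨Subgroup.mem_centralizer_singleton_iff.mp (coreCent_le _ hx.1),
      Subgroup.mem_centralizer_singleton_iff.mp hx.2⟩) (odd_order_of_mem (odd_coreCent _) hx.1), hx.1⟩

theorem card_R_d :
    Nat.card K.R = 3 * Nat.card ↥(coreCent K.d ⊓ Subgroup.centralizer ({K.e} : Set G)) := by
  rw [← K.R_inf_core]
  exact K.card_meet_U K.R_le_U (K.E_le_R K.e_mem_E)

theorem card_U : Nat.card K.U = 3 * Nat.card (coreCent K.d) := by
  rw [K.card_meet_U le_rfl (Subgroup.mem_sup_right (Subgroup.mem_zpowers _)),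
    inf_eq_right.mpr (show coreCent K.d ≤ K.U from le_sup_left)]

theorem four_U : Four K.t K.u K.U := by
  have conjU : ∀ s : G, (∀ o ∈ coreCent K.d, s * o * s⁻¹ ∈ coreCent K.d) →
      (s * K.e * s⁻¹ ∈ K.U) → ∀ x ∈ K.U, s * x * s⁻¹ ∈ K.U := by
    intro s h1 h2
    have : K.U ≤ K.U.comap (MulAut.conj s).toMonoidHom :=
      sup_le (fun o ho => Subgroup.mem_sup_left (h1 o ho)) (Subgroup.zpowers_le.mpr h2)
    exact fun x hx => this hx
  have hee : K.e ∈ K.U := Subgroup.mem_sup_right (Subgroup.mem_zpowers _)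
  refine ⟨K.t_sq, K.u_sq, K.t_comm_u, ?_, conjU K.t (fun _ => K.t_normalises_d) ?_,
    conjU K.u (fun _ => K.u_normalises_d) ?_, fun x hx ht hu => ?_⟩
  · rw [K.card_U]; exact (show Odd 3 by decide).mul (odd_coreCent _)
  · rwa [conj_eq_self K.t_comm_e]
  · rw [K.u_e]; exact inv_mem hee
  · obtain ⟨o, ho, k, rfl⟩ := K.mem_U.mp hx
    have hot : Commute o K.t := by
      have := ht.mul_left ((K.t_comm_e.pow_right (k : ℕ)).symm.inv_left)
      simpa using this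
    exact K.E_fix_u (mul_mem (Subgroup.mem_sup_left (K.cfix_d_t ▸ mem_cfix.mpr ⟨ho, hot⟩))
      (pow_mem K.e_mem_E _)) hu

theorem isPGroup_U : IsPGroup 3 K.U := K.isPGroup_of_four K.four_U.odd K.four_U.nt K.four_U.nu

theorem cfix_U_t : cfix K.U K.t = K.E := by
  refine le_antisymm (fun x hx => ?_) (fun x hx => mem_cfix.mpr ⟨K.R_le_U (K.E_le_R hx), (K.E_comm hx).2.2⟩)
  obtain ⟨o, ho, k, rfl⟩ := K.mem_U.mp (mem_cfix.mp hx).1
  have hot : Commute o K.t := by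
    have := (mem_cfix.mp hx).2.mul_left ((K.t_comm_e.pow_right (k : ℕ)).symm.inv_left)
    simpa using this
  exact mul_mem (Subgroup.mem_sup_left (K.cfix_d_t ▸ mem_cfix.mpr ⟨ho, hot⟩)) (pow_mem K.e_mem_E _)

/-- Some element of `C(d)` exchanges `u` and `tu` and fixes `t`. -/
theorem exists_q : ∃ q : G, Commute q K.d ∧ Commute q K.t ∧ q * K.u * q⁻¹ = K.t * K.u := by
  obtain ⟨q, hq⟩ := K.exists_twist_β K.u_mem_H K.u_sq K.u_d
  exact ⟨K.β q, K.pair_β_comm_d q, (K.t_comm_β q).symm, hq⟩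

theorem card_parts_d : Nat.card (coreCent K.d) = 3 * Nat.card (cfix (coreCent K.d) K.u) ^ 2 ∧
    Nat.card (cfix (coreCent K.d) K.u) = Nat.card (cfix (coreCent K.d) (K.t * K.u)) := by
  obtain ⟨q, hqd, -, hqu⟩ := K.exists_q
  exact ⟨K.card_O K.u_mem_H K.u_sq K.u_d,
    card_cent_conj (mem_normalizer_coreCent (Or.inl (conj_eq_self hqd))) hqu⟩

/-- Elements of odd order fixed by `t` that centralise `de` lie in `E`. -/
theorem mem_E_of_de {g : G} (ht : Commute g K.t) (hde : Commute g (K.d * K.e)) (ho : Odd (orderOf g)) :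
    g ∈ K.E := K.core_de_inf_H ▸ ⟨K.mem_core_de hde ho, K.mem_H.mpr ht⟩

include K in
/-- Every element of order three fixed by an involution is, in a frame, `d` or `de`. -/
theorem exists_frame {y s : G} (hs : s * s = 1) (hs1 : s ≠ 1) (hy3 : y ^ 3 = 1) (hy1 : y ≠ 1)
    (hys : Commute y s) : ∃ g : G, g * K.t * g⁻¹ = s ∧
      ((g * K.d * g⁻¹ = y ∨ g * K.e * g⁻¹ = y) ∨
        (g * (K.d * K.e) * g⁻¹ = y ∨ g * (K.d * K.e⁻¹) * g⁻¹ = y)) := by
  obtain ⟨g₀, hg₀⟩ := K.one_class s hs hs1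
  have hzt : Commute (g₀⁻¹ * y * g₀) K.t := by
    have h := hys.map (MulAut.conj g₀⁻¹).toMonoidHom
    rw [← hg₀] at h
    simpa [t, mul_assoc] using h
  have hz3 : (g₀⁻¹ * y * g₀) ^ 3 = 1 := by
    rw [show g₀⁻¹ * y * g₀ = g₀⁻¹ * y * g₀⁻¹⁻¹ by rw [inv_inv], conj_pow, hy3]; group
  obtain ⟨x, w, hx, hw, hz⟩ := K.inside_of_cube (K.mem_H.mpr hzt) hz3
  obtain ⟨p, i, hp⟩ := cube_conj_U x hx
  obtain ⟨q, j, hq⟩ := cube_conj_U w hw
  set c := g₀ * (K.α p * K.β q)⁻¹ with hc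
  have hct : c * K.t * c⁻¹ = s := by
    rw [hc, ← hg₀, show g₀ * (K.α p * K.β q)⁻¹ * K.t * (g₀ * (K.α p * K.β q)⁻¹)⁻¹ =
      g₀ * ((K.α p * K.β q)⁻¹ * K.t * (K.α p * K.β q)) * g₀⁻¹ by group,
      ((K.t_comm_α p).mul_right (K.t_comm_β q)).inv_right.symm.eq, inv_mul_cancel_right]
    rfl
  have hcy : c * (K.d ^ (i : ℕ) * K.e ^ (j : ℕ)) * c⁻¹ = y := by
    have h : K.α p * K.β q * (g₀⁻¹ * y * g₀) * (K.α p * K.β q)⁻¹ = K.d ^ (i : ℕ) * K.e ^ (j : ℕ) := by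
      rw [hz, K.pair_inv, K.pair_mul, K.pair_mul, hp, hq, map_pow, map_pow]; rfl
    rw [← h, hc]; group
  have hct' : c * K.u * K.t * (c * K.u)⁻¹ = s := by
    rw [← hct, show c * K.u * K.t * (c * K.u)⁻¹ = c * (K.u * K.t * K.u⁻¹) * c⁻¹ by group,
      conj_eq_self K.t_comm_u.symm]
  have hd2 : K.d ^ 2 = K.d⁻¹ := eq_inv_of_mul_eq_one_left (by rw [← pow_succ, K.d_cube])
  have he2 : K.e ^ 2 = K.e⁻¹ := eq_inv_of_mul_eq_one_left (by rw [← pow_succ, K.e_cube])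
  have conjU : ∀ a : G, c * K.u * a * (c * K.u)⁻¹ = c * (K.u * a * K.u⁻¹) * c⁻¹ := fun a => by group
  have mk : ∀ a : G, c * a * c⁻¹ = y → ∀ b, K.u * b * K.u⁻¹ = a → c * K.u * b * (c * K.u)⁻¹ = y :=
    fun a ha b hb => by rw [conjU, hb, ha]
  fin_cases i <;> fin_cases j <;>
    simp only [pow_zero, pow_one, one_mul, mul_one, hd2, he2] at hcy
  · exact (hy1 (hcy.symm.trans (mul_inv_cancel c))).elim
  · exact ⟨c, hct, Or.inl (Or.inr hcy)⟩
  · exact ⟨c * K.u, hct', Or.inl (Or.inr (mk _ hcy _ K.u_e))⟩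
  · exact ⟨c, hct, Or.inl (Or.inl hcy)⟩
  · exact ⟨c, hct, Or.inr (Or.inl hcy)⟩
  · exact ⟨c, hct, Or.inr (Or.inr hcy)⟩
  · exact ⟨c * K.u, hct', Or.inl (Or.inl (mk _ hcy _ K.u_d))⟩
  · refine ⟨c * K.u, hct', Or.inr (Or.inr (mk _ hcy _ ?_))⟩
    rw [show K.u * (K.d * K.e⁻¹) * K.u⁻¹ = K.u * K.d * K.u⁻¹ * (K.u * K.e * K.u⁻¹)⁻¹ by group, K.u_d,
      K.u_e, inv_inv]
  · refine ⟨c * K.u, hct', Or.inr (Or.inl (mk _ hcy _ ?_))⟩
    rw [show K.u * (K.d * K.e) * K.u⁻¹ = K.u * K.d * K.u⁻¹ * (K.u * K.e * K.u⁻¹) by group, K.u_d, K.u_e]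

end Hyp

end CfsgLib.GTwoInvol
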