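import Cfsg.Agent.Lib.GTwoInvol.Base

/-!
The fixed points of `u` in `O(C(E))` of order three are of factor type.
-/

set_option autoImplicit false
set_option linter.style.haveILetI false
set_option linter.unusedSectionVars false

namespace CfsgLib.GTwoInvol

open CfsgLib.GTwoTwoLocal (coreCent conj_mem_coreCent odd_coreCent coreCent_le mem_coreCent_self
  mem_normalizer_coreCent)

variable {G : Type*} [Group G]

theorem cube_fixed : ∀ a : SL23, a ^ 3 = 1 → delta a = a → a = 1 := by decide +kernel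

theorem nine_cases {n : ℕ} (h : n ∣ 9) : n = 1 ∨ n = 3 ∨ n = 9 := by
  obtain ⟨k, hk, rfl⟩ := (Nat.dvd_prime_pow Nat.prime_three).1 (show n ∣ 3 ^ 2 by simpa using h)
  interval_cases k <;> simp

theorem comm_right_of_mul {z a b : G} (h : Commute z (a * b)) (ha : Commute z a) : Commute z b := by
  simpa using ha.inv_right.mul_right h

theorem commute_conj_of_pm {s x z : G} (hs : s * z * s⁻¹ = z ∨ s * z * s⁻¹ = z⁻¹) (h : Commute x z) :
    Commute (s * x * s⁻¹) z := by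
  have h' : Commute (s * x * s⁻¹) (s * z * s⁻¹) := h.map (MulAut.conj s).toMonoidHom
  rcases hs with e | e <;> rw [e] at h'
  exacts [h', Commute.inv_right_iff.mp h']

/-- A twisted commutator inverted with its two arguments is trivial. -/
theorem eq_one_of_twist [Finite G] {s o r w : G} (ho : s * o * s⁻¹ = o⁻¹) (hr : s * r * s⁻¹ = r⁻¹)
    (hw : s * w * s⁻¹ = w⁻¹) (hrw : Commute r w) (how : Commute o w) (h : o * r * o⁻¹ = r * w)
    (hodd : Odd (orderOf w)) : w = 1 := by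
  have h1 : o⁻¹ * r⁻¹ * o = r⁻¹ * w⁻¹ := by
    calc o⁻¹ * r⁻¹ * o = s * o * s⁻¹ * (s * r * s⁻¹) * (s * o * s⁻¹)⁻¹ := by rw [ho, hr, inv_inv]
      _ = s * (o * r * o⁻¹) * s⁻¹ := by group
      _ = s * r * s⁻¹ * (s * w * s⁻¹) := by rw [h]; group
      _ = r⁻¹ * w⁻¹ := by rw [hr, hw]
  have h2 : o⁻¹ * r * o = r * w := by
    rw [hrw.eq, show o⁻¹ * r * o = (o⁻¹ * r⁻¹ * o)⁻¹ by group, h1]; group
  have h3 : r * 1 = r * (w * w) := by
    rw [mul_one]
    calc r = o * (o⁻¹ * r * o) * o⁻¹ := by group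
      _ = o * r * o⁻¹ * (o * w * o⁻¹) := by rw [h2]; group
      _ = r * (w * w) := by rw [conj_eq_self how, h, mul_assoc]
  exact Subgroup.mem_bot.mp (mem_of_sq_mem hodd (Subgroup.mem_bot.mpr (mul_left_cancel h3).symm))

/-- The centre of the core of `C(c)`. -/
abbrev coreCtr (c : G) : Subgroup G := coreCent c ⊓ Subgroup.centralizer (coreCent c : Set G)

theorem conj_coreCtr [Finite G] {c g z : G} (hg : g * c * g⁻¹ = c ∨ g * c * g⁻¹ = c⁻¹) (hz : z ∈ coreCtr c) :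
    g * z * g⁻¹ ∈ coreCtr c := by
  have hg' : g⁻¹ * c * g⁻¹⁻¹ = c ∨ g⁻¹ * c * g⁻¹⁻¹ = c⁻¹ := by
    rcases hg with e | e
    · left; conv_lhs => rw [← e]
      group
    · right
      have e' := congrArg (fun x => g⁻¹ * x⁻¹ * g⁻¹⁻¹) e
      simp only [inv_inv] at e'
      rw [inv_inv, ← e']
      group
  refine ⟨conj_mem_coreCent hg hz.1, Subgroup.mem_centralizer_iff.mpr fun w hw => ?_⟩
  have h : Commute (g⁻¹ * w * g⁻¹⁻¹) z := Subgroup.mem_centralizer_iff.mp hz.2 _ (conj_mem_coreCent hg' hw)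
  have h' : Commute (g * (g⁻¹ * w * g⁻¹⁻¹) * g⁻¹) (g * z * g⁻¹) := h.map (MulAut.conj g).toMonoidHom
  rw [show g * (g⁻¹ * w * g⁻¹⁻¹) * g⁻¹ = w by group] at h'
  exact h'.eq

variable [Finite G]

theorem Four.twist {t u : G} {X : Subgroup G} (F : Four t u X) : Four t (t * u) X := by
  refine ⟨F.ht, ?_, (Commute.refl t).mul_right F.htu, F.odd, F.nt, fun x hx => ?_, fun x hx h1 h2 => ?_⟩
  · rw [F.htu.symm.mul_mul_mul_comm, F.ht, F.hu, one_mul]
  · rw [show t * u * x * (t * u)⁻¹ = t * (u * x * u⁻¹) * t⁻¹ by group]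
    exact F.nt _ (F.nu x hx)
  · refine F.triv x hx h1 ?_
    have := h1.mul_right h2
    rwa [← mul_assoc, F.ht, one_mul] at this

theorem mem_zpowers_of_card {X : Subgroup G} (h : Nat.card X = 3) {x z : G} (hx : x ∈ X) (hx1 : x ≠ 1)
    (hz : z ∈ X) : z ∈ Subgroup.zpowers x := by
  have h3 : orderOf x = 3 := by
    rcases nine_cases ((Subgroup.orderOf_dvd_natCard _ hx).trans (h ▸ by norm_num : Nat.card X ∣ 9)) with
      h' | h' | h'
    · exact absurd (orderOf_eq_one_iff.mp h') hx1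
    · exact h'
    · have := Nat.le_of_dvd Nat.card_pos (Subgroup.orderOf_dvd_natCard _ hx)
      omega
  rw [Subgroup.eq_of_le_of_card_ge (Subgroup.zpowers_le.mpr hx)
    (by rw [Nat.card_zpowers, h3, h])]
  exact hz

theorem card_three_or_nine {X : Subgroup G} (h : Nat.card X ∣ 9) {x : G} (hx : x ∈ X) (hx1 : x ≠ 1) :
    Nat.card X = 3 ∨ Nat.card X = 9 := by
  rcases nine_cases h with h1 | h1
  · exact absurd (Subgroup.mem_bot.mp (Subgroup.card_eq_one.mp h1 ▸ hx)) hx1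
  · exact h1

theorem card_mono {X Y : Subgroup G} (h : X ≤ Y) : Nat.card X ≤ Nat.card Y :=
  Nat.le_of_dvd Nat.card_pos (Subgroup.card_dvd_of_le h)

namespace Hyp

variable (K : Hyp G)

theorem fix_two {x : G} (ho : Odd (orderOf x)) (ht : Commute x K.t) (hu : Commute x K.u) : x = 1 := by
  have h3 : x ^ 3 = 1 := (K.odd_cent (X := Subgroup.zpowers x) (by rwa [Nat.card_zpowers]) K.t_sq K.t_ne_one
    (fun z hz => by
      obtain ⟨k, rfl⟩ := Subgroup.mem_zpowers_iff.mp hz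
      exact ht.zpow_left k)).2.1 x (Subgroup.mem_zpowers x)
  obtain ⟨a, b, ha, hb, rfl⟩ := K.inside_of_cube (K.mem_H.mpr ht) h3
  rcases K.u_comm_iff.mp hu with ⟨h1, h2⟩ | ⟨h1, -⟩
  · rw [cube_fixed a ha h1, cube_fixed b hb h2, map_one, map_one, one_mul]
  · exact (cube_sZ a ha (by rw [← h1, ← map_pow, ha, map_one])).elim

theorem four_of_odd {X : Subgroup G} (ho : Odd (Nat.card X)) (nt : ∀ x ∈ X, K.t * x * K.t⁻¹ ∈ X)
    (nu : ∀ x ∈ X, K.u * x * K.u⁻¹ ∈ X) : Four K.t K.u X :=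
  ⟨K.t_sq, K.u_sq, K.t_comm_u, ho, nt, nu, fun _ hx => K.fix_two (odd_order_of_mem ho hx)⟩

theorem u_inv_E {a : G} (ha : a ∈ K.E) : K.u * a * K.u⁻¹ = a⁻¹ := by
  refine K.four_R.symm.inv_of_part (K.E_le_R ha) (K.E_comm ha).2.2 ?_
  rw [K.cfix_R_t]
  exact fun _ h _ h' => K.E_comm_E h h'

theorem tu_conj (a : G) : K.t * K.u * a * (K.t * K.u)⁻¹ = K.t * (K.u * a * K.u⁻¹) * K.t⁻¹ := by group

theorem comm_of_inverted {y c : G} (hy : y ∈ K.R) (hc : c ∈ K.R) (hyi : K.t * y * K.t⁻¹ = y⁻¹)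
    (hci : K.t * c * K.t⁻¹ = c⁻¹) : Commute y c := by
  have hy' := odd_order_of_mem K.odd_R hy
  have hc' := odd_order_of_mem K.odd_R hc
  have h1 := K.comm_core_d (K.mem_core_of_inverted (K.R_comm_d hy) hy' hyi)
    (K.mem_core_of_inverted (K.R_comm_d hc) hc' hci)
  have h2 := K.swap.comm_core_d (K.swap.mem_core_of_inverted (K.R_comm_e hy) hy' (by rw [t_swap]; exact hyi))
    (K.swap.mem_core_of_inverted (K.R_comm_e hc) hc' (by rw [t_swap]; exact hci))
  obtain ⟨k, hk⟩ := Subgroup.mem_zpowers_iff.mp h2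
  have hk' : K.β (sU ^ k) = y * c * y⁻¹ * c⁻¹ := by rw [map_zpow]; exact hk
  have h3 : sU ^ k = 1 := K.core_d_inf_β
    (hk' ▸ Subgroup.zpowers_le.mpr (mem_coreCent_self K.d_cube) h1)
  rw [h3, map_one, eq_comm, mul_inv_eq_one, mul_inv_eq_iff_eq_mul] at hk'
  exact hk'

/-- The frame of a fixed point of `u` is of factor type: it cannot be `de`. -/
theorem not_de (h243 : ∀ L : Hyp G, Nat.card (coreCent L.d) = 243) (hu : Nat.card (cfix K.R K.u) = 3)
    (htu : Nat.card (cfix K.R (K.t * K.u)) = 3) {y : G} (hy : y ∈ cfix K.R K.u) (hy1 : y ≠ 1) {g : G}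
    (hg : g * K.t * g⁻¹ = K.u) (hgy : g * (K.d * K.e) * g⁻¹ = y) : False := by
  -- the elements `y` and `c`
  obtain ⟨hyR, hyu⟩ := mem_cfix.mp hy
  obtain ⟨c, hc, hc1⟩ : ∃ c ∈ cfix K.R (K.t * K.u), c ≠ 1 := by
    by_contra h
    push Not at h
    rw [(Subgroup.eq_bot_iff_forall _).mpr h, Subgroup.card_bot] at htu
    omega
  obtain ⟨hcR, hctu⟩ := mem_cfix.mp hc
  obtain ⟨-, Ru3, RuC⟩ := K.part K.odd_R K.u_sq K.u_ne_one
  obtain ⟨-, Rt3, RtC⟩ := K.part K.odd_R K.tu_sq K.tu_ne_one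
  have hy3 : y ^ 3 = 1 := Ru3 y hy
  have hc3 : c ^ 3 = 1 := Rt3 c hc
  have hyt : K.t * y * K.t⁻¹ = y⁻¹ := K.four_R.inv_of_part hyR hyu RuC
  have hct : K.t * c * K.t⁻¹ = c⁻¹ := K.four_R.twist.inv_of_part hcR hctu RtC
  have hcu : K.u * c * K.u⁻¹ = c⁻¹ := K.u_inverts hctu hct
  have hyc : Commute y c := K.comm_of_inverted hyR hcR hyt hct
  have hyo : Odd (orderOf y) := odd_order_of_mem K.odd_R hyR
  have hco : Odd (orderOf c) := odd_order_of_mem K.odd_R hcR
  have yE : ∀ a ∈ K.E, Commute a y := fun a ha => by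
    obtain ⟨i, j, rfl⟩ := K.mem_E_iff.mp ha
    rw [map_pow, map_pow]
    exact ((K.R_comm_d hyR).symm.pow_left _).mul_left ((K.R_comm_e hyR).symm.pow_left _)
  have cE : ∀ a ∈ K.E, Commute a c := fun a ha => by
    obtain ⟨i, j, rfl⟩ := K.mem_E_iff.mp ha
    rw [map_pow, map_pow]
    exact ((K.R_comm_d hcR).symm.pow_left _).mul_left ((K.R_comm_e hcR).symm.pow_left _)
  -- the frame at `u`
  obtain ⟨L, hLt, hLy⟩ : ∃ L : Hyp G, L.t = K.u ∧ L.d * L.e = y :=
    ⟨K.conj g, hg, by rw [d_conj, e_conj, ← hgy]; group⟩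
  have memL : ∀ z, Commute z K.u → Commute z y → Odd (orderOf z) → z ∈ L.E := fun z h1 h2 h3 =>
    L.mem_E_of_de (by rw [hLt]; exact h1) (by rw [hLy]; exact h2) h3
  have eqL : ∀ X : Subgroup G, Odd (Nat.card X) → y ∈ X → Nat.card (cfix X K.u) = 9 →
      cfix X K.u = L.E := by
    intro X hX hyX h9
    refine Subgroup.eq_of_le_of_card_ge (fun z hz => ?_) (by rw [h9, L.card_E_eq])
    exact memL z (mem_cfix.mp hz).2
      ((K.part hX K.u_sq K.u_ne_one).2.2 z hz y (mem_cfix.mpr ⟨hyX, hyu⟩))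
      (odd_order_of_mem hX hz.1)
  have noL : (∀ z ∈ L.E, Commute z K.d ∧ Commute z K.e) → False := fun h => by
    have hle : L.E ≤ cfix K.R K.u := fun z hz => mem_cfix.mpr
      ⟨K.mem_R (K.mem_CE.mpr (h z hz)) (odd_order_of_mem L.odd_E hz), hLt ▸ L.E_comm_t hz⟩
    have := card_mono hle
    rw [L.card_E_eq, hu] at this
    omega
  -- parts of the core of `C(d)`
  obtain ⟨hd243, hdtu⟩ := K.card_parts_d
  rw [h243 K] at hd243
  have hdu : Nat.card (cfix (coreCent K.d) K.u) = 9 := by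
    rcases nine_cases (K.part (odd_coreCent K.d) K.u_sq K.u_ne_one).1 with h | h | h <;>
      rw [h] at hd243 <;> first | exact h | omega
  rw [hdu] at hdtu
  have hyd : y ∈ coreCent K.d := K.mem_core_of_inverted (K.R_comm_d hyR) hyo hyt
  have hcd : c ∈ coreCent K.d := K.mem_core_of_inverted (K.R_comm_d hcR) hco hct
  have hEu := eqL _ (odd_coreCent K.d) hyd hdu
  have Ld : ∀ z ∈ L.E, Commute z K.d := fun z hz => by
    rw [← hEu] at hz
    exact Subgroup.mem_centralizer_singleton_iff.mp (coreCent_le _ hz.1)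
  -- parts of the cores of `C(de)` and `C(y)`
  have hyde : y ∈ coreCent (K.d * K.e) := K.R_le_core_de hyR
  have hcde : c ∈ coreCent (K.d * K.e) := K.R_le_core_de hcR
  have hxu : Nat.card (cfix (coreCent (K.d * K.e)) K.u) = 3 := by
    refine (card_three_or_nine (K.part (odd_coreCent _) K.u_sq K.u_ne_one).1
      (mem_cfix.mpr ⟨hyde, hyu⟩) hy1).resolve_right fun h9 => ?_
    have h := eqL _ (odd_coreCent _) hyde h9
    refine noL fun z hz => ⟨Ld z hz, comm_right_of_mul ?_ (Ld z hz)⟩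
    rw [← h] at hz
    exact Subgroup.mem_centralizer_singleton_iff.mp (coreCent_le _ hz.1)
  have Fy : Four K.t K.u (coreCent y) := K.four_of_odd (odd_coreCent _)
    (fun _ hx => conj_mem_coreCent (Or.inr hyt) hx)
    (fun _ hx => conj_mem_coreCent (Or.inl (conj_eq_self hyu.symm)) hx)
  have memy : ∀ z, Commute z y → Odd (orderOf z) → z ∈ coreCent y := fun z h1 h2 => by
    rw [← hLy]
    exact L.mem_core_de (by rw [hLy]; exact h1) h2
  have hyT : Nat.card (cfix (coreCent y) K.t) = 9 := by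
    refine le_antisymm (Nat.le_of_dvd (by norm_num) (K.part (odd_coreCent y) K.t_sq K.t_ne_one).1) ?_
    rw [← K.card_E_eq]
    exact card_mono fun z hz =>
      mem_cfix.mpr ⟨memy z (yE z hz) (odd_order_of_mem K.odd_E hz), K.E_comm_t hz⟩
  have hyU : Nat.card (cfix (coreCent y) K.u) = 9 := by
    rw [← hLt, ← hLy, show cfix (coreCent (L.d * L.e)) L.t = L.E from L.core_de_inf_H, L.card_E_eq]
  have hyTU := card_three_or_nine (K.part (odd_coreCent y) K.tu_sq K.tu_ne_one).1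
    (mem_cfix.mpr ⟨memy c hyc.symm hco, hctu⟩) hc1
  have hxTU := card_three_or_nine (K.part (odd_coreCent (K.d * K.e)) K.tu_sq K.tu_ne_one).1
    (mem_cfix.mpr ⟨hcde, hctu⟩) hc1
  have hcards : Nat.card (coreCent y) = Nat.card (coreCent (K.d * K.e)) := by
    rw [← hgy, card_coreCent_conj]
  rw [Fy.card, K.four_de.card, hyT, hyU, hxu,
    show cfix (coreCent (K.d * K.e)) K.t = K.E from K.core_de_inf_H, K.card_E_eq] at hcards
  obtain ⟨hpy, hpx⟩ : Nat.card (cfix (coreCent y) (K.t * K.u)) = 3 ∧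
      Nat.card (cfix (coreCent (K.d * K.e)) (K.t * K.u)) = 9 := by
    rcases hyTU with h | h <;> rcases hxTU with h' | h' <;> rw [h, h'] at hcards <;>
      first | exact ⟨h, h'⟩ | omega
  -- the frame at `tu` is of factor type
  obtain ⟨M, hMt, hMd⟩ : ∃ M : Hyp G, M.t = K.t * K.u ∧ M.d = c := by
    have node : ∀ M : Hyp G, M.t = K.t * K.u → M.d * M.e = c → False := by
      intro M hMt hMc
      have hle : ∀ X : Subgroup G, Odd (Nat.card X) → c ∈ X → Nat.card (cfix X (K.t * K.u)) = 9 →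
          cfix X (K.t * K.u) = M.E := by
        intro X hX hcX h9
        refine Subgroup.eq_of_le_of_card_ge (fun z hz => ?_) (by rw [h9, M.card_E_eq])
        refine M.mem_E_of_de (by rw [hMt]; exact (mem_cfix.mp hz).2) ?_ (odd_order_of_mem hX hz.1)
        rw [hMc]
        exact (K.part hX K.tu_sq K.tu_ne_one).2.2 z hz c (mem_cfix.mpr ⟨hcX, hctu⟩)
      have h1 := hle _ (odd_coreCent K.d) hcd hdtu.symm
      have h2 := hle _ (odd_coreCent (K.d * K.e)) hcde hpx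
      have hle' : M.E ≤ cfix K.R (K.t * K.u) := fun z hz => by
        have hd : Commute z K.d := Subgroup.mem_centralizer_singleton_iff.mp (coreCent_le _ (h1.symm ▸ hz).1)
        have hde : Commute z (K.d * K.e) :=
          Subgroup.mem_centralizer_singleton_iff.mp (coreCent_le _ (h2.symm ▸ hz).1)
        exact mem_cfix.mpr ⟨K.mem_R (K.mem_CE.mpr ⟨hd, comm_right_of_mul hde hd⟩)
          (odd_order_of_mem M.odd_E hz), hMt ▸ M.E_comm_t hz⟩
      have := card_mono hle'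
      rw [M.card_E_eq, htu] at this
      omega
    obtain ⟨g', hg', (h | h) | (h | h)⟩ := K.exists_frame K.tu_sq K.tu_ne_one hc3 hc1 hctu
    · exact ⟨K.conj g', hg', h⟩
    · exact ⟨(K.conj g').swap, by rw [t_swap]; exact hg', h⟩
    · exact (node (K.conj g') hg' (by rw [d_conj, e_conj, ← h]; group)).elim
    · exact (node (K.conj g').flip hg' (by rw [d_flip, e_flip, d_conj, e_conj, ← h]; group)).elim
  -- parts of the core of `C(c)`
  have Mmem : ∀ z, Commute z c → Odd (orderOf z) → K.t * K.u * z * (K.t * K.u)⁻¹ = z⁻¹ →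
      z ∈ coreCent c := fun z h1 h2 h3 => by
    rw [← hMd]
    exact M.mem_core_of_inverted (by rw [hMd]; exact h1) h2 (by rw [hMt]; exact h3)
  have hyC : y ∈ coreCent c := Mmem y hyc hyo
    (by rw [K.tu_conj, conj_eq_self hyu.symm, hyt])
  have hEC : ∀ a ∈ K.E, a ∈ coreCent c := fun a ha => Mmem a (cE a ha) (odd_order_of_mem K.odd_E ha)
    (by rw [K.tu_conj, K.u_inv_E ha, conj_eq_self (K.E_comm_t ha).symm.inv_right])
  have hCu : cfix (coreCent c) K.u = L.E := by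
    refine eqL _ (odd_coreCent c) hyC ?_
    have h := M.card_O (s := K.u) (M.mem_H.mpr (by rw [hMt]; exact K.t_comm_u.symm.mul_right (Commute.refl _)))
      K.u_sq (by rw [hMd, hcu])
    rw [h243 M, hMd] at h
    rcases nine_cases (K.part (odd_coreCent c) K.u_sq K.u_ne_one).1 with h' | h' | h' <;>
      rw [h'] at h <;> first | exact h' | omega
  have hCt : cfix (coreCent c) K.t = K.E := by
    refine (Subgroup.eq_of_le_of_card_ge (fun a ha => mem_cfix.mpr ⟨hEC a ha, K.E_comm_t ha⟩) ?_).symm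
    rw [K.card_E_eq]
    exact Nat.le_of_dvd (by norm_num) (K.part (odd_coreCent c) K.t_sq K.t_ne_one).1
  have hCtu : cfix (coreCent c) (K.t * K.u) = Subgroup.zpowers c := by
    rw [← hMt, ← hMd]; exact M.cfix_d_t
  have Fc : Four K.t K.u (coreCent c) := K.four_of_odd (odd_coreCent _)
    (fun _ hx => conj_mem_coreCent (Or.inr hct) hx) (fun _ hx => conj_mem_coreCent (Or.inr hcu) hx)
  -- `d`, `y`, `c` are central there
  have central : ∀ z ∈ coreCent c, (K.t * z * K.t⁻¹ = z ∨ K.t * z * K.t⁻¹ = z⁻¹) →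
      (K.u * z * K.u⁻¹ = z ∨ K.u * z * K.u⁻¹ = z⁻¹) → (∀ a ∈ K.E, Commute a z) →
      (∀ a ∈ L.E, Commute a z) → Commute c z → z ∈ coreCtr c := by
    intro z hz ht' hu' h1 h2 h3
    have inv : ∀ s : G, (∀ x ∈ coreCent c, s * x * s⁻¹ ∈ coreCent c) →
        (s * z * s⁻¹ = z ∨ s * z * s⁻¹ = z⁻¹) →
        ∀ x ∈ cfix (coreCent c) z, s * x * s⁻¹ ∈ cfix (coreCent c) z := fun s hn hs x hx =>
      mem_cfix.mpr ⟨hn x (mem_cfix.mp hx).1, commute_conj_of_pm hs (mem_cfix.mp hx).2⟩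
    have hall := Fc.eq_of_parts (Y := cfix (coreCent c) z) inf_le_left (inv _ Fc.nt ht') (inv _ Fc.nu hu')
      (fun a ha => mem_cfix.mpr ⟨ha.1, h1 a (hCt ▸ ha)⟩) (fun a ha => mem_cfix.mpr ⟨ha.1, h2 a (hCu ▸ ha)⟩)
      (fun a ha => mem_cfix.mpr ⟨ha.1, by
        obtain ⟨k, rfl⟩ := Subgroup.mem_zpowers_iff.mp (hCtu ▸ ha)
        exact h3.zpow_left k⟩)
    refine ⟨hz, Subgroup.mem_centralizer_iff.mpr fun w hw => ?_⟩
    rw [SetLike.mem_coe, ← hall] at hw
    exact (mem_cfix.mp hw).2.eq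
  have LEy : ∀ a ∈ L.E, Commute a y := fun a ha => by
    rw [← hLy]; exact (L.E_comm ha).1.mul_right (L.E_comm ha).2.1
  have hdZ : K.d ∈ coreCtr c := central _ (hEC _ K.d_mem_E) (Or.inl (conj_eq_self K.t_comm_d))
    (Or.inr K.u_d) (fun a ha => (K.E_comm ha).1) Ld (K.R_comm_d hcR)
  have hyZ : y ∈ coreCtr c := central _ hyC (Or.inr hyt) (Or.inl (conj_eq_self hyu.symm)) yE LEy hyc.symm
  have Ztu : ∀ z ∈ coreCtr c, Commute z (K.t * K.u) → z ∈ Subgroup.zpowers c := fun z hz h =>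
    hCtu ▸ mem_cfix.mpr ⟨hz.1, h⟩
  have Zu : ∀ z ∈ coreCtr c, Commute z K.u → z ∈ Subgroup.zpowers y := fun z hz h => by
    refine mem_zpowers_of_card hu hy hy1 (mem_cfix.mpr ⟨?_, h⟩)
    have hd : Commute z K.d := (Subgroup.mem_centralizer_iff.mp hz.2 _ (hEC _ K.d_mem_E) :
      Commute K.d z).symm
    have he : Commute z K.e := (Subgroup.mem_centralizer_iff.mp hz.2 _ (hEC _ K.e_mem_E) :
      Commute K.e z).symm
    exact K.mem_R (K.mem_CE.mpr ⟨hd, he⟩) (odd_order_of_mem (odd_coreCent _) hz.1)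
  have Zt : ∀ z ∈ coreCtr c, Commute z K.t → z ∈ Subgroup.zpowers K.d := by
    have hmem : K.d ∈ cfix (coreCtr c) K.t := mem_cfix.mpr ⟨hdZ, K.t_comm_d.symm⟩
    have hle : cfix (coreCtr c) K.t ≤ K.E := fun z hz =>
      hCt ▸ mem_cfix.mpr ⟨hz.1.1, (mem_cfix.mp hz).2⟩
    have h3 : Nat.card (cfix (coreCtr c) K.t) = 3 := by
      refine (card_three_or_nine (K.card_E_eq ▸ Subgroup.card_dvd_of_le hle) hmem K.d_ne).resolve_right
        fun h9 => noL fun z hz => ⟨Ld z hz, ?_⟩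
      have he : K.e ∈ cfix (coreCtr c) K.t :=
        Subgroup.eq_of_le_of_card_ge hle (by rw [K.card_E_eq, h9]) ▸ K.e_mem_E
      exact Subgroup.mem_centralizer_iff.mp he.1.2 z (hCu.symm ▸ hz : z ∈ cfix (coreCent c) K.u).1
    exact fun z hz h => mem_zpowers_of_card h3 hmem K.d_ne (mem_cfix.mpr ⟨hz, h⟩)
  -- an element `o` of `C(de)` fixed by `tu` outside `⟨c⟩`
  set T := cfix (coreCent (K.d * K.e)) (K.t * K.u) with hT
  obtain ⟨-, T3, TC⟩ := K.part (odd_coreCent (K.d * K.e)) K.tu_sq K.tu_ne_one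
  have hcT : c ∈ T := mem_cfix.mpr ⟨hcde, hctu⟩
  obtain ⟨o, hoT, hoc⟩ : ∃ o ∈ T, o ∉ Subgroup.zpowers c := by
    by_contra h
    push Not at h
    have := card_mono h
    rw [hT, hpx, Nat.card_zpowers, orderOf_eq_prime hc3 hc1] at this
    omega
  have Tinv : ∀ a ∈ T, K.t * a * K.t⁻¹ = a⁻¹ ∧ K.u * a * K.u⁻¹ = a⁻¹ := fun a ha => by
    have h := K.four_de.twist.inv_of_part ha.1 (mem_cfix.mp ha).2 TC
    exact ⟨h, K.u_inverts (mem_cfix.mp ha).2 h⟩
  have hocm : Commute o c := TC o hoT c hcT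
  have hoo : Odd (orderOf o) := odd_order_of_mem (odd_coreCent _) hoT.1
  have hotu : Commute o (K.t * K.u) := (mem_cfix.mp hoT).2
  have hoZn : Subgroup.zpowers o ≤ Subgroup.normalizer (coreCtr c : Set G) :=
    Subgroup.zpowers_le.mpr (CfsgLib.SymNineThree.mem_normalizer_of_le _
      fun z hz => conj_coreCtr (Or.inl (conj_eq_self hocm)) hz)
  set P := coreCtr c ⊔ Subgroup.zpowers o with hP
  have memP : ∀ r ∈ P, ∃ z ∈ coreCtr c, ∃ k : ℤ, r = z * o ^ k := fun r hr => by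
    have hr' : r ∈ ((P : Subgroup G) : Set G) := hr
    rw [hP, Subgroup.coe_mul_of_right_le_normalizer_left _ _ hoZn] at hr'
    obtain ⟨z, hz, a, ha, rfl⟩ := hr'
    obtain ⟨k, rfl⟩ := Subgroup.mem_zpowers_iff.mp ha
    exact ⟨z, hz, k, rfl⟩
  haveI : Fact (Nat.Prime 3) := ⟨Nat.prime_three⟩
  have hPp : IsPGroup 3 P := by
    rw [hP, sup_comm]
    refine IsPGroup.to_sup_of_normal_right' (IsPGroup.of_card (n := 1) ?_)
      ((hMd ▸ M.isPGroup_core_d : IsPGroup 3 (coreCent c)).to_le inf_le_left) hoZn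
    rw [Nat.card_zpowers, orderOf_eq_prime (T3 o hoT) (fun h => hoc (h ▸ one_mem _)), pow_one]
  have hPodd : Odd (Nat.card P) := by
    obtain ⟨n, hn⟩ := hPp.exists_card_eq
    rw [hn]; exact (show Odd 3 by decide).pow
  have Pinv : ∀ s : G, s * o * s⁻¹ = o⁻¹ → (s * c * s⁻¹ = c ∨ s * c * s⁻¹ = c⁻¹) →
      ∀ x ∈ P, s * x * s⁻¹ ∈ P := by
    intro s hs hsc
    have : P ≤ P.comap (MulAut.conj s).toMonoidHom :=
      sup_le (fun z hz => Subgroup.mem_sup_left (conj_coreCtr hsc hz))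
        (Subgroup.zpowers_le.mpr (show s * o * s⁻¹ ∈ P by
          rw [hs]; exact inv_mem (Subgroup.mem_sup_right (Subgroup.mem_zpowers _))))
    exact fun x hx => this hx
  have FP : Four K.t K.u P := K.four_of_odd hPodd (Pinv _ (Tinv o hoT).1 (Or.inr hct))
    (Pinv _ (Tinv o hoT).2 (Or.inr hcu))
  have inZ : ∀ s : G, s * o * s⁻¹ = o⁻¹ → (s * c * s⁻¹ = c ∨ s * c * s⁻¹ = c⁻¹) →
      ∀ r ∈ P, Commute r s → r ∈ coreCtr c := by
    intro s hs hsc r hr hrs
    obtain ⟨z, hz, k, rfl⟩ := memP r hr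
    have hk : o ^ k * o ^ k ∈ coreCtr c := by
      have h1 : s * z * s⁻¹ * (o ^ k)⁻¹ = z * o ^ k := by
        calc s * z * s⁻¹ * (o ^ k)⁻¹ = s * z * s⁻¹ * (s * o * s⁻¹) ^ k := by rw [hs, inv_zpow]
          _ = s * (z * o ^ k) * s⁻¹ := by rw [conj_zpow]; group
          _ = z * o ^ k := conj_eq_self hrs.symm
      have : o ^ k * o ^ k = z⁻¹ * (s * z * s⁻¹) := by
        calc o ^ k * o ^ k = z⁻¹ * (z * o ^ k) * o ^ k := by rw [inv_mul_cancel_left]
          _ = _ := by rw [← h1]; group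
      rw [this]
      exact mul_mem (inv_mem hz) (conj_coreCtr hsc hz)
    exact mul_mem hz (mem_of_sq_mem (odd_order_of_mem (X := Subgroup.zpowers o)
      (by rwa [Nat.card_zpowers]) (zpow_mem (Subgroup.mem_zpowers _) k)) hk)
  have hTP : T ≤ P := by
    intro a ha
    by_contra hno
    have hlt : Subgroup.zpowers c ⊔ Subgroup.zpowers o ≤ T :=
      sup_le (Subgroup.zpowers_le.mpr hcT) (Subgroup.zpowers_le.mpr hoT)
    have hcP : c ∈ P := Subgroup.mem_sup_left (central c (hMd ▸ mem_coreCent_self M.d_cube) (Or.inr hct)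
      (Or.inr hcu) cE (fun z hz => by
        have hz' : z ∈ cfix (coreCent c) K.u := hCu.symm ▸ hz
        exact Subgroup.mem_centralizer_singleton_iff.mp (coreCent_le _ hz'.1)) (Commute.refl c))
    have hle3 : Subgroup.zpowers c ≤ Subgroup.zpowers c ⊔ Subgroup.zpowers o := le_sup_left
    have hne : Subgroup.zpowers c ≠ Subgroup.zpowers c ⊔ Subgroup.zpowers o :=
      fun h => hoc (h ▸ Subgroup.mem_sup_right (Subgroup.mem_zpowers o))
    have hcard : Nat.card ↥(Subgroup.zpowers c ⊔ Subgroup.zpowers o) = 9 := by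
      have hd9 : Nat.card ↥(Subgroup.zpowers c ⊔ Subgroup.zpowers o) ∣ 9 :=
        hpx ▸ Subgroup.card_dvd_of_le hlt
      refine (card_three_or_nine hd9 (Subgroup.mem_sup_left (Subgroup.mem_zpowers c)) hc1).resolve_left
        fun h3 => hne ?_
      exact Subgroup.eq_of_le_of_card_ge hle3
        (by rw [h3, Nat.card_zpowers, orderOf_eq_prime hc3 hc1])
    refine hno ?_
    rw [← Subgroup.eq_of_le_of_card_ge hlt (by rw [hcard, hT, hpx])] at ha
    exact (sup_le (Subgroup.zpowers_le.mpr hcP)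
      (Subgroup.zpowers_le.mpr (Subgroup.mem_sup_right (Subgroup.mem_zpowers o)))) ha
  have hdT : K.d ∉ T := fun h => K.d_ne (K.fix_two (odd_order_of_mem K.odd_E K.d_mem_E) K.t_comm_d.symm
    (K.t_mul_tu ▸ K.t_comm_d.symm.mul_right (mem_cfix.mp h).2))
  obtain ⟨r, hrP, hrT, hrN, hrW⟩ := FP.grow hPp hTP
    (fun h => hdT (h ▸ Subgroup.mem_sup_left hdZ))
    (fun a ha => by rw [(Tinv a ha).1]; exact inv_mem ha)
    (fun a ha => by rw [(Tinv a ha).2]; exact inv_mem ha)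
  -- `o` centralises `r`
  have finish : ∀ s : G, r ∈ coreCtr c → s * o * s⁻¹ = o⁻¹ → s * c * s⁻¹ = c⁻¹ → s * r * s⁻¹ = r⁻¹ →
      Commute o r := by
    intro s hrZ hso hsc hsr
    have hw : r⁻¹ * (o * r * o⁻¹) ∈ Subgroup.zpowers c := by
      refine Ztu _ (mul_mem (inv_mem hrZ) (conj_coreCtr (Or.inl (conj_eq_self hocm)) hrZ)) ?_
      have hT' : r⁻¹ * (o * r * o⁻¹) ∈ T := by
        rw [show r⁻¹ * (o * r * o⁻¹) = r⁻¹ * o * r⁻¹⁻¹ * o⁻¹ by group]
        exact mul_mem ((Subgroup.mem_normalizer_iff.mp (inv_mem hrN) o).mp hoT) (inv_mem hoT)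
      exact (mem_cfix.mp hT').2
    obtain ⟨k, hk⟩ := Subgroup.mem_zpowers_iff.mp hw
    have hrc : Commute r c :=
      (Subgroup.mem_centralizer_singleton_iff.mp (coreCent_le _ hrZ.1))
    have hck : c ^ k = 1 := by
      refine eq_one_of_twist hso hsr ?_ (hrc.zpow_right k) (hocm.zpow_right k) ?_
        (odd_order_of_mem (odd_coreCent (K.d * K.e)) (zpow_mem hcde k))
      · rw [← conj_zpow, hsc, inv_zpow]
      · rw [hk, mul_inv_cancel_left]
    rw [hck] at hk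
    rw [eq_comm, inv_mul_eq_one] at hk
    exact (mul_inv_eq_iff_eq_mul.mp hk.symm)
  have gen : ∀ z w : G, z ^ 3 = 1 → z ≠ 1 → w ∈ Subgroup.zpowers z → w ≠ 1 → Commute o w → Commute o z := by
    intro z w hz3 hz1 hw hw1 h
    have hz : z ∈ Subgroup.zpowers w := mem_zpowers_of_card
      (X := Subgroup.zpowers z) (by rw [Nat.card_zpowers, orderOf_eq_prime hz3 hz1]) hw hw1
      (Subgroup.mem_zpowers z)
    obtain ⟨k, rfl⟩ := Subgroup.mem_zpowers_iff.mp hz
    exact h.zpow_right k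
  have hr1 : r ≠ 1 := fun h => hrT (h ▸ one_mem _)
  rcases hrW with hrt | hru | hrtu
  · -- `o` centralises `d`, so lies in `R`
    have hrZ := inZ K.t (Tinv o hoT).1 (Or.inr hct) r hrP hrt
    have hrE : r ∈ K.E := hCt ▸ mem_cfix.mpr ⟨hrZ.1, hrt⟩
    have h := finish K.u hrZ (Tinv o hoT).2 hcu (K.u_inv_E hrE)
    have hod := gen K.d r K.d_cube K.d_ne (Zt r hrZ hrt) hr1 h
    have hode : Commute o (K.d * K.e) := Subgroup.mem_centralizer_singleton_iff.mp (coreCent_le _ hoT.1)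
    exact hoc (mem_zpowers_of_card htu hc hc1
      (mem_cfix.mpr ⟨K.mem_R (K.mem_CE.mpr ⟨hod, comm_right_of_mul hode hod⟩) hoo, hotu⟩))
  · -- `o` centralises `y`
    have hrZ := inZ K.u (Tinv o hoT).2 (Or.inr hcu) r hrP hru
    have hry := Zu r hrZ hru
    have hrt' : K.t * r * K.t⁻¹ = r⁻¹ := by
      obtain ⟨k, rfl⟩ := Subgroup.mem_zpowers_iff.mp hry
      rw [← conj_zpow, hyt, inv_zpow]
    have hoy := gen y r hy3 hy1 hry hr1 (finish K.t hrZ (Tinv o hoT).1 hct hrt')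
    exact hoc (mem_zpowers_of_card hpy (mem_cfix.mpr ⟨memy c hyc.symm hco, hctu⟩) hc1
      (mem_cfix.mpr ⟨memy o hoy hoo, hotu⟩))
  · -- the fixed points of `tu` lie in `T`
    obtain ⟨z, hz, k, rfl⟩ := memP r hrP
    have hztu : Commute z (K.t * K.u) := by
      simpa using hrtu.mul_left ((hotu.zpow_left k).inv_left)
    exact hrT (mul_mem ((Subgroup.zpowers_le.mpr hcT) (Ztu z hz hztu)) (zpow_mem hoT k))

/-- In the smallest case a fixed point of `u` in `O(C(E))` is of factor type. -/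
theorem factor_of_parts (h243 : ∀ L : Hyp G, Nat.card (coreCent L.d) = 243)
    (hu : Nat.card (cfix K.R K.u) = 3) (htu : Nat.card (cfix K.R (K.t * K.u)) = 3) {y : G}
    (hy : y ∈ cfix K.R K.u) (hy1 : y ≠ 1) :
    ∃ g, g * K.t * g⁻¹ = K.u ∧ (g * K.d * g⁻¹ = y ∨ g * K.e * g⁻¹ = y) := by
  obtain ⟨g, hg, h | h | h⟩ := K.exists_frame K.u_sq K.u_ne_one
    ((K.part K.odd_R K.u_sq K.u_ne_one).2.1 y hy) hy1 (mem_cfix.mp hy).2
  · exact ⟨g, hg, h⟩
  · exact (K.not_de h243 hu htu hy hy1 hg h).elim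
  · refine (K.flip.not_de (y := y) (g := g) h243 ?_ ?_ ?_ hy1 hg ?_).elim
    · rw [K.R_flip]; exact hu
    · rw [K.R_flip, t_flip]; exact htu
    · rw [K.R_flip]; exact hy
    · rw [d_flip, e_flip]; exact h

end Hyp

end CfsgLib.GTwoInvol
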