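import Cfsg.Agent.Lib.GTwoInvol.LocalModel
import Cfsg.Agent.Lib.GTwoTwoLocal.Count

/-!
The map of `C(t)` onto `S₃` which kills the first factor and the quaternion group of the second, the order
of `C(t)`, and the number of pairs of involutions whose product maps to a three-cycle.
-/

set_option autoImplicit false
set_option linter.style.haveILetI false
set_option linter.unusedSectionVars false

namespace CfsgLib.GTwoInvol

open CfsgLib.GTwoTwoLocal (Three)

/-- The three-cycle. -/
def rot : Equiv.Perm (Fin 3) := Equiv.swap 0 1 * Equiv.swap 1 2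

/-- The quaternion subgroup: trace zero or scalar. -/
def InQ (y : SL23) : Prop := y.1 0 0 + y.1 1 1 = 0 ∨ (y.1 0 1 = 0 ∧ y.1 1 0 = 0 ∧ y.1 0 0 = y.1 1 1)

instance : DecidablePred InQ := fun y =>
  inferInstanceAs (Decidable (y.1 0 0 + y.1 1 1 = 0 ∨ (y.1 0 1 = 0 ∧ y.1 1 0 = 0 ∧ y.1 0 0 = y.1 1 1)))

/-- The image of an element of the second factor: it is killed exactly when it has order dividing four. -/
def psi (y : SL23) : Equiv.Perm (Fin 3) :=
  if InQ y then 1 else if InQ (y * sU * sU) then rot else rot * rot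

/-- The image of a coset of the product of the two factors. -/
def outer : Bool → Equiv.Perm (Fin 3)
  | false => 1
  | true => Equiv.swap 1 2

/-- `delta`, applied when the Boolean is true. -/
def tw : Bool → SL23 → SL23
  | false => id
  | true => delta

theorem psi_hom : ∀ y y' : SL23, psi (y * y') = psi y * psi y' := by decide +kernel

theorem psi_delta : ∀ y : SL23, psi (delta y) * outer true = outer true * psi y := by decide +kernel

theorem outer_mul : ∀ b b' : Bool, outer (Bool.xor b b') = outer b * outer b' := by decide +kernel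

theorem psi_mul (b b' : Bool) (y y' : SL23) :
    psi (y * tw b y') * outer (Bool.xor b b') = psi y * outer b * (psi y' * outer b') := by
  rw [psi_hom, outer_mul]
  cases b
  · simp [tw, outer, mul_assoc]
  · rw [show tw true y' = delta y' from rfl, mul_assoc (psi y), ← mul_assoc (psi (delta y')), psi_delta]
    simp only [mul_assoc]

theorem psi_sZ : ∀ y : SL23, psi (y * sZ) = psi y := by decide +kernel

theorem psi_one : psi 1 = 1 := by decide +kernel

theorem psi_onto : ∀ σ : Equiv.Perm (Fin 3), ∃ y : SL23, ∃ b : Bool, psi y * outer b = σ := by decide +kernel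

/-- One representative in each coset of the centre. -/
def Pos (x : SL23) : Prop := x.1 0 0 = 1 ∨ (x.1 0 0 = 0 ∧ x.1 0 1 = 1)

instance : DecidablePred Pos := fun x => inferInstanceAs (Decidable (x.1 0 0 = 1 ∨ (x.1 0 0 = 0 ∧ x.1 0 1 = 1)))

theorem pos_or : ∀ x : SL23, Pos x ∨ Pos (x * sZ) := by decide +kernel

theorem pos_not : ∀ x : SL23, Pos x → ¬ Pos (x * sZ) := by decide +kernel

theorem card_pos : (Finset.univ.filter fun x : SL23 => Pos x).card = 12 := by decide +kernel

/-- An element of the model squares to one. -/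
def SqOne (m : SL23 × SL23 × Bool) : Prop :=
  (m.1 * tw m.2.2 m.1 = 1 ∧ m.2.1 * tw m.2.2 m.2.1 = 1) ∨ (m.1 * tw m.2.2 m.1 = sZ ∧ m.2.1 * tw m.2.2 m.2.1 = sZ)

instance : DecidablePred SqOne := fun m => inferInstanceAs (Decidable ((_ ∧ _) ∨ (_ ∧ _)))

/-- An element of the model is trivial in the group. -/
def Triv (m : SL23 × SL23 × Bool) : Prop :=
  m.2.2 = false ∧ ((m.1 = 1 ∧ m.2.1 = 1) ∨ (m.1 = sZ ∧ m.2.1 = sZ))

instance : DecidablePred Triv := fun m => inferInstanceAs (Decidable (_ ∧ _))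

theorem count_model : ∀ σ : Equiv.Perm (Fin 3),
    (Finset.univ.filter fun m : SL23 × SL23 × Bool => Pos m.1 ∧ SqOne m ∧ ¬ Triv m ∧ psi m.2.1 * outer m.2.2 = σ).card =
      if σ = 1 then 19 else if σ ^ 2 = 1 then 24 else 0 := by
  decide +kernel

theorem pair_total : ∑ v ∈ (Finset.univ.filter fun v : Equiv.Perm (Fin 3) × Equiv.Perm (Fin 3) => Three (v.1 * v.2)),
    (if v.1 = 1 then 19 else if v.1 ^ 2 = 1 then 24 else 0) *
      (if v.2 = 1 then 19 else if v.2 ^ 2 = 1 then 24 else 0) = 3456 := by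
  decide +kernel

namespace Hyp

variable {G : Type*} [Group G] (K : Hyp G)

/-- The element with the given coordinates. -/
def el (m : SL23 × SL23 × Bool) : K.H :=
  ⟨K.α m.1 * K.β m.2.1 * (bif m.2.2 then K.u else 1), mul_mem (K.pair_mem_H _ _) (by
    cases m.2.2
    · exact one_mem _
    · exact K.u_mem_H)⟩

theorem el_val (m : SL23 × SL23 × Bool) :
    (K.el m : G) = K.α m.1 * K.β m.2.1 * (bif m.2.2 then K.u else 1) := rfl

theorem exists_el (g : K.H) : ∃ m, K.el m = g := by
  obtain ⟨x, y, h | h⟩ := K.exists_pair g.2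
  · exact ⟨(x, y, false), Subtype.ext (by rw [el_val, h]; simp)⟩
  · exact ⟨(x, y, true), Subtype.ext (by rw [el_val, h]; simp)⟩

theorem el_mul (m m' : SL23 × SL23 × Bool) :
    K.el m * K.el m' = K.el (m.1 * tw m.2.2 m'.1, m.2.1 * tw m.2.2 m'.2.1, Bool.xor m.2.2 m'.2.2) := by
  obtain ⟨x, y, b⟩ := m
  obtain ⟨x', y', b'⟩ := m'
  refine Subtype.ext ?_
  simp only [Subgroup.coe_mul, el_val, map_mul]
  cases b
  · simp only [tw, id, cond_false, Bool.false_xor, mul_one]
    rw [show K.α x * K.β y * (K.α x' * K.β y' * (bif b' then K.u else 1)) =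
      K.α x * (K.β y * K.α x') * K.β y' * (bif b' then K.u else 1) by group, ← (K.comm x' y).eq]
    group
  · simp only [tw, cond_true, Bool.true_xor]
    rw [show K.α x * K.β y * K.u * (K.α x' * K.β y' * (bif b' then K.u else 1)) =
        K.α x * K.β y * (K.u * K.α x') * K.β y' * (bif b' then K.u else 1) by group, K.u_α,
      show K.α x * K.β y * (K.α (delta x') * K.u) * K.β y' * (bif b' then K.u else 1) =
        K.α x * K.β y * K.α (delta x') * (K.u * K.β y') * (bif b' then K.u else 1) by group, K.u_β,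
      show K.α x * K.β y * K.α (delta x') * (K.β (delta y') * K.u) * (bif b' then K.u else 1) =
        K.α x * (K.β y * K.α (delta x')) * K.β (delta y') * (K.u * bif b' then K.u else 1) by group,
      ← (K.comm (delta x') y).eq]
    cases b' <;> simp only [cond_true, cond_false, Bool.not_true, Bool.not_false, mul_one, K.u_sq] <;> group

theorem el_eq {m m' : SL23 × SL23 × Bool} (h : K.el m = K.el m') :
    m.2.2 = m'.2.2 ∧ ((m.1 = m'.1 ∧ m.2.1 = m'.2.1) ∨ (m.1 = m'.1 * sZ ∧ m.2.1 = m'.2.1 * sZ)) := by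
  obtain ⟨x, y, b⟩ := m
  obtain ⟨x', y', b'⟩ := m'
  have hv : K.α x * K.β y * (bif b then K.u else 1) = K.α x' * K.β y' * (bif b' then K.u else 1) :=
    congrArg Subtype.val h
  have hne : ∀ x y x' y' : SL23, K.α x * K.β y ≠ K.α x' * K.β y' * K.u := fun x y x' y' h => by
    refine K.pair_ne_u (x'⁻¹ * x) (y'⁻¹ * y) ?_
    rw [map_mul, map_mul, map_inv, map_inv]
    calc (K.α x')⁻¹ * K.α x * ((K.β y')⁻¹ * K.β y) = (K.α x')⁻¹ * (K.α x * (K.β y')⁻¹) * K.β y := by group
      _ = (K.α x')⁻¹ * ((K.β y')⁻¹ * K.α x) * K.β y := by rw [((K.comm x y').inv_right).eq]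
      _ = (K.α x')⁻¹ * (K.β y')⁻¹ * (K.α x * K.β y) := by group
      _ = (K.α x')⁻¹ * (K.β y')⁻¹ * (K.α x' * K.β y') * K.u := by rw [h]; group
      _ = K.u := by rw [(K.comm x' y').eq]; group
  cases b <;> cases b' <;> simp only [cond_true, cond_false, mul_one] at hv
  · exact ⟨rfl, K.pair_eq hv⟩
  · exact absurd hv (hne x y x' y')
  · exact absurd hv.symm (hne x' y' x y)
  · exact ⟨rfl, K.pair_eq (mul_right_cancel hv)⟩

/-- The element with the given coordinates, the first one normalised. -/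
def elPos (m : {m : SL23 × SL23 × Bool // Pos m.1}) : K.H := K.el m.1

theorem elPos_bijective : Function.Bijective K.elPos := by
  constructor
  · rintro ⟨⟨x, y, b⟩, hx⟩ ⟨⟨x', y', b'⟩, hx'⟩ h
    obtain ⟨hb, ⟨e1, e2⟩ | ⟨e1, -⟩⟩ := K.el_eq h
    · exact Subtype.ext (Prod.ext e1 (Prod.ext e2 hb))
    · exact absurd (e1 ▸ hx) (pos_not x' hx')
  · intro g
    obtain ⟨⟨x, y, b⟩, hm⟩ := K.exists_el g
    rcases pos_or x with hx | hx
    · exact ⟨⟨(x, y, b), hx⟩, hm⟩
    · refine ⟨⟨(x * sZ, y * sZ, b), hx⟩, ?_⟩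
      rw [← hm]
      refine Subtype.ext ?_
      show K.α (x * sZ) * K.β (y * sZ) * _ = K.α x * K.β y * _
      rw [map_mul, map_mul, show K.α x * K.α sZ * (K.β y * K.β sZ) = K.α x * (K.α sZ * K.β y) * K.β sZ by group,
        (K.comm sZ y).eq, ← K.z_eq,
        show K.α x * (K.β y * K.α sZ) * K.α sZ = K.α x * K.β y * (K.α sZ * K.α sZ) by group, ← map_mul K.α sZ sZ,
        sZ_sq, map_one, mul_one]

theorem el_eq_one_iff (m : SL23 × SL23 × Bool) : K.el m = 1 ↔ Triv m := by
  have h1 : K.el (1, 1, false) = 1 := Subtype.ext (by simp [el_val])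
  constructor
  · intro h
    obtain ⟨hb, h'⟩ := K.el_eq (h.trans h1.symm)
    exact ⟨hb, by simpa using h'⟩
  · obtain ⟨x, y, b⟩ := m
    rintro ⟨rfl, ⟨rfl, rfl⟩ | ⟨rfl, rfl⟩⟩
    · exact h1
    · refine Subtype.ext ?_
      rw [el_val, cond_false, mul_one, ← K.z_eq]
      show K.α sZ * K.α sZ = 1
      rw [← map_mul, sZ_sq, map_one]

theorem el_sq_iff (m : SL23 × SL23 × Bool) : K.el m * K.el m = 1 ↔ SqOne m := by
  rw [K.el_mul, K.el_eq_one_iff, Triv, SqOne, Bool.xor_self]
  simp only [true_and]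

theorem card_H_eq : Nat.card K.H = 576 := by
  rw [← Nat.card_eq_of_bijective _ K.elPos_bijective, Nat.card_eq_fintype_card, Fintype.card_subtype]
  have h : (Finset.univ.filter fun m : SL23 × SL23 × Bool => Pos m.1) =
      (Finset.univ.filter fun x : SL23 => Pos x) ×ˢ (Finset.univ : Finset (SL23 × Bool)) := by
    ext m; simp
  rw [h, Finset.card_product, card_pos, Finset.card_univ, Fintype.card_prod, Fintype.card_bool,
    ← Nat.card_eq_fintype_card, card_SL23]

/-- The value of the map onto `S₃`. -/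
noncomputable def thetaFun (g : K.H) : Equiv.Perm (Fin 3) :=
  psi (K.exists_el g).choose.2.1 * outer (K.exists_el g).choose.2.2

theorem thetaFun_el (m : SL23 × SL23 × Bool) : K.thetaFun (K.el m) = psi m.2.1 * outer m.2.2 := by
  obtain ⟨hb, h⟩ := K.el_eq (K.exists_el (K.el m)).choose_spec
  rw [thetaFun, hb]
  rcases h with ⟨-, h⟩ | ⟨-, h⟩ <;> rw [h]
  rw [psi_sZ]

/-- The map onto `S₃`. -/
noncomputable def theta : K.H →* Equiv.Perm (Fin 3) where
  toFun := K.thetaFun
  map_one' := by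
    rw [← (K.el_eq_one_iff (1, 1, false)).2 ⟨rfl, Or.inl ⟨rfl, rfl⟩⟩, thetaFun_el, psi_one]
    rfl
  map_mul' a b := by
    obtain ⟨m, rfl⟩ := K.exists_el a
    obtain ⟨m', rfl⟩ := K.exists_el b
    rw [K.el_mul, thetaFun_el, thetaFun_el, thetaFun_el]
    exact psi_mul _ _ _ _

theorem theta_el (m : SL23 × SL23 × Bool) : K.theta (K.el m) = psi m.2.1 * outer m.2.2 := K.thetaFun_el m

theorem theta_surjective : Function.Surjective K.theta := fun σ => by
  obtain ⟨y, b, h⟩ := psi_onto σ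
  exact ⟨K.el (1, y, b), by rw [theta_el, h]⟩

theorem count_theta [Finite G] (σ : Equiv.Perm (Fin 3)) :
    Nat.card {h : K.H // (h * h = 1 ∧ h ≠ 1) ∧ K.theta h = σ} =
      if σ = 1 then 19 else if σ ^ 2 = 1 then 24 else 0 := by
  rw [← count_model σ, ← Fintype.card_subtype, ← Nat.card_eq_fintype_card]
  refine (Nat.card_congr ?_).symm
  refine Equiv.trans ?_ ((Equiv.ofBijective _ K.elPos_bijective).subtypeEquiv
    (p := fun m => SqOne m.1 ∧ ¬ Triv m.1 ∧ psi m.1.2.1 * outer m.1.2.2 = σ) fun m => ?_)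
  · exact (Equiv.subtypeSubtypeEquivSubtypeInter (fun m : SL23 × SL23 × Bool => Pos m.1)
      (fun m => SqOne m ∧ ¬ Triv m ∧ psi m.2.1 * outer m.2.2 = σ)).symm
  · show _ ↔ (K.el m.1 * K.el m.1 = 1 ∧ K.el m.1 ≠ 1) ∧ K.theta (K.el m.1) = σ
    rw [K.el_sq_iff, Ne, K.el_eq_one_iff, theta_el, and_assoc]

/-- The number of pairs of involutions with product mapping to a three-cycle. -/
theorem pair_count [Finite G] :
    Nat.card {q : K.H × K.H // (q.1 * q.1 = 1 ∧ q.1 ≠ 1) ∧ (q.2 * q.2 = 1 ∧ q.2 ≠ 1) ∧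
      Three (K.theta (q.1 * q.2))} = 3456 := by
  classical
  haveI : Fintype K.H := Fintype.ofFinite _
  have hc : ∀ σ, (Finset.univ.filter fun h : K.H => (h * h = 1 ∧ h ≠ 1) ∧ K.theta h = σ).card =
      if σ = 1 then 19 else if σ ^ 2 = 1 then 24 else 0 := fun σ => by
    rw [← K.count_theta σ, Nat.card_eq_fintype_card, Fintype.card_subtype]
  rw [← pair_total, Nat.card_eq_fintype_card, Fintype.card_subtype,
    Finset.card_eq_sum_card_fiberwise (f := fun q : K.H × K.H => (K.theta q.1, K.theta q.2))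
      (t := Finset.univ.filter fun v => Three (v.1 * v.2)) (fun q hq => by
        simp only [Finset.coe_filter, Finset.mem_univ, true_and, Set.mem_ofPred_eq] at hq ⊢
        rw [← map_mul]; exact hq.2.2)]
  refine Finset.sum_congr rfl fun v hv => ?_
  rw [← hc, ← hc, ← Finset.card_product]
  refine congrArg Finset.card ?_
  ext q
  simp only [Finset.mem_filter, Finset.mem_univ, true_and, Finset.mem_product, Prod.ext_iff, map_mul] at hv ⊢
  constructor
  · rintro ⟨⟨h1, h2, -⟩, e1, e2⟩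
    exact ⟨⟨h1, e1⟩, ⟨h2, e2⟩⟩
  · rintro ⟨⟨h1, e1⟩, ⟨h2, e2⟩⟩
    exact ⟨⟨h1, h2, by rw [e1, e2]; exact hv⟩, e1, e2⟩

end Hyp

end CfsgLib.GTwoInvol
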