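import Cfsg.Agent.Lib.GTwoInvol.LocalDeg
import Cfsg.Agent.Lib.GTwoInvol.DegenModel
import Cfsg.Agent.Lib.NineTI.FreeSum

/-!
The degenerate case `C(⟨d, e⟩) ≤ C(t)` does not occur: then `C(t)` is strongly embedded for the elements
of order three, and the norm-three count gives an impossible index.
-/

set_option autoImplicit false
set_option linter.style.haveILetI false
set_option linter.unusedSectionVars false

namespace CfsgLib.GTwoInvol

open CfsgLib.GTwoTwoLocal (Three)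

theorem cube_conj : ∀ x : SL23, x * x * x = 1 → ∃ g : SL23, ∃ k : Fin 3, g * sU ^ (k : ℕ) * g⁻¹ = x := by
  decide +kernel

theorem cube_sign : ∀ x : SL23, x * x * x = sZ → x * sZ * (x * sZ) * (x * sZ) = 1 := by decide +kernel

variable {G : Type*} [Group G] [Finite G]

namespace Hyp

variable (K : Hyp G)

theorem H_swap : K.swap.H = K.H := by rw [H, H, t_swap]

theorem H_flip : K.flip.H = K.H := by rw [H, H, t_flip]

theorem deg_swap (h : K.Deg) : K.swap.Deg := by
  rw [Deg, CE, H_swap, d_swap, e_swap, inf_comm]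
  exact h

theorem deg_flip (h : K.Deg) : K.flip.Deg := by
  rw [Deg, CE, H_flip, d_flip, e_flip]
  refine le_trans (inf_le_inf_left _ fun g hg => ?_) h
  rw [Subgroup.mem_centralizer_singleton_iff] at hg ⊢
  simpa using ((show Commute g K.e⁻¹ from hg).inv_right).eq

/-- What is known about an element `z` of order three of `E`. -/
def Good (z : G) : Prop :=
  Subgroup.centralizer ({z} : Set G) ≤ K.H ∧ ∀ s : G, s * s = 1 → Commute s z → s = 1 ∨ s = K.t

theorem good_inv {z : G} (h : K.Good z) : K.Good z⁻¹ := by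
  refine ⟨fun g hg => h.1 ?_, fun s hs hc => h.2 s hs ?_⟩
  · rw [Subgroup.mem_centralizer_singleton_iff] at hg ⊢
    simpa using ((show Commute g z⁻¹ from hg).inv_right).eq
  · simpa using hc.inv_right

theorem good_d (h : K.Deg) : K.Good K.d :=
  ⟨K.cent_d_le_of_deg h, fun s hs hc =>
    K.invol_d (K.cent_d_le_of_deg h (Subgroup.mem_centralizer_singleton_iff.2 hc.eq)) hc hs⟩

theorem good_e (h : K.Deg) : K.Good K.e := by
  obtain ⟨h1, h2⟩ := K.swap.good_d (K.deg_swap h)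
  rw [d_swap, H_swap] at h1
  rw [d_swap, t_swap] at h2
  exact ⟨h1, h2⟩

theorem good_de (h : K.Deg) : K.Good (K.d * K.e) :=
  ⟨K.cent_de_le_of_deg h, fun s hs hc =>
    K.invol_de (K.cent_de_le_of_deg h (Subgroup.mem_centralizer_singleton_iff.2 hc.eq)) hc hs⟩

theorem good_de_inv (h : K.Deg) : K.Good (K.d * K.e⁻¹) := by
  obtain ⟨h1, h2⟩ := K.flip.good_de (K.deg_flip h)
  rw [d_flip, e_flip, H_flip] at h1
  rw [d_flip, e_flip, t_flip] at h2
  exact ⟨h1, h2⟩

theorem good_E (h : K.Deg) {i j : Fin 3} (hne : K.d ^ (i : ℕ) * K.e ^ (j : ℕ) ≠ 1) :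
    K.Good (K.d ^ (i : ℕ) * K.e ^ (j : ℕ)) := by
  have d2 : K.d ^ 2 = K.d⁻¹ := (inv_eq_of_mul_eq_one_right (by rw [← pow_succ']; exact K.d_cube)).symm
  have e2 : K.e ^ 2 = K.e⁻¹ := (inv_eq_of_mul_eq_one_right (by rw [← pow_succ']; exact K.e_cube)).symm
  have hc : K.e * K.d⁻¹ = K.d⁻¹ * K.e := K.d_comm_e.symm.inv_right.eq
  fin_cases i <;> fin_cases j <;> simp only [pow_zero, pow_one, one_mul, mul_one, d2, e2] at hne ⊢
  · exact absurd rfl hne
  · exact K.good_e h
  · exact K.good_inv (K.good_e h)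
  · exact K.good_d h
  · exact K.good_de h
  · exact K.good_de_inv h
  · exact K.good_inv (K.good_d h)
  · have := K.good_inv (K.good_de_inv h)
    rwa [mul_inv_rev, inv_inv, hc] at this
  · have := K.good_inv (K.good_de h)
    rwa [mul_inv_rev, ← (K.d_comm_e.inv_inv).eq] at this

/-- An element of order three of `C(t)` is conjugate in `C(t)` into `E`. -/
theorem exists_conj_E {z : G} (hz : z ∈ K.H) (h3 : z ^ 3 = 1) :
    ∃ g ∈ K.H, ∃ i j : Fin 3, z = g * (K.d ^ (i : ℕ) * K.e ^ (j : ℕ)) * g⁻¹ := by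
  obtain ⟨⟨x, y, b⟩, hm⟩ := K.exists_el ⟨z, hz⟩
  have h3' : (⟨z, hz⟩ : K.H) * ⟨z, hz⟩ * ⟨z, hz⟩ = 1 := Subtype.ext (by
    rw [Subgroup.coe_mul, Subgroup.coe_mul, ← pow_two, ← pow_succ]; exact h3)
  rw [← hm, K.el_mul, K.el_mul, K.el_eq_one_iff, Triv] at h3'
  obtain ⟨hb, hxy⟩ := h3'
  obtain rfl : b = false := by cases b <;> simp at hb ⊢
  obtain ⟨x', y', hx3, hy3, hval⟩ : ∃ x' y' : SL23, x' * x' * x' = 1 ∧ y' * y' * y' = 1 ∧ z = K.α x' * K.β y' := by
    have hv : z = K.α x * K.β y := by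
      have := congrArg Subtype.val hm
      simpa [el_val] using this.symm
    rcases hxy with ⟨h1, h2⟩ | ⟨h1, h2⟩
    · exact ⟨x, y, h1, h2, hv⟩
    · refine ⟨x * sZ, y * sZ, cube_sign x h1, cube_sign y h2, ?_⟩
      rw [hv, map_mul, map_mul, ← K.z_eq,
        show K.α x * K.α sZ * (K.β y * K.α sZ) = K.α x * (K.α sZ * K.β y) * K.α sZ by group,
        (K.comm sZ y).eq,
        show K.α x * (K.β y * K.α sZ) * K.α sZ = K.α x * K.β y * (K.α sZ * K.α sZ) by group, ← map_mul K.α sZ sZ,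
        sZ_sq, map_one, mul_one]
  obtain ⟨a, i, ha⟩ := cube_conj x' hx3
  obtain ⟨c, j, hc⟩ := cube_conj y' hy3
  refine ⟨_, K.pair_mem_H a c, i, j, ?_⟩
  rw [hval, show K.α a * K.β c * (K.d ^ (i : ℕ) * K.e ^ (j : ℕ)) * (K.α a * K.β c)⁻¹ =
    (K.α a * K.β c * K.d * (K.α a * K.β c)⁻¹) ^ (i : ℕ) * (K.α a * K.β c * K.e * (K.α a * K.β c)⁻¹) ^ (j : ℕ) by
      rw [conj_pow, conj_pow]; group, K.pair_conj_d, K.pair_conj_e, ← map_pow, ← map_pow, conj_pow, conj_pow, ha, hc]

theorem good_of_mem (h : K.Deg) {z : G} (hz : z ∈ K.H) (h3 : z ^ 3 = 1) (h1 : z ≠ 1) : K.Good z := by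
  obtain ⟨g, hg, i, j, rfl⟩ := K.exists_conj_E hz h3
  obtain ⟨hC, hI⟩ := K.good_E h (i := i) (j := j) fun e => h1 (by rw [e]; group)
  set w := K.d ^ (i : ℕ) * K.e ^ (j : ℕ)
  refine ⟨fun c hc => ?_, fun s hs hsc => ?_⟩
  · have hc' : Commute c (g * w * g⁻¹) := Subgroup.mem_centralizer_singleton_iff.1 hc
    have h' := hc'.map (MulAut.conj g⁻¹).toMonoidHom
    simp only [MulEquiv.coe_toMonoidHom, MulAut.conj_apply, inv_inv] at h'
    rw [show g⁻¹ * (g * w * g⁻¹) * g = w by group] at h'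
    have := hC (Subgroup.mem_centralizer_singleton_iff.2 h'.eq)
    rw [show c = g * (g⁻¹ * c * g) * g⁻¹ by group]
    exact mul_mem (mul_mem hg this) (inv_mem hg)
  · have h' := hsc.map (MulAut.conj g⁻¹).toMonoidHom
    simp only [MulEquiv.coe_toMonoidHom, MulAut.conj_apply, inv_inv] at h'
    rw [show g⁻¹ * (g * w * g⁻¹) * g = w by group] at h'
    have hgt : g * K.t * g⁻¹ = K.t := by rw [(K.mem_H.1 hg).eq, mul_inv_cancel_right]
    rcases hI (g⁻¹ * s * g) (by rw [show g⁻¹ * s * g * (g⁻¹ * s * g) = g⁻¹ * (s * s) * g by group, hs]; group) h'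
      with e | e
    · left; rw [show s = g * (g⁻¹ * s * g) * g⁻¹ by group, e]; group
    · right; rw [show s = g * (g⁻¹ * s * g) * g⁻¹ by group, e, hgt]

/-- `C(t)` is strongly embedded for the elements of order three. -/
theorem strong_three (h : K.Deg) {z g : G} (hz : z ∈ K.H) (h3 : z ^ 3 = 1) (h1 : z ≠ 1)
    (hg : g * z * g⁻¹ ∈ K.H) : g ∈ K.H := by
  obtain ⟨hC, hI⟩ := K.good_of_mem h hg (by rw [conj_pow, h3]; group) (fun e => h1 (conj_eq_one_iff.1 e))
  have hzt : Commute K.t z := (K.mem_H.1 hz).symm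
  rcases hI (g * K.t * g⁻¹) (by rw [conj_mul, K.t_sq]; group) (hzt.map (MulAut.conj g).toMonoidHom) with e | e
  · exact absurd (conj_eq_one_iff.1 e) K.t_ne_one
  · exact K.mem_H.2 (mul_inv_eq_iff_eq_mul.1 e)

theorem card_E : Nat.card K.E = 9 := by
  obtain ⟨k, hk, hcard⟩ := (Nat.dvd_prime_pow Nat.prime_three).1
    (show Nat.card K.E ∣ 3 ^ 2 by simpa using K.card_E_dvd)
  have hd : orderOf K.d = 3 := orderOf_eq_prime K.d_cube K.d_ne
  have hz : Nat.card (Subgroup.zpowers K.d) = 3 := by rw [Nat.card_zpowers, hd]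
  have hle : Subgroup.zpowers K.d ≤ K.E := le_sup_left
  interval_cases k
  · have := Subgroup.card_le_of_le hle
    rw [hz, hcard] at this
    norm_num at this
  · exfalso
    have he : K.e ∈ Subgroup.zpowers K.d :=
      Subgroup.eq_of_le_of_card_ge hle (by rw [hz, hcard]; norm_num) ▸ K.e_mem_E
    obtain ⟨n, hn⟩ := Subgroup.mem_zpowers_iff.1 he
    have hn' : K.α (sU ^ n) = K.β sU := by rw [map_zpow]; exact hn
    rcases K.α_eq_β hn' with ⟨-, e⟩ | ⟨-, e⟩
    · exact sU_ne_one e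
    · exact absurd e (by decide)
  · simpa using hcard

theorem cube_E {a : G} (ha : a ∈ K.E) : a ^ 3 = 1 := K.cube_odd K.E_le_H K.odd_E ha

/-- The index of `C(t)` is `1` modulo nine. -/
theorem index_mod_nine (h : K.Deg) : K.H.index % 9 = 1 := by
  classical
  haveI : Fintype (G ⧸ K.H) := Fintype.ofFinite _
  letI : MulAction K.E (G ⧸ K.H) := MulAction.compHom (G ⧸ K.H) K.E.subtype
  have hfix : ∀ a : K.E, a • ((1 : G) : G ⧸ K.H) = ((1 : G) : G ⧸ K.H) := fun a => by
    show (((a : G) * 1 : G) : G ⧸ K.H) = _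
    rw [mul_one, QuotientGroup.eq, mul_one]
    exact inv_mem (K.E_le_H a.2)
  set x0 : G ⧸ K.H := ((1 : G) : G ⧸ K.H)
  obtain ⟨y, hy, hsum⟩ := NineTI.exists_mul_of_free (A := K.E) ((Finset.univ : Finset (G ⧸ K.H)).erase x0)
    (fun a x hx => Finset.mem_erase.2 ⟨fun e => (Finset.mem_erase.1 hx).1 (by
      rw [← inv_smul_smul a x, e, hfix a⁻¹]), Finset.mem_univ _⟩)
    (fun a x hx hax => by
      obtain ⟨g, rfl⟩ := QuotientGroup.mk_surjective x
      by_contra ha
      refine (Finset.mem_erase.1 hx).1 ?_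
      have hax' : (((a : G) * g : G) : G ⧸ K.H) = (g : G ⧸ K.H) := hax
      rw [QuotientGroup.eq, mul_inv_rev] at hax'
      have hm : g⁻¹ * ((a : G))⁻¹ * g ∈ K.H := hax'
      have h1' : ((a : G))⁻¹ ≠ 1 := fun e => ha (Subtype.ext (inv_eq_one.1 e))
      have := K.strong_three h (inv_mem (K.E_le_H a.2)) (by rw [inv_pow, K.cube_E a.2, inv_one]) h1'
        (g := g⁻¹) (by simpa using hm)
      rw [show x0 = ((1 : G) : G ⧸ K.H) from rfl, QuotientGroup.eq, mul_one]
      exact this)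
    (fun _ => (1 : ℂ)) (fun _ _ => rfl) (fun _ _ => isIntegral_one)
  rw [Finset.sum_const, Finset.card_erase_of_mem (Finset.mem_univ _), Finset.card_univ, nsmul_eq_mul, mul_one,
    ← Nat.card_eq_fintype_card, ← Subgroup.index_eq_card, K.card_E] at hsum
  have hdvd := NineTI.dvd_sub_of_integral (a := ((K.H.index - 1 : ℕ) : ℤ)) (b := 0) (n := 9) (by norm_num) hy
    (by push_cast at hsum ⊢; rw [hsum]; ring)
  have hpos : 0 < K.H.index := Nat.pos_of_ne_zero Subgroup.index_ne_zero_of_finite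
  omega

theorem sylow_E (h : K.Deg) {x : G} (hx : x ^ 3 = 1) : ∃ g : G, g * x * g⁻¹ ∈ K.E := by
  classical
  haveI : Fact (Nat.Prime 3) := ⟨Nat.prime_three⟩
  have hG : Nat.card G = 9 * (64 * K.H.index) := by
    rw [← K.H.card_mul_index, K.card_H_eq]; ring
  have hmod := K.index_mod_nine h
  have hf : (Nat.card G).factorization 3 = 2 := by
    rw [hG, Nat.factorization_mul (by norm_num) (by omega), Finsupp.add_apply,
      Nat.factorization_eq_zero_of_not_dvd (n := 64 * K.H.index) (fun hd => by omega),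
      show (9 : ℕ) = 3 ^ 2 from rfl, Nat.Prime.factorization_pow Nat.prime_three, Finsupp.single_eq_same]
  let P : Sylow 3 G := Sylow.ofCard K.E (by rw [K.card_E, hf]; norm_num)
  obtain ⟨Q, hQ⟩ := (show IsPGroup 3 (Subgroup.zpowers x) from fun a => ⟨1, by
    obtain ⟨_, n, rfl⟩ := a
    refine Subtype.ext ?_
    rw [pow_one, Subgroup.coe_pow, Subgroup.coe_one, ← zpow_natCast, ← zpow_mul, mul_comm, zpow_mul,
      zpow_natCast, hx, one_zpow]⟩).exists_le_sylow
  obtain ⟨g, hg⟩ := MulAction.exists_smul_eq G Q P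
  refine ⟨g, ?_⟩
  have : MulAut.conj g x ∈ (P : Subgroup G) := by
    rw [← hg, Sylow.coe_subgroup_smul]
    exact Subgroup.smul_mem_pointwise_smul _ _ _ (hQ (Subgroup.mem_zpowers x))
  simpa [P, Sylow.coe_ofCard] using this

/-- The degenerate case does not occur. -/
theorem not_deg : ¬ K.Deg := fun h => by
  classical
  refine GTwoTwoLocal.false_of_degenerate K.H K.t K.t_sq K.t_ne_one rfl K.card_H_eq
    (fun x hx hx1 => ?_) K.theta K.theta_surjective ?_ K.pair_count ?_ ?_ (K.index_mod_nine h) ?_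
  · obtain ⟨g, hg⟩ := K.one_class x hx hx1
    exact isConj_iff.2 ⟨g, hg⟩
  · intro x hx g hg _
    have hord : 3 ∣ orderOf x := by
      haveI : Fact (Nat.Prime 3) := ⟨Nat.prime_three⟩
      exact orderOf_eq_prime hx.1 hx.2 ▸ orderOf_map_dvd K.theta x
    have hpos := orderOf_pos x
    set n := orderOf x / 3
    have hn : orderOf (x ^ n) = 3 := by
      rw [orderOf_pow_of_dvd (Nat.div_pos (Nat.le_of_dvd hpos hord) (by norm_num)).ne'
        (Nat.div_dvd_of_dvd hord), Nat.div_div_self hord hpos.ne']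
    refine K.strong_three h (z := ((x ^ n : K.H) : G)) (x ^ n).2 ?_ ?_ ?_
    · rw [← Subgroup.coe_pow, ← hn, pow_orderOf_eq_one, Subgroup.coe_one]
    · intro e
      rw [← Subgroup.orderOf_coe, e, orderOf_one] at hn
      norm_num at hn
    · rw [Subgroup.coe_pow, ← conj_pow]
      exact pow_mem hg n
  · intro x hx hx1
    obtain ⟨g, hg⟩ := K.sylow_E h hx
    obtain ⟨hC, -⟩ := K.good_of_mem h (K.E_le_H hg) (by rw [conj_pow, hx]; group)
      (fun e => hx1 (conj_eq_one_iff.1 e))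
    rw [Char.card_centralizer_eq_of_isConj (isConj_iff.2 ⟨g, rfl⟩ : IsConj x (g * x * g⁻¹))]
    exact K.card_H_eq ▸ Subgroup.card_dvd_of_le hC
  · exact Nat.odd_iff.1 K.odd_index
  · have h7 := K.seven
    rw [← K.H.card_mul_index, K.card_H_eq] at h7
    exact Nat.dvd_iff_mod_eq_zero.1 ((show Nat.Coprime 7 576 by norm_num).dvd_of_dvd_mul_left h7)

end Hyp

end CfsgLib.GTwoInvol
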