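import Cfsg.Agent.Lib.GTwoInvol.Setup

/-!
Finite checks in `SL(2,3)` for the involution model.
-/

set_option autoImplicit false
set_option maxRecDepth 4000

namespace CfsgLib.GTwoInvol

/-- The elements of order dividing three inverted by `delta`. -/
def lineSet : Finset SL23 := {1, sU, sU ^ 2, sL, sL ^ 2}

/-- A word in two elements. -/
def word (k : ℕ) (x y : SL23) : SL23 := (x * y ^ k * x) ^ 3

theorem inv_cases : ∀ x : SL23, x ^ 3 = 1 → delta x = x⁻¹ → x ∈ lineSet := by decide +kernel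

theorem outer_square : ∀ a : SL23, a * delta a ≠ sZ := by decide +kernel

theorem outer_conj : ∀ a : SL23, a * delta a = 1 →
    ∃ p : SL23, p * a * delta p⁻¹ = 1 ∨ p * a * delta p⁻¹ = sZ := by decide +kernel

theorem inner_no_invert : ∀ x y : SL23, y ^ 3 = 1 → x * y * x⁻¹ = y⁻¹ → y = 1 := by decide +kernel

theorem cube_sZ : ∀ x : SL23, x ^ 3 = 1 → (x * sZ) ^ 3 = 1 → False := by decide +kernel

/-- Two elements of the line set commute, or a word in them is flipped by `delta`. -/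
theorem word_cases : ∀ x ∈ lineSet, ∀ y ∈ lineSet, x * y = y * x →
    ∀ k : Fin 3, word k x y = 1 := by decide +kernel

theorem word_noncomm : ∀ x ∈ lineSet, ∀ y ∈ lineSet, x * y ≠ y * x →
    (delta (word 1 x y) = word 1 x y * sZ ∧ word 2 x y = sZ) ∨
      (delta (word 2 x y) = word 2 x y * sZ ∧ word 1 x y = sZ) := by decide +kernel

theorem flipped_ne : ∀ j : SL23, delta j = j * sZ → j ≠ 1 ∧ j ≠ sZ := by decide +kernel

theorem flipped_moves : ∀ j : SL23, delta j = j * sZ →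
    ∀ i : Fin 3, j * sU * j⁻¹ ≠ sU ^ (i : ℕ) ∧ j * sU * j⁻¹ ≠ sU ^ (i : ℕ) * sZ := by decide +kernel

theorem line_comm : ∀ x ∈ lineSet, ∀ y ∈ lineSet, x * y = y * x →
    (x ∈ ({1, sU, sU ^ 2} : Finset SL23) ∧ y ∈ ({1, sU, sU ^ 2} : Finset SL23)) ∨
      (x ∈ ({1, sL, sL ^ 2} : Finset SL23) ∧ y ∈ ({1, sL, sL ^ 2} : Finset SL23)) := by
  decide +kernel

theorem opp_word : delta (sU * sL⁻¹ * sU) = sU * sL⁻¹ * sU * sZ ∧
    delta (sL * sU⁻¹ * sL) = sL * sU⁻¹ * sL * sZ := by decide +kernel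

theorem gen_sZ : (sU * sL⁻¹ * sU) ^ 2 = sZ ∧ sJ * sU * sJ⁻¹ = sL⁻¹ := by decide +kernel

theorem fix_grows : ∀ x : SL23, x ^ 3 = 1 → x ≠ 1 →
    ∃ q : SL23, (x * (q * x * q⁻¹)) ^ 2 = sZ ∨ (x * (q * x * q⁻¹)) ^ 3 = sZ := by decide +kernel

theorem normalizer_line : ∀ x : SL23, ∀ i : Fin 3,
    (x * sU * x⁻¹ = sU ^ (i : ℕ) ∨ x * sU * x⁻¹ = sU ^ (i : ℕ) * sZ) →
      x * delta x⁻¹ ∈ ({1, sU, sU ^ 2} : Finset SL23) := by decide +kernel

theorem fixed_cases : ∀ x : SL23, delta x = x → x = 1 ∨ x = sZ := by decide +kernel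

theorem delta_sJ_conj : sJ * delta sJ⁻¹ = sZ := by decide +kernel

end CfsgLib.GTwoInvol
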