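import Cfsg.Agent.Lib.GTwoInvol.Local
import Cfsg.Agent.Lib.IsolatedMin.Basic

/-!
In the degenerate case `C(d)` and `C(de)` lie in `C(t)`.
-/

set_option autoImplicit false
set_option linter.style.haveILetI false
set_option linter.unusedSectionVars false

namespace CfsgLib.GTwoInvol

open Cfsg CfsgLib.GTwoTwoLocal

variable {G : Type*} [Group G] [Finite G]

theorem eq_one_of_inv {X : Subgroup G} (hodd : Odd (Nat.card X)) {c : G} (hc : c ∈ X) (h : c = c⁻¹) :
    c = 1 := by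
  obtain ⟨k, hk⟩ := hodd.of_dvd_nat (Subgroup.orderOf_dvd_natCard _ hc)
  have h1 := pow_orderOf_eq_one c
  have h2 : c * c = 1 := eq_inv_iff_mul_eq_one.1 h
  rwa [hk, pow_succ, pow_mul, pow_two, h2, one_pow, one_mul] at h1

namespace Hyp

variable (K : Hyp G)

theorem notMem_H_of_inverted {X : Subgroup G} (hodd : Odd (Nat.card X)) {i : G} (hi : i ∈ X)
    (hti : K.t * i * K.t⁻¹ = i⁻¹) (hne : i ≠ 1) : i ∉ K.H := fun h => by
  rw [(K.mem_H.1 h).symm.eq, mul_inv_cancel_right] at hti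
  exact hne (eq_one_of_inv hodd hi hti)

theorem core_d_le_of_deg (h : K.Deg) : coreCent K.d ≤ Subgroup.zpowers K.d := by
  classical
  haveI : Fact (Nat.Prime 3) := ⟨Nat.prime_three⟩
  by_contra hne
  set O := coreCent K.d with hO
  have hen : K.e ∈ Subgroup.normalizer (O : Set G) :=
    mem_normalizer_coreCent (Or.inl (by rw [K.d_comm_e.symm.eq, mul_inv_cancel_right]))
  set M := O ⊔ Subgroup.zpowers K.e with hM
  have hMp : IsPGroup 3 M :=
    IsPGroup.to_sup_of_normal_left' K.isPGroup_core_d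
      (IsPGroup.of_card (n := 1) (by rw [Nat.card_zpowers, orderOf_eq_prime K.e_cube K.e_ne, pow_one]))
      (Subgroup.zpowers_le.2 hen)
  have hMn : M ≤ Subgroup.normalizer (O : Set G) := sup_le Subgroup.le_normalizer (Subgroup.zpowers_le.2 hen)
  have hDM : Subgroup.zpowers K.d ≤ M := (Subgroup.zpowers_le.2 (mem_coreCent_self K.d_cube)).trans le_sup_left
  have hMd : ∀ m ∈ M, Commute m K.d := by
    have : M ≤ Subgroup.centralizer ({K.d} : Set G) :=
      sup_le (coreCent_le _) (Subgroup.zpowers_le.2 (Subgroup.mem_centralizer_singleton_iff.2 K.d_comm_e.eq.symm))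
    exact fun m hm => Subgroup.mem_centralizer_singleton_iff.1 (this hm)
  haveI : ((Subgroup.zpowers K.d).subgroupOf M).Normal := by
    refine ⟨fun x hx m => ?_⟩
    obtain ⟨k, hk⟩ := Subgroup.mem_zpowers_iff.1 (Subgroup.mem_subgroupOf.1 hx)
    rw [Subgroup.mem_subgroupOf, Subgroup.coe_mul, Subgroup.coe_mul, Subgroup.coe_inv, ← hk,
      ((hMd m m.2).zpow_right k).eq, mul_inv_cancel_right]
    exact zpow_mem (Subgroup.mem_zpowers _) k
  haveI : (O.subgroupOf M).Normal := Subgroup.normal_subgroupOf_of_le_normalizer hMn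
  set π := QuotientGroup.mk' ((Subgroup.zpowers K.d).subgroupOf M) with hπ
  have hNne : (O.subgroupOf M).map π ≠ ⊥ := fun hb => hne fun x hx => by
    have : π ⟨x, le_sup_left (b := Subgroup.zpowers K.e) hx⟩ ∈ (O.subgroupOf M).map π :=
      ⟨_, Subgroup.mem_subgroupOf.2 hx, rfl⟩
    rw [hb, Subgroup.mem_bot, hπ, QuotientGroup.mk'_apply, QuotientGroup.eq_one_iff] at this
    exact Subgroup.mem_subgroupOf.1 this
  haveI : ((O.subgroupOf M).map π).Normal :=
    Subgroup.Normal.map inferInstance π (QuotientGroup.mk'_surjective _)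
  obtain ⟨⟨y, hy⟩, hy1⟩ := Subgroup.ne_bot_iff_exists_ne_one.1
    (CfsgLib.IsolatedMin.inf_center_ne_bot (hMp.to_quotient _) _ hNne)
  obtain ⟨⟨w, hwO, rfl⟩, hyc⟩ := Subgroup.mem_inf.1 hy
  have hwD : (w : G) ∉ Subgroup.zpowers K.d := fun hw => hy1 (Subtype.ext (by
    show π w = 1
    exact (QuotientGroup.eq_one_iff w).2 (Subgroup.mem_subgroupOf.2 hw)))
  have hcomm : K.e * (w : G) * K.e⁻¹ * (w : G)⁻¹ ∈ Subgroup.zpowers K.d := by
    have h' := Subgroup.mem_center_iff.1 hyc (π ⟨K.e, le_sup_right (a := O) (Subgroup.mem_zpowers _)⟩)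
    rw [← map_mul, ← map_mul, hπ, QuotientGroup.mk'_eq_mk'] at h'
    obtain ⟨z, hz, hzz⟩ := h'
    have hzz' : K.e * (w : G) * (z : G) = (w : G) * K.e := congrArg Subtype.val hzz
    have hzd : (z : G) ∈ Subgroup.zpowers K.d := hz
    obtain ⟨k, hk⟩ := Subgroup.mem_zpowers_iff.1 hzd
    have e1 : K.e * (w : G) * K.e⁻¹ * (w : G)⁻¹ = (z : G)⁻¹ := by
      have hc : Commute (z : G) (K.e * (w : G)) := by
        rw [← hk]
        exact ((hMd _ (mul_mem (le_sup_right (a := O) (Subgroup.mem_zpowers _)) w.2)).zpow_right k).symm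
      have : K.e * (w : G) = (z : G)⁻¹ * ((w : G) * K.e) := by
        rw [← hzz', ← hc.eq, inv_mul_cancel_left]
      rw [this]
      group
    rw [e1]
    exact inv_mem hzd
  obtain ⟨f, hf, i, hi, hti, e⟩ := K.exists_inverted_d (Subgroup.mem_subgroupOf.1 hwO)
  have hiD : i ∉ Subgroup.zpowers K.d := fun h' => hwD (e ▸ mul_mem hf h')
  obtain ⟨k, hk⟩ := Subgroup.mem_zpowers_iff.1 hcomm
  have hfe : Commute K.e f := by
    obtain ⟨l, rfl⟩ := Subgroup.mem_zpowers_iff.1 hf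
    exact K.d_comm_e.symm.zpow_right l
  have hc0 : K.e * i * K.e⁻¹ * i⁻¹ = K.d ^ k := by
    rw [hk, e]
    have hcf : Commute f (K.e * i * K.e⁻¹ * i⁻¹) :=
      K.zpowers_d_comm hf (mul_mem (conj_mem_coreCent
        (Or.inl (by rw [K.d_comm_e.symm.eq, mul_inv_cancel_right])) hi) (inv_mem hi))
    calc K.e * i * K.e⁻¹ * i⁻¹ = f * (K.e * i * K.e⁻¹ * i⁻¹) * f⁻¹ := by rw [hcf.eq, mul_inv_cancel_right]
      _ = f * K.e * i * K.e⁻¹ * (f * i)⁻¹ := by group
      _ = K.e * (f * i) * K.e⁻¹ * (f * i)⁻¹ := by rw [← hfe.eq]; group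
  set c := K.d ^ k with hc
  have hcO : c ∈ O := zpow_mem (mem_coreCent_self K.d_cube) k
  have hci : Commute c i := K.zpowers_d_comm (zpow_mem (Subgroup.mem_zpowers _) k) hi
  have e2 : K.e * i * K.e⁻¹ = c * i := by rw [← hc0]; group
  have e3 : K.e * i⁻¹ * K.e⁻¹ = c * i⁻¹ := by
    calc K.e * i⁻¹ * K.e⁻¹ = K.t * (K.e * i * K.e⁻¹) * K.t⁻¹ := by
          rw [show K.t * (K.e * i * K.e⁻¹) * K.t⁻¹ =
            (K.t * K.e) * i * (K.t * K.e)⁻¹ by group, K.t_comm_e.eq, ← hti]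
          group
      _ = K.t * c * K.t⁻¹ * (K.t * i * K.t⁻¹) := by rw [e2]; group
      _ = c * i⁻¹ := by rw [hti, (K.t_comm_d.zpow_right k).eq, mul_inv_cancel_right]
  have hcc : c = c⁻¹ := by
    have h4 : (K.e * i * K.e⁻¹)⁻¹ = c * i⁻¹ := by rw [← e3]; group
    rw [e2, mul_inv_rev, (hci.inv_inv).symm.eq] at h4
    exact (mul_right_cancel h4).symm
  have hc1 : c = 1 := eq_one_of_inv (odd_coreCent _) hcO hcc
  rw [hc1, one_mul, mul_inv_eq_iff_eq_mul] at e2
  have hiCE : i ∈ K.CE := K.mem_CE.2 ⟨Subgroup.mem_centralizer_singleton_iff.1 (coreCent_le _ hi), e2.symm⟩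
  exact K.notMem_H_of_inverted (odd_coreCent _) hi hti (fun h' => hiD (h' ▸ one_mem _)) (h hiCE)

theorem core_de_le_of_deg (h : K.Deg) : coreCent (K.d * K.e) ≤ K.E := by
  classical
  haveI : Fact (Nat.Prime 3) := ⟨Nat.prime_three⟩
  by_contra hne
  set O := coreCent (K.d * K.e) with hO
  haveI : Group.IsNilpotent O := K.isPGroup_core_de.isNilpotent
  have hlt : K.E.subgroupOf O < ⊤ := lt_top_iff_ne_top.2 fun e => hne (Subgroup.subgroupOf_eq_top.1 e)
  obtain ⟨y, hy, hyE⟩ := SetLike.exists_of_lt (Group.normalizerCondition_of_isNilpotent _ hlt)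
  rw [Subgroup.mem_subgroupOf] at hyE
  have hyn : ∀ a ∈ K.E, (y : G) * a * (y : G)⁻¹ ∈ K.E := fun a ha =>
    Subgroup.mem_subgroupOf.1 ((Subgroup.mem_normalizer_iff.1 hy ⟨a, K.E_le_core_de ha⟩).1
      (Subgroup.mem_subgroupOf.2 ha))
  obtain ⟨f, hf, hft, i, hi, hti, e⟩ := CfsgLib.SpinCent.exists_fixed_mul_inverted
    (odd_coreCent (K.d * K.e)) K.t_sq (fun _ hx => conj_mem_coreCent (Or.inl K.t_conj_de) hx) y.2
  have hfE : f ∈ K.E := K.core_de_inf_H ▸ ⟨hf, K.mem_H.2 hft⟩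
  have hiE : i ∉ K.E := fun hiE => hyE (by rw [e]; exact mul_mem hfE hiE)
  have hin : ∀ a ∈ K.E, i * a * i⁻¹ ∈ K.E := fun a ha => by
    have := mul_mem (mul_mem (inv_mem hfE) (hyn a ha)) hfE
    rw [e] at this
    simpa [mul_assoc] using this
  have hi2 : ∀ a ∈ K.E, Commute (i * i) a := by
    intro a ha
    have hb : K.t * (i * a * i⁻¹) * K.t⁻¹ = i * a * i⁻¹ := by
      rw [(K.E_comm (hin a ha)).2.2.symm.eq, mul_inv_cancel_right]
    have h2 : i⁻¹ * a * i = i * a * i⁻¹ := by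
      rw [← hb, show K.t * (i * a * i⁻¹) * K.t⁻¹ = (K.t * i * K.t⁻¹) * (K.t * a * K.t⁻¹) * (K.t * i * K.t⁻¹)⁻¹
        by group, hti, (K.E_comm ha).2.2.symm.eq, mul_inv_cancel_right, inv_inv]
    show i * i * a = a * (i * i)
    calc i * i * a = i * (i * a * i⁻¹) * i := by group
      _ = i * (i⁻¹ * a * i) * i := by rw [h2]
      _ = a * (i * i) := by group
  obtain ⟨k, hk⟩ := (odd_coreCent _).of_dvd_nat (Subgroup.orderOf_dvd_natCard _ hi)
  have hip : i = (i * i) ^ (k + 1) := by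
    rw [← pow_two, ← pow_mul, show 2 * (k + 1) = orderOf i + 1 by omega, pow_succ, pow_orderOf_eq_one,
      one_mul]
  have hc : ∀ a ∈ K.E, Commute i a := fun a ha => hip ▸ (hi2 a ha).pow_left _
  exact K.notMem_H_of_inverted (odd_coreCent _) hi hti (fun h' => hiE (h' ▸ one_mem _))
    (h (K.mem_CE.2 ⟨hc _ K.d_mem_E, hc _ K.e_mem_E⟩))

theorem cent_d_le_of_deg (h : K.Deg) : Subgroup.centralizer ({K.d} : Set G) ≤ K.H := by
  intro g hg
  obtain ⟨o, ho, y, rfl⟩ := K.decomp_d (Subgroup.mem_centralizer_singleton_iff.1 hg)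
  refine mul_mem ?_ (K.β_mem_H y)
  exact (Subgroup.zpowers_le.2 (K.mem_H.2 K.t_comm_d.symm)) (K.core_d_le_of_deg h ho)

theorem cent_de_le_of_deg (h : K.Deg) : Subgroup.centralizer ({K.d * K.e} : Set G) ≤ K.H := by
  intro g hg
  rcases K.decomp_de (Subgroup.mem_centralizer_singleton_iff.1 hg) with h' | h'
  · exact K.E_le_H (K.core_de_le_of_deg h h')
  · have h2 := mul_mem (K.E_le_H (K.core_de_le_of_deg h h')) (K.mem_H.2 (Commute.refl K.t))
    rwa [mul_assoc, K.t_sq, mul_one] at h2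

end Hyp

end CfsgLib.GTwoInvol
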