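import Cfsg.Agent.Lib.GTwoInvol.Frame
import Cfsg.Agent.Lib.GTwoInvol.LocalDeg

/-!
The fixed points of `e` on the odd core of the centraliser of `d`.
-/

set_option autoImplicit false
set_option linter.style.haveILetI false
set_option linter.unusedSectionVars false

namespace CfsgLib.GTwoInvol

open Cfsg CfsgLib.GTwoTwoLocal

variable {G : Type*} [Group G] [Finite G]

theorem card_le_ker_mul_map {A B : Type*} [Group A] [Finite A] [Group B] (φ : A →* B) (S : Subgroup A) :
    Nat.card S ≤ Nat.card φ.ker * Nat.card (S.map φ) := by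
  rw [← Subgroup.card_mul_index (φ.subgroupMap S).ker, Subgroup.index_ker,
    MonoidHom.range_eq_top.2 (φ.subgroupMap_surjective S), Subgroup.card_top]
  refine Nat.mul_le_mul_right _ (Nat.card_le_card_of_injective
    (fun x => (⟨((x : S) : A), congrArg Subtype.val x.2⟩ : φ.ker)) fun x y h => ?_)
  exact Subtype.ext (Subtype.ext (congrArg (fun z : φ.ker => (z : A)) h))

theorem cube_diff {A : Type*} [CommGroup A] (x b c : A) :
    x / b / (b / c) / (b / c / (c / x)) = c ^ 3 / b ^ 3 := by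
  apply Additive.ofMul.injective
  simp only [ofMul_div, ofMul_pow]
  abel

namespace Hyp

variable (K : Hyp G)

theorem four_core_d : Four K.t K.u (coreCent K.d) :=
  ⟨K.t_sq, K.u_sq, K.t_comm_u, odd_coreCent _, fun _ => K.t_normalises_d, fun _ => K.u_normalises_d,
    fun x hx ht hu => by
      have hxd : x ∈ Subgroup.zpowers K.d :=
        K.core_d_inf_cent ▸ ⟨hx, Subgroup.mem_centralizer_singleton_iff.2 ht.eq⟩
      exact K.E_inf_u (Subgroup.mem_sup_left hxd) hu.symm⟩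

theorem conj_zpowers_d {s x : G} (hs : s * K.d * s⁻¹ = K.d ∨ s * K.d * s⁻¹ = K.d⁻¹)
    (hx : x ∈ Subgroup.zpowers K.d) : s * x * s⁻¹ ∈ Subgroup.zpowers K.d := by
  obtain ⟨k, rfl⟩ := Subgroup.mem_zpowers_iff.1 hx
  rw [← conj_zpow]
  rcases hs with h | h <;> rw [h]
  · exact zpow_mem (Subgroup.mem_zpowers _) k
  · exact zpow_mem (inv_mem (Subgroup.mem_zpowers _)) k

theorem e_conj_d : K.e * K.d * K.e⁻¹ = K.d := by rw [K.d_comm_e.symm.eq, mul_inv_cancel_right]

theorem t_conj_d : K.t * K.d * K.t⁻¹ = K.d := by rw [K.t_comm_d.eq, mul_inv_cancel_right]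

/-! ### The quotient of the core by `⟨d⟩` -/

/-- `⟨d⟩` in the core. -/
abbrev zd : Subgroup ↥(coreCent K.d) := (Subgroup.zpowers K.d).subgroupOf (coreCent K.d)

instance zd_normal : K.zd.Normal := by
  refine ⟨fun x hx g => ?_⟩
  rw [Subgroup.mem_subgroupOf] at hx ⊢
  rw [Subgroup.coe_mul, Subgroup.coe_mul, Subgroup.coe_inv, ← (K.zpowers_d_comm hx g.2).eq,
    mul_inv_cancel_right]
  exact hx

/-- The quotient. -/
abbrev Quot : Type _ := ↥(coreCent K.d) ⧸ K.zd

instance instCommGroupQuot : CommGroup K.Quot :=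
  { (inferInstance : Group K.Quot) with
    mul_comm := fun p q => by
      obtain ⟨a, rfl⟩ := QuotientGroup.mk'_surjective K.zd p
      obtain ⟨b, rfl⟩ := QuotientGroup.mk'_surjective K.zd q
      rw [← map_mul, ← map_mul, QuotientGroup.mk'_eq_mk']
      refine ⟨b⁻¹ * a⁻¹ * b * a, ?_, by group⟩
      rw [Subgroup.mem_subgroupOf]
      simpa using K.comm_core_d (inv_mem b.2) (inv_mem a.2) }

/-- The map onto the quotient. -/
abbrev proj : ↥(coreCent K.d) →* K.Quot := QuotientGroup.mk' K.zd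

theorem proj_eq_one_iff {x : ↥(coreCent K.d)} : K.proj x = 1 ↔ (x : G) ∈ Subgroup.zpowers K.d := by
  rw [QuotientGroup.mk'_apply, QuotientGroup.eq_one_iff, Subgroup.mem_subgroupOf]

theorem card_quot : 3 * Nat.card K.Quot = Nat.card (coreCent K.d) := by
  rw [Subgroup.card_eq_card_quotient_mul_card_subgroup K.zd, mul_comm,
    Nat.card_congr (Subgroup.subgroupOfEquivOfLe (Subgroup.zpowers_le.2 (mem_coreCent_self K.d_cube))).toEquiv,
    Nat.card_zpowers, orderOf_eq_prime K.d_cube K.d_ne]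

/-- The action of an element normalising `⟨d⟩`. -/
def act (s : G) (hs : s * K.d * s⁻¹ = K.d ∨ s * K.d * s⁻¹ = K.d⁻¹) : K.Quot →* K.Quot :=
  QuotientGroup.map K.zd K.zd
    (((MulAut.conj s).toMonoidHom.comp (coreCent K.d).subtype).codRestrict (coreCent K.d)
      fun x => conj_mem_coreCent hs x.2)
    fun _ hx => Subgroup.mem_comap.2 (Subgroup.mem_subgroupOf.2 (K.conj_zpowers_d hs (Subgroup.mem_subgroupOf.1 hx)))

theorem act_proj {s : G} (hs : s * K.d * s⁻¹ = K.d ∨ s * K.d * s⁻¹ = K.d⁻¹) (x : ↥(coreCent K.d)) :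
    K.act s hs (K.proj x) = K.proj ⟨s * x * s⁻¹, conj_mem_coreCent hs x.2⟩ := rfl

theorem quot_cube (z : K.Quot) : z ^ 3 = 1 := by
  let P : Subgroup K.Quot := (powMonoidHom 3).ker
  let Y : Subgroup G := (P.comap K.proj).map (coreCent K.d).subtype
  have hY : ∀ {x : G} (hx : x ∈ coreCent K.d), x ∈ Y ↔ x ^ 3 ∈ Subgroup.zpowers K.d := by
    intro x hx
    have e : x ^ 3 ∈ Subgroup.zpowers K.d ↔ K.proj ⟨x, hx⟩ ^ 3 = 1 := by
      rw [← map_pow, K.proj_eq_one_iff]; rfl
    rw [e]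
    exact ⟨fun ⟨w, hw, h⟩ => (show w = ⟨x, hx⟩ from Subtype.ext h) ▸ hw, fun h => ⟨⟨x, hx⟩, h, rfl⟩⟩
  have hle : Y ≤ coreCent K.d := Subgroup.map_subtype_le _
  have hinv : ∀ s : G, (s * K.d * s⁻¹ = K.d ∨ s * K.d * s⁻¹ = K.d⁻¹) → ∀ x ∈ Y, s * x * s⁻¹ ∈ Y := by
    intro s hs x hx
    rw [hY (conj_mem_coreCent hs (hle hx)), conj_pow]
    exact K.conj_zpowers_d hs ((hY (hle hx)).1 hx)
  have hpart : ∀ s : G, s * s = 1 → s ≠ 1 → cfix (coreCent K.d) s ≤ Y := by
    intro s h2 h1 x hx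
    rw [hY hx.1, (K.odd_cent ((odd_coreCent _).of_dvd_nat (Subgroup.card_dvd_of_le inf_le_left)) h2 h1
      fun y hy => (mem_cfix.1 hy).2).2.1 x hx]
    exact one_mem _
  have h := K.four_core_d.eq_of_parts hle (hinv _ (Or.inl K.t_conj_d)) (hinv _ (Or.inr K.u_d))
    (hpart _ K.t_sq K.t_ne_one) (hpart _ K.u_sq K.u_ne_one) (hpart _ K.twist.u_sq K.tu_ne_one)
  obtain ⟨⟨x, hx⟩, rfl⟩ := QuotientGroup.mk'_surjective K.zd z
  rw [← map_pow, K.proj_eq_one_iff]
  exact (hY hx).1 (h.symm ▸ hx)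

/-- `t` inverts the quotient. -/
theorem proj_t (x : ↥(coreCent K.d)) : K.act K.t (Or.inl K.t_conj_d) (K.proj x) = (K.proj x)⁻¹ := by
  obtain ⟨f, hf, i, hi, hti, e⟩ := K.exists_inverted_d x.2
  have hfO : f ∈ coreCent K.d := Subgroup.zpowers_le.2 (mem_coreCent_self K.d_cube) hf
  obtain rfl : x = ⟨f, hfO⟩ * ⟨i, hi⟩ := Subtype.ext e
  have h1 : K.proj ⟨f, hfO⟩ = 1 := K.proj_eq_one_iff.2 hf
  rw [map_mul, h1, one_mul, K.act_proj, ← map_inv]
  exact congrArg K.proj (Subtype.ext hti)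

/-- Conjugation by `e` on the quotient. -/
def eact : K.Quot →* K.Quot := K.act K.e (Or.inl K.e_conj_d)

/-- The difference operator of `e`. -/
def ediff : K.Quot →* K.Quot := K.eact / MonoidHom.id _

theorem ediff_apply (z : K.Quot) : K.ediff z = K.eact z / z := rfl

theorem eact_cube (z : K.Quot) : K.eact (K.eact (K.eact z)) = z := by
  obtain ⟨x, rfl⟩ := QuotientGroup.mk'_surjective K.zd z
  rw [eact, K.act_proj, K.act_proj, K.act_proj]
  refine congrArg K.proj (Subtype.ext ?_)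
  calc K.e * (K.e * (K.e * (x : G) * K.e⁻¹) * K.e⁻¹) * K.e⁻¹ = K.e ^ 3 * x * (K.e ^ 3)⁻¹ := by
        simp only [pow_succ, pow_zero, one_mul, mul_inv_rev, mul_assoc]
    _ = x := by rw [K.e_cube, one_mul, inv_one, mul_one]

theorem ediff_cube (z : K.Quot) : K.ediff (K.ediff (K.ediff z)) = 1 := by
  simp only [ediff_apply, map_div, eact_cube]
  rw [cube_diff, K.quot_cube, K.quot_cube, div_one]

/-- An element of the core fixed by `e` modulo `⟨d⟩` is fixed. -/
theorem mem_cent_e_of_proj {x : ↥(coreCent K.d)} (h : K.ediff (K.proj x) = 1) :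
    (x : G) ∈ cfix (coreCent K.d) K.e := by
  obtain ⟨f, hf, i, hi, hti, e⟩ := K.exists_inverted_d x.2
  have hfO : f ∈ coreCent K.d := Subgroup.zpowers_le.2 (mem_coreCent_self K.d_cube) hf
  obtain rfl : x = ⟨f, hfO⟩ * ⟨i, hi⟩ := Subtype.ext e
  rw [map_mul, K.proj_eq_one_iff (x := ⟨f, hfO⟩) |>.2 hf, one_mul, ediff_apply, eact, K.act_proj,
    ← map_div, K.proj_eq_one_iff] at h
  have hc : K.e * i * K.e⁻¹ * i⁻¹ ∈ Subgroup.zpowers K.d := by simpa [div_eq_mul_inv] using h
  set c := K.e * i * K.e⁻¹ * i⁻¹ with hcd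
  have hci : Commute c i := K.zpowers_d_comm hc hi
  have e2 : K.e * i * K.e⁻¹ = c * i := by rw [hcd]; group
  have e3 : K.e * i⁻¹ * K.e⁻¹ = c * i⁻¹ := by
    calc K.e * i⁻¹ * K.e⁻¹ = K.t * (K.e * i * K.e⁻¹) * K.t⁻¹ := by
          rw [show K.t * (K.e * i * K.e⁻¹) * K.t⁻¹ =
            (K.t * K.e) * i * (K.t * K.e)⁻¹ by group, K.t_comm_e.eq, ← hti]
          group
      _ = K.t * c * K.t⁻¹ * (K.t * i * K.t⁻¹) := by rw [e2]; group
      _ = c * i⁻¹ := by
          obtain ⟨k, hk⟩ := Subgroup.mem_zpowers_iff.1 hc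
          rw [hti, ← hk, (K.t_comm_d.zpow_right k).eq, mul_inv_cancel_right]
  have hcc : c = c⁻¹ := by
    have h4 : (K.e * i * K.e⁻¹)⁻¹ = c * i⁻¹ := by rw [← e3]; group
    rw [e2, mul_inv_rev, (hci.inv_inv).symm.eq] at h4
    exact (mul_right_cancel h4).symm
  have hc1 : c = 1 :=
    eq_one_of_inv (odd_coreCent K.d) (Subgroup.zpowers_le.2 (mem_coreCent_self K.d_cube) hc) hcc
  rw [hc1, one_mul, mul_inv_eq_iff_eq_mul] at e2
  have hfe : Commute f K.e := by
    obtain ⟨l, rfl⟩ := Subgroup.mem_zpowers_iff.1 hf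
    exact K.d_comm_e.zpow_left l
  exact mem_cfix.2 ⟨mul_mem hfO hi, hfe.mul_left e2.symm⟩

/-! ### The three facts -/

/-- The fixed points of `e` on the core are bounded by the conjugate `β sL⁻¹`. -/
theorem card_cent_e_sq_le :
    Nat.card ↥(coreCent K.d ⊓ Subgroup.centralizer ({K.e} : Set G)) ^ 2 ≤
      3 * Nat.card (coreCent K.d) := by
  set O := coreCent K.d
  set F := cfix O K.e
  set φ := (MulAut.conj (K.β sJ)).toMonoidHom
  have hgd : K.β sJ * K.d * (K.β sJ)⁻¹ = K.d := by rw [(K.pair_β_comm_d sJ).eq, mul_inv_cancel_right]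
  have hF' : F.map φ ≤ O := by
    rintro _ ⟨x, hx, rfl⟩
    exact conj_mem_coreCent (Or.inl hgd) hx.1
  have hmeet : F ⊓ F.map φ ≤ Subgroup.zpowers K.d := by
    rintro x ⟨hx, y, hy, rfl⟩
    have h1 : Commute (φ y) (K.β sL⁻¹) := by
      have := (mem_cfix.1 hy).2.map φ
      rwa [show φ K.e = K.β (sJ * sU * sJ⁻¹) by rw [map_mul, map_mul, map_inv]; rfl, gen_sZ.2] at this
    have h2 : Commute (φ y) (K.β sU) := (mem_cfix.1 hx).2
    have h3 : Commute (φ y) (K.β ((sU * sL⁻¹ * sU) ^ 2)) := by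
      rw [map_pow, map_mul, map_mul]
      exact ((h2.mul_right h1).mul_right h2).pow_right 2
    rw [gen_sZ.1, ← K.t_eq_β] at h3
    exact K.core_d_inf_cent ▸ ⟨hx.1, Subgroup.mem_centralizer_singleton_iff.2 h3.eq⟩
  have hM : Nat.card ↥(F ⊓ F.map φ) ≤ 3 := by
    refine (Subgroup.card_le_of_le hmeet).trans ?_
    rw [Nat.card_zpowers, orderOf_eq_prime K.d_cube K.d_ne]
  set A := F.subgroupOf O
  set B := (F.map φ).subgroupOf O
  have hA : Nat.card A = Nat.card F :=
    Nat.card_congr (Subgroup.subgroupOfEquivOfLe (H := F) (K := O) inf_le_left).toEquiv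
  have hB : Nat.card B = Nat.card F :=
    (Nat.card_congr (Subgroup.subgroupOfEquivOfLe hF').toEquiv).trans
      (Subgroup.card_map_of_injective (MulAut.conj (K.β sJ)).injective)
  have hAB : Nat.card ↥(A ⊓ B) ≤ 3 := by
    refine le_trans (le_of_eq ?_) hM
    rw [show A ⊓ B = (F ⊓ F.map φ).subgroupOf O from rfl]
    exact Nat.card_congr (Subgroup.subgroupOfEquivOfLe (inf_le_left.trans inf_le_left)).toEquiv
  have i0 : 0 < (A ⊓ B).index := Nat.pos_of_ne_zero Subgroup.index_ne_zero_of_finite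
  refine Nat.le_of_mul_le_mul_right ?_ i0
  calc Nat.card F ^ 2 * (A ⊓ B).index ≤ Nat.card F ^ 2 * (A.index * B.index) :=
        Nat.mul_le_mul_left _ (Subgroup.index_inf_le)
    _ = Nat.card A * A.index * (Nat.card B * B.index) := by rw [hA, hB]; ring
    _ = Nat.card (A ⊓ B : Subgroup O) * (A ⊓ B).index * Nat.card O := by
        rw [A.card_mul_index, B.card_mul_index, (A ⊓ B).card_mul_index]
    _ ≤ 3 * (A ⊓ B).index * Nat.card O := by gcongr
    _ = 3 * Nat.card O * (A ⊓ B).index := by ring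

/-- `e` has a large group of fixed points on a core of order `3⁵`. -/
theorem card_cent_e_ge (h : Nat.card (coreCent K.d) = 243) :
    27 ≤ Nat.card ↥(coreCent K.d ⊓ Subgroup.centralizer ({K.e} : Set G)) := by
  set D := K.ediff
  have hV : Nat.card K.Quot = 81 := by have := K.card_quot; omega
  have h1 := card_le_ker_mul_map D ⊤
  have h2 := card_le_ker_mul_map D ((⊤ : Subgroup K.Quot).map D)
  have h3 : Nat.card (((⊤ : Subgroup K.Quot).map D).map D) ≤ Nat.card D.ker := by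
    refine Subgroup.card_le_of_le ?_
    rintro _ ⟨_, ⟨w, -, rfl⟩, rfl⟩
    exact K.ediff_cube w
  rw [Subgroup.card_top, hV] at h1
  have hcube : 81 ≤ Nat.card D.ker ^ 3 := by
    refine h1.trans (le_trans (Nat.mul_le_mul_left _ (h2.trans (Nat.mul_le_mul_left _ h3))) (le_of_eq ?_))
    ring
  have hdvd : Nat.card D.ker ∣ 81 := hV ▸ Subgroup.card_subgroup_dvd_card _
  have h9 : 9 ≤ Nat.card D.ker := by
    by_contra hlt
    push Not at hlt
    interval_cases hk : Nat.card D.ker <;> simp_all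
  have hP : Nat.card (D.ker.comap K.proj) = 3 * Nat.card D.ker := by
    have e1 := (D.ker.comap K.proj).card_mul_index
    rw [Subgroup.index_comap_of_surjective _ (QuotientGroup.mk'_surjective _), h] at e1
    have e2 := D.ker.card_mul_index
    rw [hV] at e2
    have hi : 0 < D.ker.index := Nat.pos_of_ne_zero Subgroup.index_ne_zero_of_finite
    refine Nat.eq_of_mul_eq_mul_right hi ?_
    rw [e1, mul_assoc, e2]
    norm_num
  have hle : (D.ker.comap K.proj).map (coreCent K.d).subtype ≤ cfix (coreCent K.d) K.e := by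
    rintro _ ⟨x, hx, rfl⟩
    exact K.mem_cent_e_of_proj hx
  have := Subgroup.card_le_of_le hle
  rw [Subgroup.card_map_of_injective (coreCent K.d).subtype_injective, hP] at this
  exact le_trans (by omega) this

theorem four_cent_e : Four K.t K.u (cfix (coreCent K.d) K.e) :=
  K.four_core_d.inter (Y := Subgroup.centralizer ({K.e} : Set G))
    (fun x hx => Subgroup.mem_centralizer_singleton_iff.2 (by
      have := (show Commute x K.e from Subgroup.mem_centralizer_singleton_iff.1 hx).map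
        (MulAut.conj K.t).toMonoidHom
      simp only [MulEquiv.coe_toMonoidHom, MulAut.conj_apply, K.t_comm_e.eq, mul_inv_cancel_right] at this
      exact this.eq))
    (fun x hx => Subgroup.mem_centralizer_singleton_iff.2 (by
      have := (show Commute x K.e from Subgroup.mem_centralizer_singleton_iff.1 hx).map
        (MulAut.conj K.u).toMonoidHom
      simp only [MulEquiv.coe_toMonoidHom, MulAut.conj_apply, K.u_e] at this
      exact (Commute.inv_right_iff.1 this).eq))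

/-- If `tu` fixes nothing in the fixed points of `e`, commutators with `e` of its fixed points are fixed. -/
theorem comm_mem_cent_e (_h : Nat.card (coreCent K.d) = 243)
    (htu : cfix (coreCent K.d ⊓ Subgroup.centralizer ({K.e} : Set G)) (K.t * K.u) = ⊥) {v : G}
    (hv : v ∈ coreCent K.d) (hvtu : Commute v (K.t * K.u)) :
    K.e * v * K.e⁻¹ * v⁻¹ ∈ coreCent K.d ⊓ Subgroup.centralizer ({K.e} : Set G) := by
  set F := cfix (coreCent K.d) K.e with hF
  set U := K.act K.u (Or.inr K.u_d)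
  -- `u` is trivial on the image of `F`
  let Y : Subgroup G := F ⊓ ((U.eqLocus (MonoidHom.id _)).comap K.proj).map (coreCent K.d).subtype
  have hY : ∀ x : ↥(coreCent K.d), (x : G) ∈ F → U (K.proj x) = K.proj x → (x : G) ∈ Y :=
    fun x hx hU => ⟨hx, x, hU, rfl⟩
  have hinv : ∀ s : G, ∀ hs : s * K.d * s⁻¹ = K.d ∨ s * K.d * s⁻¹ = K.d⁻¹, Commute s K.u →
      (∀ x ∈ F, s * x * s⁻¹ ∈ F) → ∀ x ∈ Y, s * x * s⁻¹ ∈ Y := by
    intro s hs hsu hsF x hx
    obtain ⟨hxF, w, hw, rfl⟩ := hx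
    refine hY ⟨_, conj_mem_coreCent hs w.2⟩ (hsF _ hxF) ?_
    have hc : ∀ z, U (K.act s hs z) = K.act s hs (U z) := by
      intro z
      obtain ⟨y, rfl⟩ := QuotientGroup.mk'_surjective K.zd z
      simp only [U, K.act_proj]
      refine congrArg K.proj (Subtype.ext ?_)
      calc K.u * (s * (y : G) * s⁻¹) * K.u⁻¹ = (K.u * s) * y * (K.u * s)⁻¹ := by group
        _ = _ := by rw [hsu.symm.eq]; group
    rw [← K.act_proj hs w, hc]
    exact congrArg _ hw
  have hFY : Y = F := K.four_cent_e.eq_of_parts inf_le_left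
    (hinv _ (Or.inl K.t_conj_d) K.t_comm_u K.four_cent_e.nt)
    (hinv _ (Or.inr K.u_d) (Commute.refl _) K.four_cent_e.nu)
    (fun x hx => by
      refine hY ⟨x, hx.1.1⟩ hx.1 ?_
      have h1 : K.proj ⟨x, hx.1.1⟩ = 1 := K.proj_eq_one_iff.2 (K.core_d_inf_cent ▸ ⟨hx.1.1, hx.2⟩)
      rw [h1, map_one])
    (fun x hx => by
      refine hY ⟨x, hx.1.1⟩ hx.1 ?_
      refine congrArg K.proj (Subtype.ext ?_)
      show K.u * x * K.u⁻¹ = x
      rw [← (mem_cfix.1 hx).2.eq, mul_inv_cancel_right])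
    (by rw [htu]; exact bot_le)
  -- the class of `v`
  set a := K.proj ⟨v, hv⟩ with ha
  have hUa : U a = a⁻¹ := by
    rw [← K.proj_t]
    refine congrArg K.proj (Subtype.ext ?_)
    show K.u * v * K.u⁻¹ = K.t * v * K.t⁻¹
    calc K.u * v * K.u⁻¹ = K.t * (K.t * K.u * v * (K.t * K.u)⁻¹) * K.t⁻¹ := by
          rw [mul_inv_rev, K.t_inv]
          simp only [← mul_assoc, K.t_sq, one_mul]
          rw [mul_assoc _ K.t K.t, K.t_sq, mul_one]
      _ = K.t * v * K.t⁻¹ := by rw [← hvtu.eq, mul_inv_cancel_right]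
  have hUf : ∀ z, U (K.eact z) = K.eact (K.eact (U z)) := by
    intro z
    obtain ⟨y, rfl⟩ := QuotientGroup.mk'_surjective K.zd z
    simp only [U, eact, K.act_proj]
    refine congrArg K.proj (Subtype.ext ?_)
    calc K.u * (K.e * (y : G) * K.e⁻¹) * K.u⁻¹
        = (K.u * K.e * K.u⁻¹) * (K.u * y * K.u⁻¹) * (K.u * K.e * K.u⁻¹)⁻¹ := by group
      _ = K.e ^ 2 * (K.u * y * K.u⁻¹) * (K.e ^ 2)⁻¹ := by
          rw [K.u_e, inv_eq_of_mul_eq_one_right (show K.e * K.e ^ 2 = 1 by rw [← pow_succ', K.e_cube])]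
      _ = _ := by rw [pow_two]; group
  set z := K.ediff (K.ediff a) with hz
  have hfz : K.ediff z = 1 := K.ediff_cube a
  have hUz : U z = z := by
    obtain ⟨w, hw⟩ := QuotientGroup.mk'_surjective K.zd z
    have hwF : (w : G) ∈ F := K.mem_cent_e_of_proj (by rw [hw, hfz])
    rw [← hFY] at hwF
    obtain ⟨-, w', hw', e⟩ := hwF
    obtain rfl : w' = w := Subtype.ext e
    rw [← hw]
    exact hw'
  have hUz' : U z = z⁻¹ := by
    simp only [hz, ediff_apply, map_div, hUf, hUa, map_inv, eact_cube]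
    apply Additive.ofMul.injective
    simp only [ofMul_div, ofMul_inv]
    have h3 : 3 • Additive.ofMul (K.eact a) = 0 := by rw [← ofMul_pow, K.quot_cube]; rfl
    have h3' : 3 • Additive.ofMul (K.eact (K.eact a)) = 0 := by rw [← ofMul_pow, K.quot_cube]; rfl
    rw [← sub_eq_zero]
    calc _ = 3 • Additive.ofMul (K.eact (K.eact a)) - 3 • Additive.ofMul (K.eact a) := by abel
      _ = 0 := by rw [h3, h3', sub_zero]
  have hz1 : z = 1 := by
    have h2 : z * z = 1 := eq_inv_iff_mul_eq_one.1 (hUz.symm.trans hUz')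
    have h3 := K.quot_cube z
    rwa [pow_succ, pow_two, h2, one_mul] at h3
  refine K.mem_cent_e_of_proj (x := ⟨K.e * v * K.e⁻¹ * v⁻¹,
    mul_mem (conj_mem_coreCent (Or.inl K.e_conj_d) hv) (inv_mem hv)⟩) ?_
  rw [← hz1, hz, K.ediff_apply a, eact, ha, K.act_proj, ← map_div]
  exact congrArg (fun y => K.ediff (K.proj y)) (Subtype.ext (by simp [div_eq_mul_inv]))

end Hyp

end CfsgLib.GTwoInvol
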