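import Cfsg.Agent.Lib.SmallCent.FourFixed
import Cfsg.Agent.Lib.GTwoTwoLocal.Generic
import Cfsg.Agent.Lib.SymNineThree.Quot

/-!
A four group on a `3`-group: a subgroup is determined by the three fixed-point groups.
-/

set_option autoImplicit false
set_option linter.style.haveILetI false

namespace CfsgLib.GTwoInvol

open CfsgLib.GTwoTwoLocal (card_of_four)

variable {G : Type*} [Group G]

/-- The fixed points of `s` in `X`. -/
abbrev cfix (X : Subgroup G) (s : G) : Subgroup G := X ⊓ Subgroup.centralizer ({s} : Set G)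

theorem mem_cfix {X : Subgroup G} {s x : G} : x ∈ cfix X s ↔ x ∈ X ∧ Commute x s :=
  Subgroup.mem_inf.trans (and_congr_right fun _ => Subgroup.mem_centralizer_singleton_iff)

/-- The subgroup is invariant under the four group `⟨t,u⟩`, which fixes only `1` in it. -/
structure Four (t u : G) (X : Subgroup G) : Prop where
  ht : t * t = 1
  hu : u * u = 1
  htu : Commute t u
  odd : Odd (Nat.card X)
  nt : ∀ x ∈ X, t * x * t⁻¹ ∈ X
  nu : ∀ x ∈ X, u * x * u⁻¹ ∈ X
  triv : ∀ x ∈ X, Commute x t → Commute x u → x = 1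

namespace Four

variable {t u : G} {X : Subgroup G}

theorem mono [Finite G] (F : Four t u X) {Y : Subgroup G} (hY : Y ≤ X)
    (nt : ∀ x ∈ Y, t * x * t⁻¹ ∈ Y) (nu : ∀ x ∈ Y, u * x * u⁻¹ ∈ Y) : Four t u Y :=
  ⟨F.ht, F.hu, F.htu, F.odd.of_dvd_nat (Subgroup.card_dvd_of_le hY), nt, nu,
    fun x hx => F.triv x (hY hx)⟩

theorem inter [Finite G] (F : Four t u X) {Y : Subgroup G} (nt : ∀ x ∈ Y, t * x * t⁻¹ ∈ Y)
    (nu : ∀ x ∈ Y, u * x * u⁻¹ ∈ Y) : Four t u (X ⊓ Y) :=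
  F.mono inf_le_left (fun x hx => ⟨F.nt x hx.1, nt x hx.2⟩) (fun x hx => ⟨F.nu x hx.1, nu x hx.2⟩)

theorem symm (F : Four t u X) : Four u t X :=
  ⟨F.hu, F.ht, F.htu.symm, F.odd, F.nu, F.nt, fun x hx h1 h2 => F.triv x hx h2 h1⟩

theorem card [Finite G] (F : Four t u X) : Nat.card X =
    Nat.card (cfix X t) * Nat.card (cfix X u) * Nat.card (cfix X (t * u)) :=
  card_of_four F.odd F.ht F.hu F.htu F.nt F.nu ((Subgroup.eq_bot_iff_forall _).mpr fun x hx => by
    have h := Subgroup.mem_centralizer_iff.mp hx.2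
    exact F.triv x hx.1 (h t (by simp)).symm (h u (by simp)).symm)

theorem eq_of_parts [Finite G] (F : Four t u X) {Y : Subgroup G} (hY : Y ≤ X)
    (nt : ∀ x ∈ Y, t * x * t⁻¹ ∈ Y) (nu : ∀ x ∈ Y, u * x * u⁻¹ ∈ Y) (h1 : cfix X t ≤ Y)
    (h2 : cfix X u ≤ Y) (h3 : cfix X (t * u) ≤ Y) : Y = X := by
  have e : ∀ s : G, cfix X s ≤ Y → cfix Y s = cfix X s := fun s hs =>
    le_antisymm (inf_le_inf_right _ hY) fun x hx => ⟨hs hx, hx.2⟩
  refine Subgroup.eq_of_le_of_card_ge hY (le_of_eq ?_)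
  rw [F.card, (F.mono hY nt nu).card, e t h1, e u h2, e _ h3]

/-- On the fixed points of `u`, the involution `t` is the inversion. -/
theorem inv_of_part (F : Four t u X) {r : G} (hr : r ∈ X) (hru : Commute r u)
    (hcomm : ∀ a ∈ cfix X u, ∀ b ∈ cfix X u, Commute a b) : t * r * t⁻¹ = r⁻¹ := by
  have hti : t⁻¹ = t := inv_eq_of_mul_eq_one_right F.ht
  have hu' : Commute (t * r * t⁻¹) u := (F.htu.mul_left hru).mul_left (F.htu.inv_left)
  have hc := hcomm r (mem_cfix.mpr ⟨hr, hru⟩) _ (mem_cfix.mpr ⟨F.nt r hr, hu'⟩)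
  have hz : r * (t * r * t⁻¹) = 1 := by
    refine F.triv _ (mul_mem hr (F.nt r hr)) ?_ (hru.mul_left hu')
    rw [hti]
    calc r * (t * r * t) * t = r * t * r * (t * t) := by group
      _ = (t * t) * r * t * r := by rw [F.ht, mul_one, one_mul]
      _ = t * ((t * r * t) * r) := by group
      _ = t * (r * (t * r * t)) := by rw [hti] at hc; rw [hc.eq]
  exact eq_inv_of_mul_eq_one_right hz

/-- In a `3`-group a proper invariant subgroup is normalised by one more fixed point of the four group. -/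
theorem grow [Finite G] (F : Four t u X) (hp : IsPGroup 3 X) {Q : Subgroup G} (hQ : Q ≤ X) (hne : Q ≠ X)
    (nt : ∀ x ∈ Q, t * x * t⁻¹ ∈ Q) (nu : ∀ x ∈ Q, u * x * u⁻¹ ∈ Q) :
    ∃ r ∈ X, r ∉ Q ∧ r ∈ Subgroup.normalizer (Q : Set G) ∧
      (Commute r t ∨ Commute r u ∨ Commute r (t * u)) := by
  haveI : Fact (Nat.Prime 3) := ⟨Nat.prime_three⟩
  haveI := hp.isNilpotent
  by_contra hno
  push Not at hno
  have conjN : ∀ s : G, (∀ x ∈ Q, s * x * s⁻¹ ∈ Q) →
      ∀ x ∈ Subgroup.normalizer (Q : Set G), s * x * s⁻¹ ∈ Subgroup.normalizer (Q : Set G) := by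
    intro s hs x hx
    have : s ∈ Subgroup.normalizer (Q : Set G) := CfsgLib.SymNineThree.mem_normalizer_of_le _ hs
    exact mul_mem (mul_mem this hx) (inv_mem this)
  have FN := F.inter (Y := Subgroup.normalizer (Q : Set G)) (conjN t nt) (conjN u nu)
  have key : ∀ s : G, (s = t ∨ s = u ∨ s = t * u) → cfix (X ⊓ Subgroup.normalizer (Q : Set G)) s ≤ Q := by
    intro s hs r hr
    by_contra hrQ
    obtain ⟨h1, h2, h3⟩ := hno r hr.1.1 hrQ hr.1.2
    have := (mem_cfix.mp hr).2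
    rcases hs with rfl | rfl | rfl <;> contradiction
  have heq := FN.eq_of_parts (le_inf hQ Subgroup.le_normalizer) nt nu (key t (Or.inl rfl))
    (key u (Or.inr (Or.inl rfl))) (key _ (Or.inr (Or.inr rfl)))
  have hlt := Group.normalizerCondition_of_isNilpotent (G := ↥X) (Q.subgroupOf X) (lt_of_le_of_ne le_top fun h => hne
    (le_antisymm hQ (Subgroup.subgroupOf_eq_top.mp h)))
  refine hlt.ne (le_antisymm hlt.le fun x hx => ?_)
  rw [Subgroup.mem_subgroupOf, heq]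
  refine ⟨x.2, Subgroup.mem_normalizer_iff.mpr fun y => ?_⟩
  constructor
  · intro hy
    exact (Subgroup.mem_normalizer_iff.mp hx ⟨y, hQ hy⟩).mp hy
  · intro hy
    have hyX : y ∈ X := by
      have h := mul_mem (mul_mem (inv_mem x.2) (hQ hy)) x.2
      simpa [mul_assoc] using h
    exact (Subgroup.mem_normalizer_iff.mp hx ⟨y, hyX⟩).mpr hy

end Four

/-- An element inverted by `t` that normalises a subgroup fixed by `t` centralises it. -/
theorem act_trivial {t r : G} {E : Subgroup G} (ht : t * t = 1) (hr : r ^ 3 = 1) (hinv : t * r * t⁻¹ = r⁻¹)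
    (hE : ∀ x ∈ E, Commute x t) (hn : ∀ x ∈ E, r * x * r⁻¹ ∈ E) {x : G} (hx : x ∈ E) : Commute r x := by
  have hti : t⁻¹ = t := inv_eq_of_mul_eq_one_right ht
  have h1 := hE _ (hn x hx)
  have h2 : r⁻¹ * x * r = r * x * r⁻¹ := by
    calc r⁻¹ * x * r = (t * r * t⁻¹) * x * (t * r * t⁻¹)⁻¹ := by rw [hinv, inv_inv]
      _ = t * r * (t⁻¹ * x * t) * r⁻¹ * t⁻¹ := by group
      _ = t * r * x * r⁻¹ * t⁻¹ := by rw [mul_assoc t⁻¹ x t, (hE x hx).eq, inv_mul_cancel_left]
      _ = t * (r * x * r⁻¹) * t⁻¹ := by group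
      _ = r * x * r⁻¹ := by rw [h1.symm.eq, mul_inv_cancel_right]
  have h3 : Commute (r ^ 2) x := by
    unfold Commute SemiconjBy
    calc r ^ 2 * x = r * (r * x * r⁻¹) * r := by rw [pow_two]; group
      _ = r * (r⁻¹ * x * r) * r := by rw [h2]
      _ = x * r ^ 2 := by rw [pow_two]; group
  have h4 : r = r ^ 2 * r ^ 2 := by
    rw [← pow_add, show 2 + 2 = 3 + 1 from rfl, pow_succ, hr, one_mul]
  rw [h4]
  exact h3.mul_left h3

end CfsgLib.GTwoInvol
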