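import Cfsg.Agent.Lib.GTwoInvol.Finite
import Cfsg.Agent.Lib.GTwoInvol.Parts
import Cfsg.Agent.Lib.GTwoTwoLocal.CentThree

/-!
Frames at other involutions and the elements of order three that normalise an invariant subgroup.
-/

set_option autoImplicit false
set_option linter.style.haveILetI false
set_option linter.unusedSectionVars false

namespace CfsgLib.GTwoInvol

open CfsgLib.GTwoTwoLocal (coreCent conj_mem_coreCent le_coreCent odd_coreCent coreCent_le)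

variable {G : Type*} [Group G]

namespace Hyp

variable (K : Hyp G)

theorem t_conj [Finite G] (g : G) : (K.conj g).t = g * K.t * g⁻¹ := rfl

theorem d_conj [Finite G] (g : G) : (K.conj g).d = g * K.d * g⁻¹ := rfl

theorem e_conj [Finite G] (g : G) : (K.conj g).e = g * K.e * g⁻¹ := rfl

theorem u_conj [Finite G] (g : G) : (K.conj g).u = g * K.u * g⁻¹ := rfl

theorem pair_mul (x y x' y' : SL23) :
    K.α x * K.β y * (K.α x' * K.β y') = K.α (x * x') * K.β (y * y') := by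
  rw [map_mul, map_mul]; exact (K.comm x' y).symm.mul_mul_mul_comm _ _

theorem pair_inv (x y : SL23) : (K.α x * K.β y)⁻¹ = K.α x⁻¹ * K.β y⁻¹ := by
  rw [_root_.mul_inv_rev, map_inv, map_inv]; exact ((K.comm x y).inv_inv).symm.eq

theorem pair_pow (x y : SL23) (n : ℕ) : (K.α x * K.β y) ^ n = K.α (x ^ n) * K.β (y ^ n) := by
  rw [(K.comm x y).mul_pow, map_pow, map_pow]

theorem u_pair (x y : SL23) : K.u * (K.α x * K.β y) = K.α (delta x) * K.β (delta y) * K.u := by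
  rw [← mul_assoc, K.u_α, mul_assoc, K.u_β, mul_assoc]

theorem pair_sZ : K.α sZ * K.β sZ = 1 := by rw [K.z_eq, ← map_mul, sZ_sq, map_one]

theorem outer_sq (x y : SL23) :
    K.α x * K.β y * K.u * (K.α x * K.β y * K.u) = K.α (x * delta x) * K.β (y * delta y) := by
  rw [mul_assoc (K.α x * K.β y) K.u, ← mul_assoc K.u, K.u_pair, mul_assoc _ K.u K.u, K.u_sq, mul_one, K.pair_mul]

theorem inside_of_cube {g : G} (hg : g ∈ K.H) (h3 : g ^ 3 = 1) :
    ∃ x y, x ^ 3 = 1 ∧ y ^ 3 = 1 ∧ g = K.α x * K.β y := by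
  have hin : ∃ x y, g = K.α x * K.β y := by
    obtain ⟨x, y, h | h⟩ := K.exists_pair hg
    · exact ⟨x, y, h⟩
    · have h4 : g = g * g * (g * g) :=
        calc g = g ^ 3 * g := by rw [h3, one_mul]
          _ = g * g * (g * g) := by simp [pow_succ, mul_assoc]
      have h5 := K.outer_sq x y
      rw [← h] at h5
      rw [h5, K.pair_mul] at h4
      exact ⟨_, _, h4⟩
  obtain ⟨x, y, h⟩ := hin
  have h6 : K.α (x ^ 3) * K.β (y ^ 3) = K.α 1 * K.β 1 := by
    rw [← K.pair_pow, ← h, h3, map_one, map_one, one_mul]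
  rcases K.pair_eq h6 with ⟨h1, h2⟩ | ⟨h1, h2⟩
  · exact ⟨x, y, h1, h2, h⟩
  · refine ⟨x * sZ, y * sZ, ?_, ?_, ?_⟩
    · rw [(show Commute x sZ from (sZ_comm x).symm).mul_pow, h1, one_mul, pow_succ', pow_two, sZ_sq, mul_one, sZ_sq]
    · rw [(show Commute y sZ from (sZ_comm y).symm).mul_pow, h2, one_mul, pow_succ', pow_two, sZ_sq, mul_one, sZ_sq]
    · rw [← K.pair_mul, K.pair_sZ, mul_one, h]

theorem line_of_inv {g : G} (hgt : Commute g K.t) (h3 : g ^ 3 = 1) (hinv : K.u * g * K.u⁻¹ = g⁻¹) :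
    ∃ x ∈ lineSet, ∃ y ∈ lineSet, g = K.α x * K.β y := by
  obtain ⟨x, y, hx, hy, h⟩ := K.inside_of_cube (K.mem_H.mpr hgt) h3
  rw [h, K.u_pair, mul_inv_cancel_right, K.pair_inv] at hinv
  rcases K.pair_eq hinv with ⟨h1, h2⟩ | ⟨h1, h2⟩
  · exact ⟨x, inv_cases x hx h1, y, inv_cases y hy h2, h⟩
  · refine (cube_sZ x⁻¹ (by rw [inv_pow, hx, inv_one]) ?_).elim
    rw [← h1, ← map_pow, hx, map_one]

theorem mem_E_iff {g : G} : g ∈ K.E ↔ ∃ i j : Fin 3, g = K.α (sU ^ (i : ℕ)) * K.β (sU ^ (j : ℕ)) := by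
  constructor
  · intro hg
    have hc : K.E ≤ ((K.α.comp (Subgroup.zpowers sU).subtype).noncommCoprod
        (K.β.comp (Subgroup.zpowers sU).subtype) fun a b => K.comm _ _).range := by
      refine sup_le (Subgroup.zpowers_le.mpr ⟨(⟨sU, Subgroup.mem_zpowers _⟩, 1), ?_⟩)
        (Subgroup.zpowers_le.mpr ⟨(1, ⟨sU, Subgroup.mem_zpowers _⟩), ?_⟩)
      · simp [MonoidHom.noncommCoprod_apply, Hyp.d]
      · simp [MonoidHom.noncommCoprod_apply, Hyp.e]
    obtain ⟨⟨⟨a, ha⟩, ⟨b, hb⟩⟩, h⟩ := hc hg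
    have key : ∀ a : SL23, a ∈ Subgroup.zpowers sU → ∃ i : Fin 3, a = sU ^ (i : ℕ) := by
      intro a ha
      obtain ⟨n, rfl⟩ := ((isOfFinOrder_of_finite sU).mem_powers_iff_mem_zpowers.mpr ha)
      exact ⟨⟨n % 3, Nat.mod_lt _ (by norm_num)⟩, (pow_eq_pow_mod n sU_cube)⟩
    obtain ⟨i, hi⟩ := key a ha
    obtain ⟨j, hj⟩ := key b hb
    refine ⟨i, j, ?_⟩
    rw [← h, MonoidHom.noncommCoprod_apply, ← hi, ← hj]
    rfl
  · rintro ⟨i, j, rfl⟩
    rw [map_pow, map_pow]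
    exact mul_mem (Subgroup.mem_sup_left (pow_mem (Subgroup.mem_zpowers _) _))
      (Subgroup.mem_sup_right (pow_mem (Subgroup.mem_zpowers _) _))

theorem E_comm_t {x : G} (hx : x ∈ K.E) : Commute x K.t := by
  obtain ⟨i, j, rfl⟩ := K.mem_E_iff.mp hx
  exact ((K.t_comm_α _).symm).mul_left (K.t_comm_β _).symm

theorem stab_cases {g : G} (hgt : Commute g K.t) (hgu : Commute g K.u)
    (hE : ∀ x ∈ K.E, g * x * g⁻¹ ∈ K.E) : g = 1 ∨ g = K.t ∨ g = K.u ∨ g = K.t * K.u := by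
  have main : ∀ x y, Commute (K.α x * K.β y) K.u →
      (∀ z ∈ K.E, K.α x * K.β y * z * (K.α x * K.β y)⁻¹ ∈ K.E) →
      K.α x * K.β y = 1 ∨ K.α x * K.β y = K.t := by
    intro x y hc hn
    have hmv : ∃ i : Fin 3, x * sU * x⁻¹ = sU ^ (i : ℕ) ∨ x * sU * x⁻¹ = sU ^ (i : ℕ) * sZ := by
      obtain ⟨i, j, hij⟩ := K.mem_E_iff.mp (hn K.d (Subgroup.mem_sup_left (Subgroup.mem_zpowers _)))
      rw [show K.d = K.α sU * K.β 1 by rw [map_one, mul_one]; rfl, K.pair_inv, K.pair_mul, K.pair_mul] at hij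
      rcases K.pair_eq hij with ⟨h1, -⟩ | ⟨h1, -⟩
      · exact ⟨i, Or.inl h1⟩
      · exact ⟨i, Or.inr h1⟩
    rcases K.u_comm_iff.mp hc with ⟨h1, h2⟩ | ⟨h1, -⟩
    · rcases fixed_cases x h1 with rfl | rfl <;> rcases fixed_cases y h2 with rfl | rfl
      · left; rw [map_one, map_one, one_mul]
      · right; rw [map_one, one_mul]; exact K.t_eq_β.symm
      · right; rw [map_one, mul_one]; rfl
      · left; exact K.pair_sZ
    · obtain ⟨i, hi | hi⟩ := hmv
      · exact ((flipped_moves x h1 i).1 hi).elim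
      · exact ((flipped_moves x h1 i).2 hi).elim
  obtain ⟨x, y, h | h⟩ := K.exists_pair (K.mem_H.mpr hgt)
  · subst h
    rcases main x y hgu hE with h | h
    · exact Or.inl h
    · exact Or.inr (Or.inl h)
  · subst h
    have hc : Commute (K.α x * K.β y) K.u := by
      have := hgu.mul_left (Commute.refl K.u).inv_left
      rwa [mul_inv_cancel_right] at this
    have huE : ∀ z ∈ K.E, K.u * z * K.u⁻¹ ∈ K.E := by
      intro z hz
      obtain ⟨i, j, rfl⟩ := K.mem_E_iff.mp hz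
      rw [K.u_pair, mul_inv_cancel_right, map_pow delta, map_pow delta, delta_sU, map_pow, map_pow, map_inv, map_inv]
      exact mul_mem (pow_mem (inv_mem (Subgroup.mem_sup_left (Subgroup.mem_zpowers _))) _)
        (pow_mem (inv_mem (Subgroup.mem_sup_right (Subgroup.mem_zpowers _))) _)
    have hn : ∀ z ∈ K.E, K.α x * K.β y * z * (K.α x * K.β y)⁻¹ ∈ K.E := by
      intro z hz
      have := hE _ (huE z hz)
      rw [K.u_inv] at this
      convert this using 1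
      rw [_root_.mul_inv_rev (K.α x * K.β y) K.u, K.u_inv]
      calc K.α x * K.β y * z * (K.α x * K.β y)⁻¹
          = K.α x * K.β y * (K.u * K.u) * z * (K.u * K.u) * (K.α x * K.β y)⁻¹ := by
            rw [K.u_sq, mul_one, mul_one]
        _ = _ := by simp only [mul_assoc]
    rcases main x y hc hn with h | h <;> rw [h]
    · exact Or.inr (Or.inr (Or.inl (one_mul _)))
    · exact Or.inr (Or.inr (Or.inr rfl))

end Hyp

variable [Finite G]

theorem coreCent_conj (g d : G) :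
    coreCent (g * d * g⁻¹) = (coreCent d).map (MulAut.conj g).toMonoidHom := by
  have key : ∀ g d : G, (coreCent d).map (MulAut.conj g).toMonoidHom ≤ coreCent (g * d * g⁻¹) := by
    intro g d
    have hle : (coreCent d).map (MulAut.conj g).toMonoidHom ≤ Subgroup.centralizer ({g * d * g⁻¹} : Set G) := by
      rintro _ ⟨x, hx, rfl⟩
      have hc : Commute x d := Subgroup.mem_centralizer_singleton_iff.1 (coreCent_le d hx)
      exact Subgroup.mem_centralizer_singleton_iff.2 (hc.map (MulAut.conj g).toMonoidHom).eq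
    haveI : (((coreCent d).map (MulAut.conj g).toMonoidHom).subgroupOf
        (Subgroup.centralizer ({g * d * g⁻¹} : Set G))).Normal := by
      refine ⟨fun x hx c => ?_⟩
      rw [Subgroup.mem_subgroupOf] at hx ⊢
      obtain ⟨a, ha, hax⟩ := hx
      have hc : g⁻¹ * (c : G) * g * d * (g⁻¹ * (c : G) * g)⁻¹ = d := by
        have h : (c : G) * (g * d * g⁻¹) = (g * d * g⁻¹) * (c : G) :=
          Subgroup.mem_centralizer_singleton_iff.1 c.2
        calc _ = g⁻¹ * ((c : G) * (g * d * g⁻¹)) * (c : G)⁻¹ * g := by group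
          _ = _ := by rw [h]; group
      refine ⟨_, conj_mem_coreCent (Or.inl hc) ha, ?_⟩
      simp only [MulEquiv.toMonoidHom_eq_coe, MonoidHom.coe_coe, MulAut.conj_apply, Subgroup.coe_mul,
        Subgroup.coe_inv] at hax ⊢
      rw [← hax]; group
    exact le_coreCent hle (by
      rw [Subgroup.card_map_of_injective (MulAut.conj g).injective]; exact odd_coreCent d)
  refine le_antisymm (fun x hx => ?_) (key g d)
  have h := key g⁻¹ (g * d * g⁻¹) (Subgroup.mem_map_of_mem _ hx)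
  rw [show g⁻¹ * (g * d * g⁻¹) * g⁻¹⁻¹ = d by group] at h
  exact ⟨_, h, by simp only [MulEquiv.toMonoidHom_eq_coe, MonoidHom.coe_coe, MulAut.conj_apply]; group⟩

theorem card_coreCent_conj (g d : G) : Nat.card (coreCent (g * d * g⁻¹)) = Nat.card (coreCent d) := by
  rw [coreCent_conj, Subgroup.card_map_of_injective (MulAut.conj g).injective]

namespace Hyp

variable (K : Hyp G)

include K in
/-- A frame at `s` whose outer involution is `s'`. -/
theorem frame_u {s s' y : G} (hs : s * s = 1) (hs1 : s ≠ 1) (hs' : s' * s' = 1) (hc : Commute s s')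
    (hy3 : y ^ 3 = 1) (hy1 : y ≠ 1) (hys : Commute y s) (hinv : s' * y * s'⁻¹ = y⁻¹) :
    ∃ K' : Hyp G, K'.t = s ∧ K'.u = s' := by
  obtain ⟨g, hg⟩ := K.one_class s hs hs1
  set L := K.conj g with hL
  have ht : L.t = s := hg
  obtain ⟨x, y', hx3, hy'3, hy⟩ := L.inside_of_cube (L.mem_H.mpr (ht ▸ hys)) hy3
  obtain ⟨a, b, h | h⟩ := L.exists_pair (L.mem_H.mpr (ht ▸ hc.symm))
  · exfalso
    rw [h, hy, L.pair_inv, L.pair_mul, L.pair_mul, L.pair_inv] at hinv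
    rcases L.pair_eq hinv with ⟨h1, h2⟩ | ⟨h1, h2⟩
    · exact hy1 (by rw [hy, inner_no_invert a x hx3 h1, inner_no_invert b y' hy'3 h2, map_one, map_one, one_mul])
    · refine cube_sZ x⁻¹ (by rw [inv_pow, hx3, inv_one]) ?_
      rw [← h1, conj_pow, hx3, mul_one, mul_inv_cancel]
  have hsq : L.α (a * delta a) * L.β (b * delta b) = L.α 1 * L.β 1 := by
    rw [← L.outer_sq, ← h, hs', map_one, map_one, one_mul]
  rcases L.pair_eq hsq with ⟨ha, hb⟩ | ⟨ha, -⟩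
  swap
  · exact (outer_square a (by rw [ha, one_mul])).elim
  obtain ⟨p, hp⟩ := outer_conj a ha
  obtain ⟨q, hq⟩ := outer_conj b hb
  set w := L.α p * L.β q with hw
  have hwt : w * L.t * w⁻¹ = L.t := by
    rw [((L.t_comm_α p).mul_right (L.t_comm_β q)).symm.eq, mul_inv_cancel_right]
  have hws : w * s' * w⁻¹ = L.α (p * a * delta p⁻¹) * L.β (q * b * delta q⁻¹) * L.u := by
    rw [hw, h, L.pair_inv, mul_assoc, mul_assoc _ L.u, L.u_pair, ← mul_assoc, ← mul_assoc, L.pair_mul,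
      L.pair_mul]
  have hlast : w * s' * w⁻¹ = L.u ∨ w * s' * w⁻¹ = L.t * L.u := by
    rcases hp with hp | hp <;> rcases hq with hq | hq <;> rw [hws, hp, hq]
    · left; rw [map_one, map_one, one_mul, one_mul]
    · right; rw [map_one, one_mul, L.t_eq_β]
    · right; rw [map_one, mul_one]; rfl
    · left; rw [L.pair_sZ, one_mul]
  have hwt' : w⁻¹ * L.t * w⁻¹⁻¹ = L.t := by
    rw [inv_inv]
    conv_lhs => rw [← hwt]
    group
  have hback : ∀ z, w * s' * w⁻¹ = z → w⁻¹ * z * w⁻¹⁻¹ = s' := fun z hz => by rw [← hz]; group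
  rcases hlast with h' | h'
  · exact ⟨L.conj w⁻¹, by rw [t_conj, hwt', ht], hback _ h'⟩
  · exact ⟨L.twist.conj w⁻¹, by rw [t_conj, t_twist, hwt', ht], hback _ h'⟩

variable {R : Subgroup G}

/-- No element with two flipped components normalises an invariant subgroup with fixed points `E`. -/
theorem no_flip_flip (hRt : cfix R K.t = K.E) {L : Hyp G} (hLt : L.t = K.t * K.u) (hLu : L.u = K.t)
    {x y : SL23} (hx : delta x = x * sZ) (hy : delta y = y * sZ)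
    (hn : L.α x * L.β y ∈ Subgroup.normalizer (R : Set G)) : False := by
  set j := L.α x * L.β y with hj
  have hjt : Commute j K.t := by rw [← hLu]; exact L.u_comm_iff.mpr (Or.inr ⟨hx, hy⟩)
  have hjtu : Commute j (K.t * K.u) := hLt ▸ (L.mem_H.mp (L.pair_mem_H x y))
  have hju : Commute j K.u := by
    have := hjt.mul_right hjtu
    rwa [← mul_assoc, K.t_sq, one_mul] at this
  have hE : ∀ z ∈ K.E, j * z * j⁻¹ ∈ K.E := by
    intro z hz
    rw [← hRt] at hz ⊢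
    refine mem_cfix.mpr ⟨(Subgroup.mem_normalizer_iff.mp hn z).mp hz.1, ?_⟩
    exact (hjt.mul_left (mem_cfix.mp hz).2).mul_left hjt.inv_left
  have hin : ∀ a b, j = L.α a * L.β b → (a = 1 ∨ a = sZ) → False := by
    intro a b h ha
    rcases L.pair_eq (hj.symm.trans h) with ⟨h1, -⟩ | ⟨h1, -⟩ <;> rcases ha with rfl | rfl
    · exact (flipped_ne x hx).1 h1
    · exact (flipped_ne x hx).2 h1
    · exact (flipped_ne x hx).2 (by rw [h1, one_mul])
    · exact (flipped_ne x hx).1 (by rw [h1, sZ_sq])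
  rcases K.stab_cases hjt hju hE with h | h | h | h
  · exact hin 1 1 (by rw [h, map_one, map_one, one_mul]) (Or.inl rfl)
  · exact L.pair_ne_u x y (h.trans hLu.symm)
  · refine L.pair_ne_u (x * sZ) y ?_
    rw [map_mul, mul_assoc, (L.comm sZ y).eq, ← mul_assoc, ← hj, h, show L.α sZ = L.t from rfl, hLt,
      ← mul_assoc, ← K.t_comm_u.eq, mul_assoc, K.u_sq, mul_one, hLu]
  · exact hin sZ 1 (by rw [h, map_one, mul_one]; exact hLt.symm) (Or.inr rfl)

/-- An element exchanging `t` and `u`, from one flipped and one central component. -/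
theorem swap_of_flip {L : Hyp G} (hLt : L.t = K.t * K.u) (hLu : L.u = K.t) {x y : SL23}
    (hx : delta x = x * sZ) (hy : y = 1 ∨ y = sZ) :
    L.α x * L.β y * K.t * (L.α x * L.β y)⁻¹ = K.u := by
  have hd : delta y = y := by rcases hy with rfl | rfl; exacts [map_one _, delta_sZ]
  rw [← hLu, L.pair_inv, mul_assoc, L.u_pair, ← mul_assoc, L.pair_mul, map_inv, map_inv, hd, hx,
    mul_inv_cancel, map_one, mul_one]
  have e : x * (x * sZ)⁻¹ = sZ := by
    rw [_root_.mul_inv_rev, inv_eq_of_mul_eq_one_right sZ_sq, ← mul_assoc, ← sZ_comm x,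
      mul_inv_cancel_right]
  rw [e, show L.α sZ = L.t from rfl, hLt, hLu, K.t_comm_u.eq, mul_assoc, K.t_sq, mul_one]

theorem u_inverts {o : G} (hc : Commute o (K.t * K.u)) (hinv : K.t * o * K.t⁻¹ = o⁻¹) :
    K.u * o * K.u⁻¹ = o⁻¹ := by
  calc K.u * o * K.u⁻¹ = K.t * (K.t * K.u * o * (K.t * K.u)⁻¹) * K.t⁻¹ := by
        rw [_root_.mul_inv_rev, K.t_inv]
        simp only [← mul_assoc, K.t_sq, one_mul]
        rw [mul_assoc _ K.t K.t, K.t_sq, mul_one]
    _ = o⁻¹ := by rw [hc.symm.eq, mul_inv_cancel_right, hinv]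

theorem exists_tu_frame {o : G} (h3 : o ^ 3 = 1) (h1 : o ≠ 1) (hc : Commute o (K.t * K.u))
    (hinv : K.t * o * K.t⁻¹ = o⁻¹) : ∃ L : Hyp G, L.t = K.t * K.u ∧ L.u = K.t := by
  refine K.frame_u ?_ ?_ K.t_sq ?_ h3 h1 hc hinv
  · rw [← mul_assoc, mul_assoc K.t, ← K.t_comm_u.eq, ← mul_assoc, K.t_sq, one_mul, K.u_sq]
  · intro h
    have h2 : K.t = K.u := (mul_eq_one_iff_eq_inv.mp h).trans K.u_inv
    exact K.pair_ne_u sZ 1 (by rw [map_one, mul_one]; exact h2)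
  · exact ((Commute.refl K.t).mul_right K.t_comm_u).symm

/-- Two such elements commute, or some element of the normalizer exchanges `t` and `u`. -/
theorem commute_or_swap (hRt : cfix R K.t = K.E) {o₁ o₂ : G}
    (n₁ : o₁ ∈ Subgroup.normalizer (R : Set G)) (n₂ : o₂ ∈ Subgroup.normalizer (R : Set G))
    (h₁ : o₁ ^ 3 = 1) (h₂ : o₂ ^ 3 = 1) (c₁ : Commute o₁ (K.t * K.u)) (c₂ : Commute o₂ (K.t * K.u))
    (i₁ : K.t * o₁ * K.t⁻¹ = o₁⁻¹) (i₂ : K.t * o₂ * K.t⁻¹ = o₂⁻¹) :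
    Commute o₁ o₂ ∨ ∃ j ∈ Subgroup.normalizer (R : Set G), j * K.t * j⁻¹ = K.u := by
  by_cases ho : o₁ = 1
  · exact Or.inl (ho ▸ Commute.one_left _)
  obtain ⟨L, hLt, hLu⟩ := K.exists_tu_frame h₁ ho c₁ i₁
  obtain ⟨x₁, hx₁, y₁, hy₁, e₁⟩ := L.line_of_inv (hLt ▸ c₁) h₁ (hLu ▸ i₁)
  obtain ⟨x₂, hx₂, y₂, hy₂, e₂⟩ := L.line_of_inv (hLt ▸ c₂) h₂ (hLu ▸ i₂)
  have hw : ∀ k : ℕ, L.α (word k x₁ x₂) * L.β (word k y₁ y₂) ∈ Subgroup.normalizer (R : Set G) := by
    intro k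
    have h := pow_mem (mul_mem (mul_mem n₁ (pow_mem n₂ k)) n₁) 3
    rwa [e₁, e₂, L.pair_pow, L.pair_mul, L.pair_mul, L.pair_pow] at h
  by_cases hx : x₁ * x₂ = x₂ * x₁
  · by_cases hy : y₁ * y₂ = y₂ * y₁
    · left
      unfold Commute SemiconjBy
      rw [e₁, e₂, L.pair_mul, L.pair_mul, hx, hy]
    · right
      obtain ⟨k, hk⟩ : ∃ k : Fin 3, delta (word k y₁ y₂) = word k y₁ y₂ * sZ := by
        rcases word_noncomm y₁ hy₁ y₂ hy₂ hy with h | h
        · exact ⟨1, h.1⟩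
        · exact ⟨2, h.1⟩
      refine ⟨_, hw k, ?_⟩
      rw [word_cases x₁ hx₁ x₂ hx₂ hx k, (L.comm 1 (word k y₁ y₂)).eq]
      exact K.swap_of_flip (L := L.swap) (by rw [t_swap]; exact hLt) hLu hk (Or.inl rfl)
  · obtain ⟨k, hk, hk'⟩ : ∃ k : Fin 3, delta (word k x₁ x₂) = word k x₁ x₂ * sZ ∧
        (delta (word k y₁ y₂) = word k y₁ y₂ * sZ ∨ word k y₁ y₂ = 1 ∨ word k y₁ y₂ = sZ) := by
      have other : ∀ k : Fin 3, k = 1 ∨ k = 2 →
          (delta (word k y₁ y₂) = word k y₁ y₂ * sZ ∨ word k y₁ y₂ = 1 ∨ word k y₁ y₂ = sZ) := by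
        intro k hk
        by_cases hy : y₁ * y₂ = y₂ * y₁
        · exact Or.inr (Or.inl (word_cases y₁ hy₁ y₂ hy₂ hy k))
        rcases word_noncomm y₁ hy₁ y₂ hy₂ hy with h | h <;> rcases hk with rfl | rfl
        exacts [Or.inl h.1, Or.inr (Or.inr h.2), Or.inr (Or.inr h.2), Or.inl h.1]
      rcases word_noncomm x₁ hx₁ x₂ hx₂ hx with h | h
      · exact ⟨1, h.1, other 1 (Or.inl rfl)⟩
      · exact ⟨2, h.1, other 2 (Or.inr rfl)⟩
    rcases hk' with hy | hy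
    · exact (K.no_flip_flip hRt hLt hLu hk hy (hw k)).elim
    · exact Or.inr ⟨_, hw k, K.swap_of_flip hLt hLu hk hy⟩

/-- If the fixed groups of `t` and `u` differ in order, such elements commute. -/
theorem norm_commute (hRt : cfix R K.t = K.E) (hne : Nat.card (cfix R K.u) ≠ Nat.card (cfix R K.t))
    {o₁ o₂ : G} (n₁ : o₁ ∈ Subgroup.normalizer (R : Set G)) (n₂ : o₂ ∈ Subgroup.normalizer (R : Set G))
    (h₁ : o₁ ^ 3 = 1) (h₂ : o₂ ^ 3 = 1) (c₁ : Commute o₁ (K.t * K.u)) (c₂ : Commute o₂ (K.t * K.u))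
    (i₁ : K.t * o₁ * K.t⁻¹ = o₁⁻¹) (i₂ : K.t * o₂ * K.t⁻¹ = o₂⁻¹) : Commute o₁ o₂ := by
  refine (K.commute_or_swap hRt n₁ n₂ h₁ h₂ c₁ c₂ i₁ i₂).resolve_right ?_
  rintro ⟨j, hj, hj'⟩
  exact hne (CfsgLib.GTwoTwoLocal.card_cent_conj hj hj').symm

/-- A commutative group of order nine of such elements is a product of two lines. -/
theorem sylow_shape {L : Hyp G} {T : Subgroup G} (hT : Nat.card T = 9)
    (hl : ∀ o ∈ T, ∃ x ∈ lineSet, ∃ y ∈ lineSet, o = L.α x * L.β y)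
    (hc : ∀ a ∈ T, ∀ b ∈ T, Commute a b) :
    ∃ x y, (x = sU ∨ x = sL) ∧ (y = sU ∨ y = sL) ∧ L.α x * L.β y ∈ T ∧ L.α x ∈ T ∧ L.β y ∈ T := by
  classical
  let A : Finset SL23 := {1, sU, sU ^ 2}
  let B : Finset SL23 := {1, sL, sL ^ 2}
  have hsZ : ∀ a ∈ lineSet, ∀ b ∈ lineSet, a * b ≠ b * a * sZ := by decide +kernel
  have hcomp : ∀ o ∈ T, ∀ o' ∈ T, ∀ x ∈ lineSet, ∀ y ∈ lineSet, ∀ x' ∈ lineSet, ∀ y' ∈ lineSet,
      o = L.α x * L.β y → o' = L.α x' * L.β y' → x * x' = x' * x ∧ y * y' = y' * y := by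
    intro o ho o' ho' x hx y hy x' hx' y' hy' e e'
    have h := hc o ho o' ho'
    rw [e, e', Commute, SemiconjBy, L.pair_mul, L.pair_mul] at h
    rcases L.pair_eq h with h | ⟨h, -⟩
    · exact h
    · exact (hsZ x hx x' hx' h).elim
  choose f hf g hg hfg using hl
  have side : ∀ F : (o : G) → o ∈ T → SL23, (∀ o h, F o h ∈ lineSet) →
      (∀ o h o' h', F o h * F o' h' = F o' h' * F o h) →
      (∀ o h, F o h ∈ A) ∨ (∀ o h, F o h ∈ B) := by
    intro F hF hcm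
    by_contra hno
    push Not at hno
    obtain ⟨⟨o, h, ho⟩, ⟨o', h', ho'⟩⟩ := hno
    rcases line_comm _ (hF o h) _ (hF o' h') (hcm o h o' h') with h2 | h2
    · exact ho h2.1
    · exact ho' h2.2
  obtain ⟨x, hx, hxA⟩ : ∃ x, (x = sU ∨ x = sL) ∧ ∀ o h, f o h ∈ ({1, x, x ^ 2} : Finset SL23) := by
    rcases side f hf (fun o h o' h' => (hcomp o h o' h' _ (hf o h) _ (hg o h) _ (hf o' h') _ (hg o' h')
      (hfg o h) (hfg o' h')).1) with h | h
    · exact ⟨sU, Or.inl rfl, h⟩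
    · exact ⟨sL, Or.inr rfl, h⟩
  obtain ⟨y, hy, hyA⟩ : ∃ y, (y = sU ∨ y = sL) ∧ ∀ o h, g o h ∈ ({1, y, y ^ 2} : Finset SL23) := by
    rcases side g hg (fun o h o' h' => (hcomp o h o' h' _ (hf o h) _ (hg o h) _ (hf o' h') _ (hg o' h')
      (hfg o h) (hfg o' h')).2) with h | h
    · exact ⟨sU, Or.inl rfl, h⟩
    · exact ⟨sL, Or.inr rfl, h⟩
  let P := ({1, x, x ^ 2} : Finset SL23) ×ˢ ({1, y, y ^ 2} : Finset SL23)
  let φ : T → P := fun o => ⟨(f o o.2, g o o.2), Finset.mem_product.mpr ⟨hxA o o.2, hyA o o.2⟩⟩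
  have hφ : Function.Injective φ := by
    intro a b h
    have h1 := congrArg (fun p : P => L.α p.1.1 * L.β p.1.2) h
    simp only [φ] at h1
    rw [← hfg a a.2, ← hfg b b.2] at h1
    exact Subtype.ext h1
  have hP : P.card ≤ 9 := by
    rw [Finset.card_product]
    exact Nat.mul_le_mul Finset.card_le_three Finset.card_le_three
  have hbij : Function.Bijective φ := (Nat.bijective_iff_injective_and_card φ).mpr
    ⟨hφ, le_antisymm (Nat.card_le_card_of_injective φ hφ) (by rw [Nat.card_eq_finsetCard, hT]; exact hP)⟩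
  have get : ∀ a b, a ∈ ({1, x, x ^ 2} : Finset SL23) → b ∈ ({1, y, y ^ 2} : Finset SL23) →
      L.α a * L.β b ∈ T := by
    intro a b ha hb
    obtain ⟨o, ho⟩ := hbij.2 ⟨(a, b), Finset.mem_product.mpr ⟨ha, hb⟩⟩
    have h1 := congrArg (fun p : P => L.α p.1.1 * L.β p.1.2) ho
    simp only [φ] at h1
    rw [← hfg o o.2] at h1
    exact h1 ▸ o.2
  refine ⟨x, y, hx, hy, get x y (by simp) (by simp), ?_, ?_⟩
  · simpa using get x 1 (by simp) (by simp)
  · simpa using get 1 y (by simp) (by simp)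

/-- Two such groups of order nine cannot meet trivially. -/
theorem not_disjoint (hRt : cfix R K.t = K.E) {T₁ T₂ : Subgroup G}
    (h₁ : Nat.card T₁ = 9) (h₂ : Nat.card T₂ = 9)
    (l₁ : ∀ o ∈ T₁, o ∈ Subgroup.normalizer (R : Set G) ∧ o ^ 3 = 1 ∧ Commute o (K.t * K.u) ∧
      K.t * o * K.t⁻¹ = o⁻¹)
    (l₂ : ∀ o ∈ T₂, o ∈ Subgroup.normalizer (R : Set G) ∧ o ^ 3 = 1 ∧ Commute o (K.t * K.u) ∧
      K.t * o * K.t⁻¹ = o⁻¹)
    (c₁ : ∀ a ∈ T₁, ∀ b ∈ T₁, Commute a b) (c₂ : ∀ a ∈ T₂, ∀ b ∈ T₂, Commute a b) :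
    T₁ ⊓ T₂ ≠ ⊥ := by
  intro hb
  obtain ⟨o, ho, hone⟩ := (Subgroup.ne_bot_iff_exists_ne_one (H := T₁)).mp (fun h => by
    rw [h, Subgroup.card_bot] at h₁; norm_num at h₁) |> fun ⟨o, ho⟩ => (⟨o.1, o.2, fun h => ho (Subtype.ext h)⟩ :
      ∃ o, o ∈ T₁ ∧ o ≠ 1)
  obtain ⟨-, o3, oc, oi⟩ := l₁ o ho
  obtain ⟨L, hLt, hLu⟩ := K.exists_tu_frame o3 hone oc oi
  have lines : ∀ T : Subgroup G, (∀ o ∈ T, o ∈ Subgroup.normalizer (R : Set G) ∧ o ^ 3 = 1 ∧
      Commute o (K.t * K.u) ∧ K.t * o * K.t⁻¹ = o⁻¹) →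
      ∀ o ∈ T, ∃ x ∈ lineSet, ∃ y ∈ lineSet, o = L.α x * L.β y := fun T hl o ho =>
    L.line_of_inv (hLt ▸ (hl o ho).2.2.1) (hl o ho).2.1 (hLu ▸ (hl o ho).2.2.2)
  obtain ⟨x, y, hx, hy, m, mα, mβ⟩ := sylow_shape h₁ (lines T₁ l₁) c₁
  obtain ⟨x', y', hx', hy', m', mα', mβ'⟩ := sylow_shape h₂ (lines T₂ l₂) c₂
  have hUne : sU ≠ 1 := sU_ne_one
  have hLne : sL ≠ 1 := by decide +kernel
  have share : ∀ z : G, z ∈ T₁ → z ∈ T₂ → z = 1 := fun z h h' =>
    Subgroup.mem_bot.mp (hb ▸ Subgroup.mem_inf.mpr ⟨h, h'⟩)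
  have hxne : x ≠ x' := by
    rintro rfl
    have := L.α_inj ((share _ mα mα').trans (map_one L.α).symm)
    rcases hx with rfl | rfl <;> contradiction
  have hyne : y ≠ y' := by
    rintro rfl
    have := L.β_inj ((share _ mβ mβ').trans (map_one L.β).symm)
    rcases hy with rfl | rfl <;> contradiction
  have hj : L.α (x * x'⁻¹ * x) * L.β (y * y'⁻¹ * y) ∈ Subgroup.normalizer (R : Set G) := by
    rw [← L.pair_mul, ← L.pair_mul, ← L.pair_inv]
    exact mul_mem (mul_mem (l₁ _ m).1 (inv_mem (l₂ _ m').1)) (l₁ _ m).1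
  have flip : ∀ a b : SL23, (a = sU ∨ a = sL) → (b = sU ∨ b = sL) → a ≠ b →
      delta (a * b⁻¹ * a) = a * b⁻¹ * a * sZ := by
    rintro a b (rfl | rfl) (rfl | rfl) hab
    exacts [(hab rfl).elim, opp_word.1, opp_word.2, (hab rfl).elim]
  exact K.no_flip_flip hRt hLt hLu (flip x x' hx hx' hxne) (flip y y' hy hy' hyne) hj

end Hyp

end CfsgLib.GTwoInvol
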