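import Cfsg.Agent.Lib.GTwoInvol.FusionInvol

/-!
The hypothesis structure from the two local subgroups.
-/

set_option autoImplicit false
set_option linter.style.haveILetI false
set_option linter.unusedSectionVars false

namespace CfsgLib.GTwoInvol

variable {G : Type*} [Group G] [Finite G]

namespace Pre

variable {H M V : Subgroup G}

theorem exists_outside (K : Pre H) (E : Eight M V (K.α sZ)) : ∃ j ∈ K.qGrp, j * j = 1 ∧ j ∉ V := by
  by_contra h
  push Not at h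
  have k1 : ∀ x : SL23, x ^ 4 = 1 → x * x ≠ 1 → x * x = sZ := by decide +kernel
  have k2 : ∃ a b : {x : SL23 // x ^ 4 = 1 ∧ x * x ≠ 1}, a.1 ≠ b.1 ∧ a.1 ≠ b.1 * sZ := by
    refine ⟨⟨sJ, by decide +kernel⟩, ⟨sU * sJ * sU⁻¹, by decide +kernel⟩, ?_, ?_⟩ <;> decide +kernel
  obtain ⟨a, b, hab, hab'⟩ := k2
  have hmem : ∀ x y : SL23, x ^ 4 = 1 → x * x ≠ 1 → y ^ 4 = 1 → y * y ≠ 1 → K.α x * K.β y ∈ V := by
    intro x y hx hx' hy hy'
    refine h _ (K.mem_q.2 ⟨x, y, hx, hy, rfl⟩) ?_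
    rw [K.pair_mul, k1 x hx hx', k1 y hy hy', ← K.z_eq, K.t_sq]
  have hc : ∀ p : Bool, (cond p a.1 b.1) ^ 4 = 1 ∧ cond p a.1 b.1 * cond p a.1 b.1 ≠ 1 := fun p => by
    cases p
    · exact b.2
    · exact a.2
  let g : Bool × {x : SL23 // x ^ 4 = 1 ∧ x * x ≠ 1} → V := fun p =>
    ⟨K.α (cond p.1 a.1 b.1) * K.β p.2.1, hmem _ _ (hc p.1).1 (hc p.1).2 p.2.2.1 p.2.2.2⟩
  have hg : Function.Injective g := by
    rintro ⟨p, x⟩ ⟨q, y⟩ e
    have e' : K.α (cond p a.1 b.1) * K.β x.1 = K.α (cond q a.1 b.1) * K.β y.1 := congrArg Subtype.val e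
    have e1 : K.α ((cond q a.1 b.1)⁻¹ * cond p a.1 b.1) * K.β (y.1⁻¹ * x.1) = 1 := by
      rw [← K.pair_mul, e', K.pair_mul, inv_mul_cancel, inv_mul_cancel, map_one, map_one, one_mul]
    rcases K.pair_one e1 with ⟨h1, h2⟩ | ⟨h1, -⟩
    · rw [inv_mul_eq_one] at h1 h2
      refine Prod.ext ?_ (Subtype.ext h2.symm)
      cases p <;> cases q <;> first
        | rfl
        | exact absurd h1 hab
        | exact absurd h1.symm hab
    · rw [inv_mul_eq_iff_eq_mul] at h1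
      exfalso
      have k : ∀ x : SL23, x ≠ x * sZ := by decide +kernel
      cases p <;> cases q <;> first
        | exact k _ h1
        | exact hab' h1
        | exact hab' (by simp only [cond_true, cond_false] at h1; rw [h1, mul_assoc, sZ_sq, mul_one])
  have hn := Nat.card_le_card_of_injective g hg
  rw [E.card, Nat.card_eq_fintype_card, Fintype.card_prod, Fintype.card_bool, Model.sl_four_six] at hn
  omega

variable (K : Pre H) {u : G} (hu : u ∈ M ⊓ H) (huP : u ∉ K.α.range ⊔ K.β.range)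
  (ua : ∀ x, u * K.α x = K.α (delta x) * u) (ub : ∀ x, u * K.β x = K.β (delta x) * u)
  (E : Eight M V (K.α sZ)) (hfM : K.α sU * K.β sU ∈ M)
include hu huP ua ub E hfM

theorem u_sq : u * u = 1 := by
  refine (K.u_sq_cases hu huP ua ub).resolve_right fun hu2 => ?_
  set t := K.α sZ with ht
  have hinvol : ∀ g ∈ H, g * g = 1 → g ∈ K.qGrp := by
    intro g hg hg2
    by_cases hgP : g ∈ K.α.range ⊔ K.β.range
    · exact K.q_of_pow hgP (n := 1) (by rw [pow_one, pow_two]; exact hg2)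
    · exfalso
      obtain ⟨x, y, rfl⟩ := K.outer_form hu huP ua ub hg hgP
      rw [K.sq_outer hu huP ua ub, hu2, mul_assoc, ← (K.comm sZ (y * delta y)).eq, ← mul_assoc, ← map_mul] at hg2
      rcases K.pair_one hg2 with ⟨e, -⟩ | ⟨-, e⟩
      · rw [mul_eq_one_iff_eq_inv] at e
        refine Model.sl_delta_ne x (e.trans ?_)
        exact inv_eq_of_mul_eq_one_right sZ_sq
      · exact Model.sl_delta_ne y e
  obtain ⟨j, hjq, hj2, hjV⟩ := K.exists_outside E
  have hjM : j ∈ M := (K.q_le_inf E hjq).1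
  have hVq := K.v_le_q hu huP ua ub E hfM
  have htV : t ∈ V := E.mem
  obtain ⟨v, hv, hv1, hvt, hjv⟩ : ∃ v ∈ V, v ≠ 1 ∧ v ≠ t ∧ j * v = v * j := by
    by_contra h
    push Not at h
    have hmv : ∀ v ∈ V, v ≠ 1 → v ≠ t → j * v = v * j * t := fun v hv h1 h2 =>
      (K.q_comm hjq (hVq hv)).resolve_left (h v hv h1 h2)
    obtain ⟨v, hv, hvne⟩ : ∃ v ∈ V, v ≠ 1 ∧ v ≠ t := by
      by_contra hc
      push Not at hc
      have hsub : (V : Set G) ⊆ {1, t} := fun x hx => by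
        by_cases hx1 : x = 1
        · exact Or.inl hx1
        · exact Or.inr (hc x hx hx1)
      have hn := Set.ncard_le_ncard hsub
      rw [Set.ncard_pair K.t_ne.symm, ← Nat.card_coe_set_eq] at hn
      have := E.card
      simp only [SetLike.coe_sort_coe] at hn
      omega
    classical
    obtain ⟨w, hw, hwv⟩ : ∃ w ∈ V, w ∉ ({1, t, v, v * t} : Finset G) := by
      by_contra hc
      push Not at hc
      have hsub : (V : Set G) ⊆ ↑({1, t, v, v * t} : Finset G) := fun x hx => Finset.mem_coe.2 (hc x hx)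
      have hn := Set.ncard_le_ncard hsub
      rw [Set.ncard_coe_finset, ← Nat.card_coe_set_eq] at hn
      have h4 : ({1, t, v, v * t} : Finset G).card ≤ 4 := Finset.card_le_four
      have := E.card
      simp only [SetLike.coe_sort_coe] at hn
      omega
    simp only [Finset.mem_insert, Finset.mem_singleton, not_or] at hwv
    refine h (v * w) (V.mul_mem hv hw) (fun e => hwv.2.2.1 ?_) (fun e => hwv.2.2.2 ?_) ?_
    · rw [mul_eq_one_iff_eq_inv, inv_eq_of_mul_eq_one_right (E.sq w hw)] at e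
      exact e.symm
    · rw [← e, ← mul_assoc, E.sq v hv, one_mul]
    · rw [← mul_assoc, hmv v hv hvne.1 hvne.2, mul_assoc, E.comm t htV w hw, ← mul_assoc, mul_assoc v j w,
        hmv w hw hwv.1 hwv.2.1, show v * (w * j * t) * t = v * w * j * (t * t) by group, K.t_sq, mul_one]
  obtain ⟨m, hm, hmv⟩ := (K.card_inf E).2 v hv hv1
  have hj' : m⁻¹ * j * m ∈ K.qGrp := by
    refine hinvol _ (K.mem_H.2 ?_) ?_
    · calc m⁻¹ * j * m * t = m⁻¹ * (j * (m * t * m⁻¹)) * m := by group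
        _ = m⁻¹ * ((m * t * m⁻¹) * j) * m := by rw [hmv, hjv]
        _ = t * (m⁻¹ * j * m) := by group
    · rw [show m⁻¹ * j * m * (m⁻¹ * j * m) = m⁻¹ * (j * j) * m by group, hj2]; group
  apply hjV
  refine E.self j hjM fun x hx => ?_
  rcases K.q_comm hjq (hVq hx) with e | e
  · exact e
  have hx' : m⁻¹ * x * m ∈ V := by simpa using E.norm _ (inv_mem hm) x hx
  rcases K.q_comm hj' (hVq hx') with e' | e'
  · calc j * x = m * (m⁻¹ * j * m * (m⁻¹ * x * m)) * m⁻¹ := by group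
      _ = x * j := by rw [e']; group
  · exfalso
    apply hvt
    have e'' : j * x = x * j * v := by
      calc j * x = m * (m⁻¹ * j * m * (m⁻¹ * x * m)) * m⁻¹ := by group
        _ = x * j * (m * t * m⁻¹) := by rw [e', ← ht]; group
        _ = _ := by rw [hmv]
    exact mul_left_cancel (e''.symm.trans e)

theorem sylow_eq (h2 : u * u = 1) :
    ∃ P : Sylow 2 G, (P : Subgroup G) ≤ M ⊓ H ∧ K.qGrp ≤ (P : Subgroup G) ∧ u ∈ (P : Subgroup G) ∧
      Nat.card (P : Subgroup G) = 64 := by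
  haveI := Fact.mk Nat.prime_two
  obtain ⟨T, hT, hTc, hTp, hqT, huT⟩ := K.exists_sylow E hu (by rw [show 4 = 2 * 2 from rfl, pow_mul, pow_two u, h2, one_pow])
  obtain ⟨P, hP⟩ := hTp.exists_le_sylow
  suffices hPH : (P : Subgroup G) ≤ H by
    have hPT : (P : Subgroup G) = T :=
      (Subgroup.eq_of_le_of_card_ge hP (by rw [hTc]; exact K.card_le_sixtyfour P.2 hPH)).symm
    exact ⟨P, hPT ▸ hT, hPT ▸ hqT, hPT ▸ huT, hPT ▸ hTc⟩
  haveI : Nontrivial (P : Subgroup G) := by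
    refine Finite.one_lt_card_iff_nontrivial.1 ?_
    have := Subgroup.card_le_of_le hP
    omega
  haveI := P.2.center_nontrivial
  obtain ⟨c, hc⟩ := exists_prime_orderOf_dvd_card' (G := Subgroup.center (P : Subgroup G)) 2 (by
    obtain ⟨n, hn'⟩ := IsPGroup.iff_card.1 (P.2.to_subgroup (Subgroup.center (P : Subgroup G)))
    have h1 : 1 < Nat.card (Subgroup.center (P : Subgroup G)) := Finite.one_lt_card
    rw [hn'] at h1 ⊢
    exact dvd_pow_self 2 (fun e => by rw [e, pow_zero] at h1; exact absurd h1 (lt_irrefl 1)))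
  set z : G := ((c : (P : Subgroup G)) : G) with hz
  have hz2 : z * z = 1 := by
    have := pow_orderOf_eq_one c
    rw [hc, pow_two] at this
    simpa [hz] using congrArg (fun a : Subgroup.center (P : Subgroup G) => ((a : (P : Subgroup G)) : G)) this
  have hz1 : z ≠ 1 := fun h => by
    rw [show c = 1 from Subtype.ext (Subtype.ext h), orderOf_one] at hc
    norm_num at hc
  have hzc : ∀ p ∈ (P : Subgroup G), z * p = p * z := fun p hp =>
    (congrArg Subtype.val (Subgroup.mem_center_iff.1 c.2 ⟨p, hp⟩)).symm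
  have htT : K.α sZ ∈ T := hqT (K.mem_q.2 ⟨sZ, 1, by decide +kernel, one_pow 4, by simp⟩)
  have hzH : z ∈ H := K.mem_H.2 (hzc _ (hP htT))
  have hcq : ∀ q ∈ K.qGrp, z * q = q * z := fun q hq => hzc q (hP (hqT hq))
  have hzt : z = K.α sZ := by
    by_cases hzP : z ∈ K.α.range ⊔ K.β.range
    · obtain ⟨x, y, hxy⟩ := K.mem_prod.1 hzP
      have hx : x = 1 ∨ x = sZ := Model.sl_center x fun q hq => by
        have h := hcq (K.α q) (K.mem_q.2 ⟨q, 1, hq, one_pow 4, by simp⟩)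
        rw [hxy, mul_assoc, ← (K.comm q y).eq, ← mul_assoc, ← mul_assoc, ← map_mul, ← map_mul] at h
        exact K.α_inj (mul_right_cancel h)
      have hy : y = 1 ∨ y = sZ := Model.sl_center y fun q hq => by
        have h := hcq (K.β q) (K.mem_q.2 ⟨1, q, one_pow 4, hq, by simp⟩)
        rw [hxy, mul_assoc, ← map_mul, ← mul_assoc (K.β q), ← (K.comm x q).eq, mul_assoc, ← map_mul] at h
        exact K.β_inj (mul_left_cancel h)
      rcases hx with rfl | rfl <;> rcases hy with rfl | rfl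
      · exact absurd (by simpa using hxy) hz1
      · rw [hxy, map_one, one_mul, K.z_eq]
      · rw [hxy, map_one, mul_one]
      · exact absurd (by rw [hxy, ← K.z_eq, K.t_sq]) hz1
    · exfalso
      obtain ⟨x, y, hxy⟩ := K.outer_form hu huP ua ub hzH hzP
      obtain ⟨q, hq, hne⟩ := Model.sl_delta_move x
      have h := mul_inv_eq_iff_eq_mul.2 (hcq (K.α q) (K.mem_q.2 ⟨q, 1, hq, one_pow 4, by simp⟩))
      rw [hxy, show K.α x * K.β y * u * K.α q * (K.α x * K.β y * u)⁻¹ =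
        K.α x * K.β y * (u * K.α q * u⁻¹) * (K.α x * K.β y)⁻¹ by group, ua, mul_inv_cancel_right, K.conj_α] at h
      exact hne (K.α_inj h)
  intro p hp
  exact K.mem_H.2 (hzt ▸ (hzc p hp).symm)

theorem one_class (h2 : u * u = 1) {i : G} (hi : i * i = 1) (hne : i ≠ 1) :
    ∃ g : G, g * K.α sZ * g⁻¹ = i := by
  haveI := Fact.mk Nat.prime_two
  obtain ⟨P, hPD, hqP, huP', hPc⟩ := K.sylow_eq hu huP ua ub E hfM h2
  set t := K.α sZ with ht
  have hJ : ∃ g : G, g * t * g⁻¹ = K.α sJ * K.β sJ := by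
    obtain ⟨v, hv, hvne⟩ : ∃ v ∈ V, v ≠ 1 ∧ v ≠ t := by
      by_contra hc
      push Not at hc
      have hsub : (V : Set G) ⊆ {1, t} := fun x hx => by
        by_cases hx1 : x = 1
        · exact Or.inl hx1
        · exact Or.inr (hc x hx hx1)
      have hn := Set.ncard_le_ncard hsub
      rw [Set.ncard_pair K.t_ne.symm, ← Nat.card_coe_set_eq] at hn
      have := E.card
      simp only [SetLike.coe_sort_coe] at hn
      omega
    obtain ⟨m, -, hm⟩ := (K.card_inf E).2 v hv hvne.1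
    rcases K.q_involution (K.v_le_q hu huP ua ub E hfM hv) (E.sq v hv) with e | e | ⟨a, b, e⟩
    · exact absurd e hvne.1
    · exact absurd e hvne.2
    · refine ⟨(K.α a * K.β b)⁻¹ * m, ?_⟩
      rw [show (K.α a * K.β b)⁻¹ * m * t * ((K.α a * K.β b)⁻¹ * m)⁻¹ =
        (K.α a * K.β b)⁻¹ * (m * t * m⁻¹) * (K.α a * K.β b) by group, hm, e]
      group
  have hQ : ∀ q ∈ K.qGrp, q * q = 1 → q ≠ 1 → ∃ g : G, g * t * g⁻¹ = q := by
    intro q hq hq2 hq1
    rcases K.q_involution hq hq2 with e | e | ⟨a, b, e⟩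
    · exact absurd e hq1
    · exact ⟨1, by simp [e, ht]⟩
    · obtain ⟨g, hg⟩ := hJ
      exact ⟨K.α a * K.β b * g, by rw [e, ← hg]; group⟩
  have hz : IsPGroup 2 (Subgroup.zpowers i) :=
    IsPGroup.of_card (n := 1) (by rw [Nat.card_zpowers, pow_one]; exact orderOf_eq_prime (by rw [pow_two]; exact hi) hne)
  obtain ⟨P1, hP1⟩ := hz.exists_le_sylow
  obtain ⟨a, ha⟩ := MulAction.exists_smul_eq G P1 P
  have haP : a * i * a⁻¹ ∈ (P : Subgroup G) := by
    rw [← ha]; exact ⟨i, hP1 (Subgroup.mem_zpowers i), rfl⟩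
  set i' := a * i * a⁻¹ with hi'
  have hi'2 : i' * i' = 1 := by rw [hi', show a * i * a⁻¹ * (a * i * a⁻¹) = a * (i * i) * a⁻¹ by group, hi]; group
  have hi'1 : i' ≠ 1 := fun h => hne (conj_eq_one_iff.1 h)
  suffices h : ∃ g : G, g * t * g⁻¹ = i' by
    obtain ⟨g, hg⟩ := h
    exact ⟨a⁻¹ * g, by rw [show a⁻¹ * g * t * (a⁻¹ * g)⁻¹ = a⁻¹ * (g * t * g⁻¹) * a by group, hg, hi']; group⟩
  by_cases hq : i' ∈ K.qGrp
  · exact hQ i' hq hi'2 hi'1
  have hrel : K.qGrp.relIndex (P : Subgroup G) = 2 := by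
    rw [Subgroup.relIndex, Subgroup.index_eq_two_iff]
    refine ⟨⟨u, huP'⟩, fun b => ?_⟩
    simp only [Subgroup.mem_subgroupOf, Subgroup.coe_mul]
    have hiff : ∀ x ∈ (P : Subgroup G), x ∈ K.qGrp ↔ x ∈ K.α.range ⊔ K.β.range := fun x hx => by
      refine ⟨fun h => K.q_le h, fun h => ?_⟩
      obtain ⟨n, hn⟩ := P.2 ⟨x, hx⟩
      exact K.q_of_pow h (congrArg Subtype.val hn)
    rw [hiff _ (mul_mem b.2 huP'), hiff _ b.2, K.mul_mem_prod (hPD b.2).2 hu.2]
    by_cases hb : (b : G) ∈ K.α.range ⊔ K.β.range <;> simp [hb, huP, xor_def]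
  rcases CfsgLib.Transfer.thompson_transfer P hrel hi'2 haP hq with ⟨N, hN, hNi, hiN⟩ | ⟨g, -, hg⟩
  · exfalso
    apply hiN
    haveI := hN
    have hcomm : ∀ a b : G, a * b * a⁻¹ * b⁻¹ ∈ N := fun a b => by
      rw [show a * b * a⁻¹ * b⁻¹ = a * b * (b * a)⁻¹ by group, Subgroup.mul_mem_iff_of_index_two hNi,
        Subgroup.inv_mem_iff, Subgroup.mul_mem_iff_of_index_two hNi, Subgroup.mul_mem_iff_of_index_two hNi]
      exact Iff.comm
    set f := K.α sU * K.β sU with hf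
    have hf3 : f ^ 3 = 1 := by rw [hf, K.pair_pow, sU_cube, map_one, map_one, one_mul]
    have hfN : f ∈ N := by
      have h := Subgroup.sq_mem_of_index_two hNi (f * f)
      rwa [show (f * f) ^ 2 = f ^ 3 * f by simp only [pow_succ, pow_zero, one_mul, mul_assoc], hf3, one_mul] at h
    have hfV : f ∉ V := fun h => by
      have h3 := hf3
      rw [pow_succ, pow_two, E.sq f h, one_mul, hf] at h3
      rcases K.pair_one h3 with ⟨e, -⟩ | ⟨e, -⟩
      · exact sU_ne_one e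
      · exact absurd e (by decide +kernel)
    obtain ⟨v, hv, hfv⟩ : ∃ v ∈ V, f * v ≠ v * f := by
      by_contra hc
      push Not at hc
      exact hfV (E.self f hfM hc)
    set w := f * v * f⁻¹ * v⁻¹ with hw
    have hwV : w ∈ V := V.mul_mem (E.norm f hfM v hv) (V.inv_mem hv)
    have hw1 : w ≠ 1 := fun h => hfv (by rwa [hw, mul_inv_eq_one, mul_inv_eq_iff_eq_mul] at h)
    have hVN : V ≤ N := fun x hx => by
      by_cases hx1 : x = 1
      · exact hx1 ▸ one_mem N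
      obtain ⟨m, hm, hmw⟩ := (K.card_inf E).2 w hwV hw1
      obtain ⟨n, hn, hnx⟩ := (K.card_inf E).2 x hx hx1
      have := hN.conj_mem w (hcomm f v) (n * m⁻¹)
      rwa [← hmw, show n * m⁻¹ * (m * t * m⁻¹) * (n * m⁻¹)⁻¹ = n * t * n⁻¹ by group, hnx] at this
    rcases E.simple (N ⊓ M) inf_le_right (fun m hm x hx => ⟨hN.conj_mem x hx.1 m, M.mul_mem (M.mul_mem hm hx.2) (M.inv_mem hm)⟩)
      (le_inf hVN E.le) with h | h
    · exact absurd (h ▸ (⟨hfN, hfM⟩ : f ∈ N ⊓ M)) hfV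
    · exact (h.symm ▸ (hPD haP).1 : i' ∈ N ⊓ M).1
  · obtain ⟨g', hg'⟩ := hQ _ hg (by
      rw [show g * i' * g⁻¹ * (g * i' * g⁻¹) = g * (i' * i') * g⁻¹ by group, hi'2]; group)
      fun h => hi'1 (conj_eq_one_iff.1 h)
    exact ⟨g⁻¹ * g', by rw [show g⁻¹ * g' * t * (g⁻¹ * g')⁻¹ = g⁻¹ * (g' * t * g'⁻¹) * g by group, hg']; group⟩

theorem odd_index (h2 : u * u = 1) : Odd (Subgroup.centralizer {K.α sZ}).index := by
  haveI := Fact.mk Nat.prime_two
  obtain ⟨P, hPD, -, -, -⟩ := K.sylow_eq hu huP ua ub E hfM h2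
  rw [← K.cent, ← Nat.not_even_iff_odd]
  intro h
  exact P.not_dvd_index ((even_iff_two_dvd.1 h).trans (Subgroup.index_dvd_of_le (hPD.trans inf_le_right)))

end Pre

open Cfsg in
/-- The hypothesis structure of the recognition of `G₂(3)`. -/
theorem exists_hyp (H H₁ H₂ M : Subgroup G) (h1 : H₁ ≤ H) (h2 : H₂ ≤ H) (hn1 : (H₁.subgroupOf H).Normal)
    (hn2 : (H₂.subgroupOf H).Normal)
    (hiso1 : Nonempty (↥H₁ ≃* Matrix.SpecialLinearGroup (Fin 2) (ZMod 3)))
    (hiso2 : Nonempty (↥H₂ ≃* Matrix.SpecialLinearGroup (Fin 2) (ZMod 3)))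
    (hidx : (H₁ ⊔ H₂).relIndex H = 2) (hint1 : H₁ ⊓ H₂ = H₁ ⊓ Subgroup.centralizer (H₁ : Set G))
    (hint2 : H₁ ⊓ H₂ = H₂ ⊓ Subgroup.centralizer (H₂ : Set G))
    (hHC : H = Subgroup.centralizer ((H₁ ⊓ H₂ : Subgroup G) : Set G))
    [hOM : (Cfsg.pCore 2 ↥M).Normal]
    (hM : Nonempty ((↥M ⧸ Cfsg.pCore 2 ↥M) ≃* Matrix.SpecialLinearGroup (Fin 3) (ZMod 2)))
    (hOel : Cfsg.IsElementaryAbelian 2 (Cfsg.pCore 2 ↥M)) (hOcard : Nat.card ↥(Cfsg.pCore 2 ↥M) = 8)
    (hZin : H₁ ⊓ H₂ ≤ (Cfsg.pCore 2 ↥M).map M.subtype) : Nonempty (Hyp G) := by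
  obtain ⟨e1⟩ := hiso1
  obtain ⟨e2⟩ := hiso2
  obtain ⟨e⟩ := hM
  obtain ⟨K0, hK0⟩ := exists_pre H H₁ H₂ h1 h2 hn1 hn2 e1 e2 hidx hint1 hint2 hHC
  have E0 := exists_eight H M K0.t_ne K0.cent e hOel hOcard (hZin hK0) (by rw [K0.card_H]; decide)
  obtain ⟨K, hKz, hf, u, hu, huP, ua, ub⟩ := K0.exists_u E0
  rw [← hKz] at E0
  have husq := K.u_sq hu huP ua ub E0 hf.1
  refine ⟨{ α := K.α, β := K.β, u := u, α_inj := K.α_inj, β_inj := K.β_inj, z_eq := K.z_eq, comm := K.comm,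
            u_sq := husq, u_α := ua, u_β := ub,
            range := fun g hg => ?_,
            one_class := fun i hi hne => K.one_class hu huP ua ub E0 hf.1 husq hi hne,
            odd_index := K.odd_index hu huP ua ub E0 hf.1 husq,
            seven := ?_ }⟩
  · have hgH : g ∈ H := K.mem_H.2 hg
    by_cases hgP : g ∈ K.α.range ⊔ K.β.range
    · obtain ⟨x, y, h⟩ := K.mem_prod.1 hgP
      exact ⟨x, y, Or.inl h⟩
    · obtain ⟨x, y, h⟩ := K.outer_form hu huP ua ub hgH hgP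
      exact ⟨x, y, Or.inr h⟩
  · exact (show 7 ∣ Nat.card M from E0.cardM ▸ (by norm_num)).trans (Subgroup.card_subgroup_dvd_card M)

end CfsgLib.GTwoInvol
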