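import Cfsg.Agent.Lib.GTwoInvol.FusionPre

/-!
The product of the two factors, its 2-part, and the stabiliser of the involution in the 2-local.
-/

set_option autoImplicit false
set_option linter.style.haveILetI false
set_option linter.unusedSectionVars false

namespace CfsgLib.GTwoInvol.Pre

variable {G : Type*} [Group G] {H : Subgroup G} (K : Pre H)

/-- The product map. -/
def mulHom : SL23 × SL23 →* G := MonoidHom.noncommCoprod K.α K.β K.comm

theorem mulHom_apply (x y : SL23) : K.mulHom (x, y) = K.α x * K.β y := rfl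

theorem mulHom_range : K.mulHom.range = K.α.range ⊔ K.β.range := MonoidHom.noncommCoprod_range _ _ _

theorem mem_prod {g : G} : g ∈ K.α.range ⊔ K.β.range ↔ ∃ x y, g = K.α x * K.β y := by
  rw [← K.mulHom_range]
  exact ⟨fun ⟨⟨x, y⟩, h⟩ => ⟨x, y, h.symm⟩, fun ⟨x, y, h⟩ => ⟨(x, y), h.symm⟩⟩

theorem t_sq : K.α sZ * K.α sZ = 1 := by rw [← map_mul, sZ_sq, map_one]

theorem t_ne : K.α sZ ≠ 1 := fun h => sZ_ne_one (K.α_inj (h.trans (map_one K.α).symm))

theorem mem_H {g : G} : g ∈ H ↔ g * K.α sZ = K.α sZ * g :=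
  (SetLike.ext_iff.1 K.cent g).trans Subgroup.mem_centralizer_singleton_iff

theorem α_mem (x : SL23) : K.α x ∈ H := K.mem_H.2 (by rw [← map_mul, ← map_mul, sZ_comm])

theorem β_mem (y : SL23) : K.β y ∈ H := K.mem_H.2 (by rw [K.z_eq, ← map_mul, ← map_mul, sZ_comm])

theorem prod_le : K.α.range ⊔ K.β.range ≤ H := by
  intro g hg
  obtain ⟨x, y, rfl⟩ := K.mem_prod.1 hg
  exact mul_mem (K.α_mem x) (K.β_mem y)

theorem α_eq_β {x y : SL23} (h : K.α x = K.β y) : (x = 1 ∧ y = 1) ∨ (x = sZ ∧ y = sZ) := by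
  have hc : ∀ z : SL23, x * z = z * x := fun z => K.α_inj (by
    rw [map_mul, map_mul, h]; exact (K.comm z y).symm.eq)
  rcases center_cases x (hc _) (hc _) with hx | hx
  · left; refine ⟨hx, K.β_inj ?_⟩; rw [← h, hx, map_one, map_one]
  · right; refine ⟨hx, K.β_inj ?_⟩; rw [← h, hx]; exact K.z_eq

theorem pair_one {x y : SL23} (h : K.α x * K.β y = 1) : (x = 1 ∧ y = 1) ∨ (x = sZ ∧ y = sZ) := by
  have h' : K.α x = K.β y⁻¹ := by rw [map_inv]; exact eq_inv_of_mul_eq_one_left h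
  rcases K.α_eq_β h' with ⟨h1, h2⟩ | ⟨h1, h2⟩
  · exact Or.inl ⟨h1, inv_eq_one.1 h2⟩
  · refine Or.inr ⟨h1, ?_⟩
    rw [← inv_inv y, h2]
    exact inv_eq_of_mul_eq_one_right sZ_sq

theorem pair_mul (x y x' y' : SL23) : K.α x * K.β y * (K.α x' * K.β y') = K.α (x * x') * K.β (y * y') := by
  rw [← K.mulHom_apply, ← K.mulHom_apply, ← map_mul]; rfl

theorem pair_pow (x y : SL23) (n : ℕ) : (K.α x * K.β y) ^ n = K.α (x ^ n) * K.β (y ^ n) := by
  rw [← K.mulHom_apply, ← map_pow]; rfl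

theorem conj_pair (a b x y : SL23) :
    K.α a * K.β b * (K.α x * K.β y) * (K.α a * K.β b)⁻¹ = K.α (a * x * a⁻¹) * K.β (b * y * b⁻¹) := by
  rw [← K.mulHom_apply, ← K.mulHom_apply, ← map_mul, ← map_inv, ← map_mul]; rfl

theorem conj_α (a b x : SL23) : K.α a * K.β b * K.α x * (K.α a * K.β b)⁻¹ = K.α (a * x * a⁻¹) := by
  have h := K.conj_pair a b x 1
  rwa [mul_one b, mul_inv_cancel, map_one, mul_one, mul_one] at h

theorem conj_β (a b y : SL23) : K.α a * K.β b * K.β y * (K.α a * K.β b)⁻¹ = K.β (b * y * b⁻¹) := by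
  have h := K.conj_pair a b 1 y
  rwa [mul_one a, mul_inv_cancel, map_one, one_mul, one_mul] at h

/-- The elements of the product of 2-power order. -/
def qGrp : Subgroup G :=
  Subgroup.map K.mulHom
    (({ carrier := {x : SL23 | x ^ 4 = 1}
        one_mem' := one_pow 4
        mul_mem' := fun {x y} hx hy => Model.sl_four_mul x y hx hy
        inv_mem' := fun {x} (hx : x ^ 4 = 1) => show x⁻¹ ^ 4 = 1 by rw [inv_pow, hx, inv_one] } : Subgroup SL23).prod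
      { carrier := {x : SL23 | x ^ 4 = 1}
        one_mem' := one_pow 4
        mul_mem' := fun {x y} hx hy => Model.sl_four_mul x y hx hy
        inv_mem' := fun {x} (hx : x ^ 4 = 1) => show x⁻¹ ^ 4 = 1 by rw [inv_pow, hx, inv_one] })

theorem mem_q {g : G} : g ∈ K.qGrp ↔ ∃ x y, x ^ 4 = 1 ∧ y ^ 4 = 1 ∧ g = K.α x * K.β y :=
  ⟨fun ⟨⟨x, y⟩, ⟨hx, hy⟩, h⟩ => ⟨x, y, hx, hy, h.symm⟩, fun ⟨x, y, hx, hy, h⟩ => ⟨(x, y), ⟨hx, hy⟩, h.symm⟩⟩

theorem q_le : K.qGrp ≤ K.α.range ⊔ K.β.range := fun g hg => by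
  obtain ⟨x, y, -, -, h⟩ := K.mem_q.1 hg
  exact K.mem_prod.2 ⟨x, y, h⟩

theorem four_of_pow {x : SL23} {n : ℕ} (h : x ^ 2 ^ n = 1) : x ^ 4 = 1 := by
  have h12 : ∀ x : SL23, x ^ 12 = 1 := by decide +kernel
  obtain ⟨i, -, hi⟩ := (Nat.dvd_prime_pow Nat.prime_two).1 (orderOf_dvd_of_pow_eq_one h)
  have hd := orderOf_dvd_of_pow_eq_one (h12 x)
  rw [hi] at hd
  have h2 : i ≤ 2 := by
    by_contra hc
    have h8 : 2 ^ 3 ∣ 12 := (pow_dvd_pow 2 (by omega)).trans hd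
    norm_num at h8
  rw [← orderOf_dvd_iff_pow_eq_one, hi]
  exact pow_dvd_pow 2 h2

/-- The elements of 2-power order of the product lie in `qGrp`. -/
theorem q_of_pow {g : G} (hg : g ∈ K.α.range ⊔ K.β.range) {n : ℕ} (h : g ^ 2 ^ n = 1) : g ∈ K.qGrp := by
  obtain ⟨x, y, rfl⟩ := K.mem_prod.1 hg
  rw [K.pair_pow] at h
  have h2 : x ^ 2 ^ (n + 1) = 1 ∧ y ^ 2 ^ (n + 1) = 1 := by
    rw [pow_succ, pow_mul, pow_mul]
    rcases K.pair_one h with ⟨e, e'⟩ | ⟨e, e'⟩ <;> rw [e, e'] <;> simp [sq, sZ_sq]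
  exact K.mem_q.2 ⟨x, y, four_of_pow h2.1, four_of_pow h2.2, rfl⟩

theorem q_isPGroup : IsPGroup 2 K.qGrp := fun ⟨g, hg⟩ => by
  obtain ⟨x, y, hx, hy, rfl⟩ := K.mem_q.1 hg
  exact ⟨2, Subtype.ext (by simp only [Subgroup.coe_pow]; rw [show (2 : ℕ) ^ 2 = 4 by norm_num, K.pair_pow, hx, hy]; simp)⟩

theorem q_conj {h g : G} (hh : h ∈ H) (hg : g ∈ K.qGrp) : h * g * h⁻¹ ∈ K.qGrp := by
  obtain ⟨x, y, hx, hy, rfl⟩ := K.mem_q.1 hg
  obtain ⟨x', hx'⟩ := K.norm_α h hh x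
  obtain ⟨y', hy'⟩ := K.norm_β h hh y
  have hx4 : x' ^ 4 = 1 := K.α_inj (by rw [map_pow, ← hx', conj_pow, ← map_pow, hx]; simp)
  have hy4 : y' ^ 4 = 1 := K.β_inj (by rw [map_pow, ← hy', conj_pow, ← map_pow, hy]; simp)
  exact K.mem_q.2 ⟨x', y', hx4, hy4, by rw [← hx', ← hy']; group⟩

theorem q_comm {p q : G} (hp : p ∈ K.qGrp) (hq : q ∈ K.qGrp) :
    p * q = q * p ∨ p * q = q * p * K.α sZ := by
  obtain ⟨x, y, hx, hy, rfl⟩ := K.mem_q.1 hp
  obtain ⟨a, b, ha, hb, rfl⟩ := K.mem_q.1 hq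
  have hz : ∀ a b, K.α a * K.β (b * sZ) = K.α a * K.β b * K.α sZ := fun a b => by
    rw [K.z_eq, mul_assoc, map_mul]
  have hz' : ∀ a b, K.α (a * sZ) * K.β b = K.α a * K.β b * K.α sZ := fun a b => by
    rw [map_mul, mul_assoc, mul_assoc, (K.comm sZ b).eq]
  rcases Model.sl_four_comm x a hx ha with e | e <;> rcases Model.sl_four_comm y b hy hb with e' | e' <;>
    rw [K.pair_mul, K.pair_mul, e, e']
  · exact Or.inl rfl
  · exact Or.inr (hz _ _)
  · exact Or.inr (hz' _ _)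
  · exact Or.inl (by rw [hz', hz, mul_assoc, K.t_sq, mul_one])

theorem q_involution {i : G} (hi : i ∈ K.qGrp) (h2 : i * i = 1) :
    i = 1 ∨ i = K.α sZ ∨ ∃ a b, i = K.α a * K.β b * (K.α sJ * K.β sJ) * (K.α a * K.β b)⁻¹ := by
  obtain ⟨x, y, hx, hy, rfl⟩ := K.mem_q.1 hi
  rw [K.pair_mul] at h2
  rcases K.pair_one h2 with ⟨e, e'⟩ | ⟨e, e'⟩
  · rcases (Model.sl_sq x).1.1 e with rfl | rfl <;> rcases (Model.sl_sq y).1.1 e' with rfl | rfl
    · left; simp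
    · right; left; rw [map_one, one_mul, K.z_eq]
    · right; left; rw [map_one, mul_one]
    · left; rw [← K.z_eq, K.t_sq]
  · obtain ⟨a, rfl⟩ := Model.sl_four_conj x hx (by rw [e]; exact sZ_ne_one)
    obtain ⟨b, rfl⟩ := Model.sl_four_conj y hy (by rw [e']; exact sZ_ne_one)
    exact Or.inr (Or.inr ⟨a, b, (K.conj_pair a b sJ sJ).symm⟩)

variable [Finite G]
include K

theorem card_prod : Nat.card ↥(K.α.range ⊔ K.β.range) = 288 := by
  have h := K.mulHom.ker.card_mul_index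
  have hk : (K.mulHom.ker : Set (SL23 × SL23)) = {(1, 1), (sZ, sZ)} := by
    ext ⟨x, y⟩
    constructor
    · intro hxy
      rcases K.pair_one hxy with ⟨rfl, rfl⟩ | ⟨rfl, rfl⟩ <;> simp
    · rintro (h | h) <;> obtain ⟨rfl, rfl⟩ := Prod.mk.inj h
      · simp [MonoidHom.mem_ker, K.mulHom_apply]
      · show K.α sZ * K.β sZ = 1
        rw [← K.z_eq, K.t_sq]
  have hp := Set.ncard_pair (show ((1, 1) : SL23 × SL23) ≠ (sZ, sZ) from fun h => sZ_ne_one (Prod.mk.inj h).1.symm)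
  rw [← hk, ← Nat.card_coe_set_eq] at hp
  have h2 : Nat.card K.mulHom.ker = 2 := hp
  have hs : Nat.card SL23 = 24 := Nat.card_eq_fintype_card.trans Model.card_sl.1
  rw [Subgroup.index_ker, h2, Nat.card_prod, hs] at h
  rw [← K.mulHom_range]
  omega

theorem card_H : Nat.card H = 576 := by
  have h := Subgroup.relIndex_mul_relIndex ⊥ (K.α.range ⊔ K.β.range) H bot_le K.prod_le
  rw [Subgroup.relIndex_bot_left, Subgroup.relIndex_bot_left, K.card_prod, K.index] at h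
  exact h.symm

theorem mul_mem_prod {a b : G} (ha : a ∈ H) (hb : b ∈ H) :
    a * b ∈ K.α.range ⊔ K.β.range ↔ (a ∈ K.α.range ⊔ K.β.range ↔ b ∈ K.α.range ⊔ K.β.range) := by
  have := Subgroup.mul_mem_iff_of_index_two (H := (K.α.range ⊔ K.β.range).subgroupOf H)
    (show _ = 2 from K.index) (a := ⟨a, ha⟩) (b := ⟨b, hb⟩)
  simpa [Subgroup.mem_subgroupOf] using this

theorem sq_mem_prod {a : G} (ha : a ∈ H) : a * a ∈ K.α.range ⊔ K.β.range :=
  (K.mul_mem_prod ha ha).2 Iff.rfl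

theorem cube_mem_prod {a : G} (ha : a ∈ H) (h3 : a ^ 3 = 1) : a ∈ K.α.range ⊔ K.β.range := by
  have h2 := K.sq_mem_prod ha
  have e : (a * a) * (a * a) = a := by
    rw [show (a * a) * (a * a) = a ^ 3 * a by simp only [pow_succ, pow_zero, one_mul, mul_assoc], h3, one_mul]
  exact e ▸ mul_mem h2 h2

theorem inf_le : ∀ {M V : Subgroup G}, Eight M V (K.α sZ) → V ≤ H := fun E v hv =>
  K.mem_H.2 (E.comm v hv _ E.mem)

theorem card_inf {M V : Subgroup G} (E : Eight M V (K.α sZ)) :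
    Nat.card ↥(M ⊓ H) = 192 ∧ ∀ v ∈ V, v ≠ 1 → ∃ m ∈ M, m * K.α sZ * m⁻¹ = v := by
  set D := (M ⊓ H).subgroupOf M with hD
  have hmem : ∀ m : M, (m : G) * K.α sZ * (m : G)⁻¹ ∈ (V : Set G) \ {1} := fun m =>
    ⟨E.norm m m.2 _ E.mem, fun h => K.t_ne (conj_eq_one_iff.1 h)⟩
  let f : M ⧸ D → ↥((V : Set G) \ {1}) := fun x => ⟨_, hmem x.out⟩
  have hinj : Function.Injective f := by
    intro x y e
    rw [← QuotientGroup.out_eq' x, ← QuotientGroup.out_eq' y, QuotientGroup.eq]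
    show _ ∈ (M ⊓ H).subgroupOf M
    rw [Subgroup.mem_subgroupOf]
    refine ⟨(x.out⁻¹ * y.out).2, K.mem_H.2 ?_⟩
    have e' : (x.out : G) * K.α sZ * (x.out : G)⁻¹ = (y.out : G) * K.α sZ * (y.out : G)⁻¹ := congrArg Subtype.val e
    simp only [Subgroup.coe_mul, Subgroup.coe_inv]
    calc (x.out : G)⁻¹ * (y.out : G) * K.α sZ
        = (x.out : G)⁻¹ * ((y.out : G) * K.α sZ * (y.out : G)⁻¹) * (y.out : G) := by group
      _ = _ := by rw [← e']; group
  have hV : Nat.card ↥((V : Set G) \ {1}) = 7 := by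
    rw [Nat.card_coe_set_eq, Set.ncard_sdiff_singleton_of_mem (one_mem V), ← Nat.card_coe_set_eq]
    show Nat.card V - 1 = 7
    rw [E.card]
  have hle := Nat.card_le_card_of_injective f hinj
  rw [hV] at hle
  have h := Subgroup.card_eq_card_quotient_mul_card_subgroup D
  rw [E.cardM, show Nat.card D = Nat.card ↥(M ⊓ H) from
    Nat.card_congr (Subgroup.subgroupOfEquivOfLe inf_le_left).toEquiv] at h
  have hd1 : Nat.card ↥(M ⊓ H) ∣ 1344 := E.cardM ▸ Subgroup.card_dvd_of_le inf_le_left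
  have hd2 : Nat.card ↥(M ⊓ H) ∣ 576 := K.card_H ▸ Subgroup.card_dvd_of_le inf_le_right
  have hd : Nat.card ↥(M ⊓ H) ∣ 192 := Nat.dvd_gcd hd1 hd2
  have h192 : Nat.card ↥(M ⊓ H) = 192 := by
    refine le_antisymm (Nat.le_of_dvd (by norm_num) hd) ?_
    nlinarith
  have h7 : Nat.card (M ⧸ D) = 7 := by rw [h192] at h; omega
  refine ⟨h192, fun v hv hv1 => ?_⟩
  have hb := hinj.bijective_of_nat_card_le (by rw [hV, h7])
  obtain ⟨x, hx⟩ := hb.2 ⟨v, hv, hv1⟩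
  exact ⟨x.out, x.out.2, congrArg Subtype.val hx⟩

/-- Change of coordinates in the factors. -/
def reparam (φ ψ : SL23 ≃* SL23) (hφ : φ sZ = sZ) (hψ : ψ sZ = sZ) : Pre H where
  α := K.α.comp φ.toMonoidHom
  β := K.β.comp ψ.toMonoidHom
  α_inj := K.α_inj.comp φ.injective
  β_inj := K.β_inj.comp ψ.injective
  z_eq := by simp [hφ, hψ, K.z_eq]
  comm x y := K.comm _ _
  cent := by simp [hφ, K.cent.symm]
  norm_α h hh x := by
    obtain ⟨x', hx'⟩ := K.norm_α h hh (φ x)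
    exact ⟨φ.symm x', by simpa using hx'⟩
  norm_β h hh y := by
    obtain ⟨y', hy'⟩ := K.norm_β h hh (ψ y)
    exact ⟨ψ.symm y', by simpa using hy'⟩
  index := by
    rw [MonoidHom.range_eq_map (K.α.comp _), MonoidHom.range_eq_map (K.β.comp _), ← Subgroup.map_map,
      ← Subgroup.map_map, Subgroup.map_top_of_surjective φ.toMonoidHom φ.surjective,
      Subgroup.map_top_of_surjective ψ.toMonoidHom ψ.surjective, ← MonoidHom.range_eq_map, ← MonoidHom.range_eq_map]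
    exact K.index

end CfsgLib.GTwoInvol.Pre
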