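import Cfsg.Agent.Lib.GTwoInvol.FusionOuter

/-!
The outer involution with standard action, one class of involutions, and the Sylow 2-subgroup.
-/

set_option autoImplicit false
set_option linter.style.haveILetI false
set_option linter.unusedSectionVars false

namespace CfsgLib.GTwoInvol

variable {G : Type*} [Group G]

theorem sl_braid_twist : ∀ k : Fin 3, ∃ m : Fin 3, ∀ x : SL23,
    delta (sU ^ k.val * (sU ^ m.val * x * (sU ^ m.val)⁻¹) * (sU ^ k.val)⁻¹) =
      sU ^ m.val * delta x * (sU ^ m.val)⁻¹ := by decide +kernel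

/-- An element inverting `sU` acts as `delta` after a shift of coordinates. -/
theorem exists_shift {α : SL23 →* G} (hα : Function.Injective α) {u : G}
    (hn : ∀ x, ∃ x', u * α x * u⁻¹ = α x') (hu : u * α sU * u⁻¹ = (α sU)⁻¹) :
    ∃ m : Fin 3, ∀ x, u * α (MulAut.conj (sU ^ m.val) x) = α (MulAut.conj (sU ^ m.val) (delta x)) * u := by
  choose φ hφ using hn
  let Φ : SL23 →* SL23 := MonoidHom.mk' φ fun a b => hα (by rw [map_mul, ← hφ, ← hφ, ← hφ, map_mul]; group)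
  have hΦ : ∀ x, u * α x * u⁻¹ = α (Φ x) := hφ
  have hinj : Function.Injective (delta.comp Φ) :=
    (Function.LeftInverse.injective delta_delta).comp fun a b h => hα (by
      have h1 := hΦ a; rw [h, ← hΦ b] at h1; exact mul_left_cancel (mul_right_cancel h1))
  have hsU : Φ sU = sU⁻¹ := hα (by rw [← hΦ, hu, map_inv])
  set ψ := delta.comp Φ with hψ
  have hψU : ψ sU = sU := by
    show delta (Φ sU) = sU
    rw [hsU, map_inv, delta_sU, inv_inv]
  have hb := congrArg ψ Model.sl_braid_self.1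
  simp only [map_mul, map_inv, hψU] at hb
  have hne : ∀ a : SL23, a ≠ sL → ψ sL ≠ ψ a := fun a ha h => ha (hinj h).symm
  obtain ⟨k, hk⟩ := Model.sl_braid (ψ sL) (by rw [← map_pow, Model.sl_braid_self.2.1, map_one]) hb
    (hψU ▸ hne sU (by decide +kernel))
    (by
      have := hne sU⁻¹ (by decide +kernel)
      rwa [map_inv, hψU] at this)
  have hall : ∀ x, ψ x = sU ^ k.val * x * (sU ^ k.val)⁻¹ := by
    intro x
    refine DFunLike.congr_fun (sl23_hom_ext (f := ψ) (g := (MulAut.conj (sU ^ k.val)).toMonoidHom) ?_ ?_) x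
    · show ψ sU = sU ^ k.val * sU * (sU ^ k.val)⁻¹
      rw [hψU, ((Commute.refl sU).pow_left k.val).eq, mul_inv_cancel_right]
    · exact hk
  obtain ⟨m, hm⟩ := sl_braid_twist k
  refine ⟨m, fun x => mul_inv_eq_iff_eq_mul.1 ?_⟩
  rw [hΦ, MulAut.conj_apply, MulAut.conj_apply, ← hm x, ← hall]
  show α _ = α (delta (delta (Φ _)))
  rw [delta_delta]

namespace Pre

variable [Finite G] {H M V : Subgroup G}

/-- The outer element with standard action. -/
theorem exists_u (K : Pre H) (E : Eight M V (K.α sZ)) :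
    ∃ K' : Pre H, K'.α sZ = K.α sZ ∧ K'.α sU * K'.β sU ∈ M ⊓ H ∧ ∃ u ∈ M ⊓ H, u ∉ K'.α.range ⊔ K'.β.range ∧
      (∀ x, u * K'.α x = K'.α (delta x) * u) ∧ (∀ x, u * K'.β x = K'.β (delta x) * u) := by
  obtain ⟨K1, h1, hf⟩ := K.exists_coord E
  rw [← h1] at E
  obtain ⟨u, hu, huP, hua, hub⟩ := K1.exists_outer E hf
  obtain ⟨m, hm⟩ := exists_shift K1.α_inj (K1.norm_α u hu.2) hua
  obtain ⟨m', hm'⟩ := exists_shift K1.β_inj (K1.norm_β u hu.2) hub
  refine ⟨K1.reparam (MulAut.conj (sU ^ m.val)) (MulAut.conj (sU ^ m'.val)) (fix_sZ _) (fix_sZ _), ?_, ?_, u, hu,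
    ?_, hm, hm'⟩
  · rw [← h1]; exact congrArg K1.α (fix_sZ _)
  · show K1.α (MulAut.conj (sU ^ m.val) sU) * K1.β (MulAut.conj (sU ^ m'.val) sU) ∈ _
    rw [MulAut.conj_apply, MulAut.conj_apply, ((Commute.refl sU).pow_left m.val).eq,
      ((Commute.refl sU).pow_left m'.val).eq, mul_inv_cancel_right, mul_inv_cancel_right]
    exact hf
  · intro h
    obtain ⟨x, y, hxy⟩ := (K1.reparam _ _ (fix_sZ _) (fix_sZ _)).mem_prod.1 h
    exact huP (K1.mem_prod.2 ⟨_, _, hxy⟩)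

variable (K : Pre H) {u : G} (hu : u ∈ M ⊓ H) (huP : u ∉ K.α.range ⊔ K.β.range)
  (ua : ∀ x, u * K.α x = K.α (delta x) * u) (ub : ∀ x, u * K.β x = K.β (delta x) * u)
include hu huP ua ub

theorem outer_form {g : G} (hg : g ∈ H) (hgP : g ∉ K.α.range ⊔ K.β.range) :
    ∃ x y, g = K.α x * K.β y * u := by
  have hm : g * u⁻¹ ∈ K.α.range ⊔ K.β.range :=
    (K.mul_mem_prod hg (inv_mem hu.2)).2 ⟨fun h => absurd h hgP, fun h => absurd ((Subgroup.inv_mem_iff _).1 h) huP⟩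
  obtain ⟨x, y, h⟩ := K.mem_prod.1 hm
  exact ⟨x, y, by rw [← h, inv_mul_cancel_right]⟩

theorem u_sq_cases : u * u = 1 ∨ u * u = K.α sZ := by
  obtain ⟨x, y, h⟩ := K.mem_prod.1 (K.sq_mem_prod hu.2)
  have hcx : ∀ z, x * z = z * x := fun z => by
    have e : u * u * K.α z = K.α z * (u * u) := by
      rw [mul_assoc, ua, ← mul_assoc, ua, delta_delta, mul_assoc]
    rw [h, mul_assoc, ← (K.comm z y).eq, ← mul_assoc, ← mul_assoc, ← map_mul, ← map_mul] at e
    exact K.α_inj (mul_right_cancel e)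
  have hcy : ∀ z, y * z = z * y := fun z => by
    have e : u * u * K.β z = K.β z * (u * u) := by
      rw [mul_assoc, ub, ← mul_assoc, ub, delta_delta, mul_assoc]
    rw [h, mul_assoc, ← map_mul, ← mul_assoc (K.β z), ← (K.comm x z).eq, mul_assoc, ← map_mul] at e
    exact K.β_inj (mul_left_cancel e)
  rcases center_cases x (hcx _) (hcx _) with rfl | rfl <;> rcases center_cases y (hcy _) (hcy _) with rfl | rfl <;>
    rw [h]
  · left; simp
  · right; rw [map_one, one_mul, K.z_eq]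
  · right; rw [map_one, mul_one]
  · left; rw [← K.z_eq, K.t_sq]

theorem sq_outer (x y : SL23) :
    K.α x * K.β y * u * (K.α x * K.β y * u) = K.α (x * delta x) * K.β (y * delta y) * (u * u) := by
  rw [← K.pair_mul, show K.α x * K.β y * u * (K.α x * K.β y * u) = K.α x * K.β y * ((u * K.α x) * K.β y * u) by group,
    ua, mul_assoc (K.α (delta x)) u, ub]
  group

theorem v_le_q (E : Eight M V (K.α sZ)) (hfM : K.α sU * K.β sU ∈ M) : V ≤ K.qGrp := by
  intro v hv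
  by_cases hvP : v ∈ K.α.range ⊔ K.β.range
  · exact K.q_of_pow hvP (n := 1) (by rw [pow_one, pow_two]; exact E.sq v hv)
  exfalso
  obtain ⟨x, y, rfl⟩ := K.outer_form hu huP ua ub (K.inf_le E hv) hvP
  set f := K.α sU * K.β sU with hf
  have hfP : f ∈ K.α.range ⊔ K.β.range := K.mem_prod.2 ⟨_, _, rfl⟩
  have huf : u * f = K.α sU⁻¹ * K.β sU⁻¹ * u := by
    rw [hf, ← mul_assoc, ua, delta_sU, mul_assoc (K.α sU⁻¹) u, ub, delta_sU]; group
  have hc : K.α x * K.β y * u * f * (K.α x * K.β y * u)⁻¹ * f⁻¹ =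
      K.α (x * sU⁻¹ * x⁻¹ * sU⁻¹) * K.β (y * sU⁻¹ * y⁻¹ * sU⁻¹) := by
    rw [show K.α x * K.β y * u * f * (K.α x * K.β y * u)⁻¹ * f⁻¹ =
      K.α x * K.β y * (u * f * u⁻¹) * (K.α x * K.β y)⁻¹ * f⁻¹ by group, huf, mul_inv_cancel_right, K.conj_pair, hf,
      show (K.α sU * K.β sU)⁻¹ = K.α sU⁻¹ * K.β sU⁻¹ by
        rw [← K.mulHom_apply, ← map_inv]; rfl, K.pair_mul]
  have hcV : K.α x * K.β y * u * f * (K.α x * K.β y * u)⁻¹ * f⁻¹ ∈ V := by
    have h1 := E.norm f hfM _ (V.inv_mem hv)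
    have := V.mul_mem hv h1
    simpa [mul_assoc] using this
  rw [hc] at hcV
  obtain ⟨a, b, ha, hb, e⟩ := K.mem_q.1 (K.q_of_pow (K.mem_prod.2 ⟨_, _, rfl⟩) (n := 1)
    (by rw [pow_one, pow_two]; exact E.sq _ hcV))
  have k : ∀ x : SL23, (x * sU⁻¹ * x⁻¹ * sU⁻¹) ^ 4 ≠ 1 := by decide +kernel
  have e1 : K.α (a⁻¹ * (x * sU⁻¹ * x⁻¹ * sU⁻¹)) * K.β (b⁻¹ * (y * sU⁻¹ * y⁻¹ * sU⁻¹)) = 1 := by
    rw [← K.pair_mul, e, K.pair_mul, inv_mul_cancel, inv_mul_cancel, map_one, map_one, one_mul]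
  rcases K.pair_one e1 with ⟨e2, -⟩ | ⟨e2, -⟩
  · rw [inv_mul_eq_one] at e2
    exact k x (e2 ▸ ha)
  · rw [inv_mul_eq_iff_eq_mul] at e2
    exact k x (by rw [e2]; exact Model.sl_four_mul a sZ ha (by decide +kernel))

end Pre

end CfsgLib.GTwoInvol
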