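import Cfsg.Agent.Lib.GTwoInvol.Setup

/-!
Finite facts on `SL(2,3)` and `SL(3,2)` for the fusion of the involutions.
-/

set_option autoImplicit false
set_option maxRecDepth 100000

namespace CfsgLib.GTwoInvol.Model

theorem sl_three_cases : ∀ x : SL23, x ^ 3 = 1 → x ≠ 1 → ∃ q : SL23, q ^ 4 = 1 ∧
    (q * x * q⁻¹ = sU ∨ q * x * q⁻¹ = sU⁻¹) := by decide +kernel

theorem sl_three_conj : ∀ x : SL23, x ^ 3 = 1 → x ≠ 1 → ∃ q : SL23, q * sU * q⁻¹ = x ∨ q * delta sU * q⁻¹ = x := by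
  decide +kernel

theorem sl_braid : ∀ y : SL23, y ^ 3 = 1 → sU * y⁻¹ * sU = y⁻¹ * sU * y⁻¹ → y ≠ sU → y ≠ sU⁻¹ →
    ∃ k : Fin 3, y = sU ^ k.val * sL * (sU ^ k.val)⁻¹ := by decide +kernel

theorem sl_braid_self : sU * sL⁻¹ * sU = sL⁻¹ * sU * sL⁻¹ ∧ sL ^ 3 = 1 ∧ sL ≠ sU ∧ sL ≠ 1 := by decide +kernel

theorem sl_pow_eight : ∀ x : SL23, x ^ 4 = 1 ∨ x ^ 4 ≠ 1 ∧ (x ^ 3 = 1 ∨ (x * sZ) ^ 3 = 1) := by decide +kernel

theorem sl_sq : ∀ x : SL23, (x * x = 1 ↔ x = 1 ∨ x = sZ) ∧ (x * x = sZ → x ^ 4 = 1) := by decide +kernel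

theorem sl_four_conj : ∀ x : SL23, x ^ 4 = 1 → x * x ≠ 1 → ∃ g : SL23, g * sJ * g⁻¹ = x := by decide +kernel

theorem sl_delta_ne : ∀ x : SL23, x * delta x ≠ sZ := by decide +kernel

theorem sl_delta_move : ∀ x : SL23, ∃ q : SL23, q ^ 4 = 1 ∧ x * delta q * x⁻¹ ≠ q := by decide +kernel

theorem sl_center : ∀ x : SL23, (∀ q : SL23, q ^ 4 = 1 → x * q = q * x) → x = 1 ∨ x = sZ := by decide +kernel

theorem sl_four_mul : ∀ x y : SL23, x ^ 4 = 1 → y ^ 4 = 1 → (x * y) ^ 4 = 1 := by decide +kernel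

theorem sl_four_conj_mem : ∀ x g : SL23, x ^ 4 = 1 → (g * x * g⁻¹) ^ 4 = 1 := by decide +kernel

theorem card_sl : Fintype.card SL23 = 24 ∧ Fintype.card {x : SL23 // x ^ 4 = 1} = 8 := by decide +kernel

theorem sl_four_comm : ∀ x y : SL23, x ^ 4 = 1 → y ^ 4 = 1 → x * y = y * x ∨ x * y = y * x * sZ := by
  decide +kernel

theorem sl_four_six : Fintype.card {x : SL23 // x ^ 4 = 1 ∧ x * x ≠ 1} = 6 := by decide +kernel

end CfsgLib.GTwoInvol.Model
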