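import Cfsg.Agent.Lib.GTwoInvol.FusionCore

/-!
An outer element inverting both elements of order three.
-/

set_option autoImplicit false
set_option linter.style.haveILetI false
set_option linter.unusedSectionVars false

namespace CfsgLib.GTwoInvol

/-- `delta` as an automorphism. -/
def deltaE : SL23 ≃* SL23 :=
  { toFun := delta, invFun := delta, left_inv := delta_delta, right_inv := delta_delta, map_mul' := map_mul delta }

theorem fix_sZ (φ : SL23 ≃* SL23) : φ sZ = sZ := by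
  rcases (Model.sl_sq (φ sZ)).1.1 (by rw [← map_mul, sZ_sq, map_one]) with h | h
  · exact absurd (φ.injective (h.trans (map_one φ).symm)) sZ_ne_one
  · exact h

theorem exists_equiv {x : SL23} (h3 : x ^ 3 = 1) (h1 : x ≠ 1) : ∃ φ : SL23 ≃* SL23, φ sU = x := by
  obtain ⟨q, h | h⟩ := Model.sl_three_conj x h3 h1
  · exact ⟨MulAut.conj q, h⟩
  · exact ⟨deltaE.trans (MulAut.conj q), h⟩

theorem cube_one_of_fixed {G : Type*} [Group G] {f c v : G} (hf : f ^ 3 = 1) (hc : c * c = 1) (hfc : f * c = c * f)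
    (h : f * v * f⁻¹ = c * v) : c = 1 := by
  have hfc' : f * c * f⁻¹ = c := by rw [hfc, mul_inv_cancel_right]
  have h2 : f * (f * v * f⁻¹) * f⁻¹ = v := by
    rw [h, show f * (c * v) * f⁻¹ = (f * c * f⁻¹) * (f * v * f⁻¹) by group, hfc', h, ← mul_assoc, hc, one_mul]
  have h3 : f * (f * (f * v * f⁻¹) * f⁻¹) * f⁻¹ = c * v := by rw [h2, h]
  have e : f * (f * (f * v * f⁻¹) * f⁻¹) * f⁻¹ = f ^ 3 * v * (f ^ 3)⁻¹ := by
    simp only [pow_succ, pow_zero, one_mul]; group
  rw [e, hf, inv_one, one_mul, mul_one] at h3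
  exact mul_right_cancel (h3.symm.trans (one_mul v).symm)

namespace Pre

variable {G : Type*} [Group G] [Finite G] {H M V : Subgroup G}

/-- No element of order three of one factor lies in the 2-local. -/
theorem no_single (K : Pre H) (E : Eight M V (K.α sZ)) (c : SL23 →* G) (hc : Function.Injective c)
    (_hz : c sZ = K.α sZ) (hn : ∀ h ∈ H, ∀ x, ∃ x', h * c x * h⁻¹ = c x') {x : SL23} (h3 : x ^ 3 = 1)
    (hM : c x ∈ M) : x = 1 := by
  have hfix : ∀ v ∈ V, c x * v = v * c x := by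
    intro v hv
    have hw : c x * v * (c x)⁻¹ * v⁻¹ ∈ V := V.mul_mem (E.norm _ hM v hv) (V.inv_mem hv)
    obtain ⟨x', hx'⟩ := hn v (K.inf_le E hv) x⁻¹
    have hcw : c x * v * (c x)⁻¹ * v⁻¹ = c (x * x') := by
      rw [map_mul, ← hx', map_inv]; group
    have hf : c x ^ 3 = 1 := by rw [← map_pow, h3, map_one]
    have h1 : c (x * x') = 1 := by
      rcases (Model.sl_sq (x * x')).1.1 (hc (by rw [map_mul, map_one, ← hcw]; exact E.sq _ hw)) with e | e
      · rw [e, map_one]
      · exfalso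
        refine sZ_ne_one (hc (?_ : c sZ = c 1))
        rw [map_one]
        refine cube_one_of_fixed (v := v) hf (by rw [← map_mul, sZ_sq, map_one])
          (by rw [← map_mul, ← map_mul, sZ_comm]) ?_
        rw [← e, ← hcw]; group
    rw [h1, mul_inv_eq_one, mul_inv_eq_iff_eq_mul] at hcw
    exact hcw
  have hV := E.self _ hM hfix
  have h2 : x * x = 1 := hc (by rw [map_mul, map_one]; exact E.sq _ hV)
  rw [pow_succ, pow_two, h2, one_mul] at h3
  exact h3

theorem card_le_sixtyfour (K : Pre H) {S : Subgroup G} (hS : IsPGroup 2 S) (hle : S ≤ H) : Nat.card S ≤ 64 := by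
  haveI := Fact.mk Nat.prime_two
  obtain ⟨n, hn⟩ := IsPGroup.iff_card.1 hS
  have hd := Subgroup.card_dvd_of_le hle
  rw [K.card_H, hn] at hd
  rw [hn]
  have h6 : n ≤ 6 := by
    by_contra hc
    have h7 : 2 ^ 7 ∣ 576 := (pow_dvd_pow 2 (by omega)).trans hd
    norm_num at h7
  calc 2 ^ n ≤ 2 ^ 6 := Nat.pow_le_pow_right (by norm_num) h6
    _ = 64 := by norm_num

/-- A Sylow subgroup of the stabiliser contains the 2-part of the product. -/
theorem exists_sylow (K : Pre H) (E : Eight M V (K.α sZ)) {u : G} (hu : u ∈ M ⊓ H)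
    (hu4 : u ^ 4 = 1) :
    ∃ T : Subgroup G, T ≤ M ⊓ H ∧ Nat.card T = 64 ∧ IsPGroup 2 T ∧ K.qGrp ≤ T ∧ u ∈ T := by
  haveI := Fact.mk Nat.prime_two
  set D := M ⊓ H with hD
  have hqn : H ≤ Subgroup.normalizer (K.qGrp : Set G) := fun h hh => by
    rw [Subgroup.mem_normalizer_iff]
    intro g
    refine ⟨K.q_conj hh, fun hg => ?_⟩
    have := K.q_conj (inv_mem hh) hg
    simpa [mul_assoc] using this
  have cardS : ∀ S : Sylow 2 D, Nat.card S = 64 := fun S => by
    rw [S.card_eq_multiplicity, (K.card_inf E).1, show (192 : ℕ) = 2 ^ 6 * 3 by norm_num,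
      Nat.factorization_mul (by norm_num) (by norm_num), Nat.Prime.factorization_pow Nat.prime_two,
      Finsupp.add_apply, Finsupp.single_eq_same, Nat.factorization_eq_zero_of_not_dvd (by norm_num : ¬ 2 ∣ 3)]
    norm_num
  obtain ⟨S0⟩ : Nonempty (Sylow 2 D) := inferInstance
  set T0 := (S0 : Subgroup D).map D.subtype with hT0
  have hT0c : Nat.card T0 = 64 := by rw [hT0, Subgroup.card_map_of_injective D.subtype_injective, cardS]
  have hT0p : IsPGroup 2 T0 := IsPGroup.of_card (n := 6) (by rw [hT0c]; norm_num)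
  have hT0H : T0 ≤ H := (Subgroup.map_subtype_le _).trans inf_le_right
  have hqH : K.qGrp ≤ H := K.q_le.trans K.prod_le
  have hsup : T0 ⊔ K.qGrp = T0 := (Subgroup.eq_of_le_of_card_ge le_sup_left (by
    rw [hT0c]
    exact K.card_le_sixtyfour (hT0p.to_sup_of_normal_right' K.q_isPGroup (hT0H.trans hqn))
      (sup_le hT0H hqH))).symm
  have hqD : K.qGrp ≤ D := (sup_eq_left.1 hsup).trans (Subgroup.map_subtype_le _)
  have huz : IsPGroup 2 (Subgroup.zpowers u) := by
    obtain ⟨i, -, hi⟩ := (Nat.dvd_prime_pow Nat.prime_two).1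
      (show orderOf u ∣ 2 ^ 2 by exact orderOf_dvd_of_pow_eq_one hu4)
    exact IsPGroup.of_card (n := i) (by rw [Nat.card_zpowers, hi])
  have huN : Subgroup.zpowers u ≤ Subgroup.normalizer (K.qGrp : Set G) :=
    (Subgroup.zpowers_le.2 hu.2).trans hqn
  have hP : IsPGroup 2 ↥(Subgroup.zpowers u ⊔ K.qGrp) := huz.to_sup_of_normal_right' K.q_isPGroup huN
  have hPD : Subgroup.zpowers u ⊔ K.qGrp ≤ D := sup_le (Subgroup.zpowers_le.2 hu) hqD
  obtain ⟨S, hS⟩ := (hP.comap_subtype (K := D)).exists_le_sylow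
  refine ⟨(S : Subgroup D).map D.subtype, Subgroup.map_subtype_le _, ?_, S.2.map _, fun g hg => ?_, ?_⟩
  · rw [Subgroup.card_map_of_injective D.subtype_injective, cardS]
  · exact ⟨⟨g, hqD hg⟩, hS (Subgroup.mem_comap.2 (Subgroup.mem_sup_right hg)), rfl⟩
  · exact ⟨⟨u, hu⟩, hS (Subgroup.mem_comap.2 (Subgroup.mem_sup_left (Subgroup.mem_zpowers u))), rfl⟩

theorem q_le_inf (K : Pre H) (E : Eight M V (K.α sZ)) : K.qGrp ≤ M ⊓ H := by
  obtain ⟨T, hT, -, -, hq, -⟩ := K.exists_sylow E (one_mem _) (one_pow 4)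
  exact hq.trans hT

/-- Coordinates in which the element of order three of the stabiliser is standard. -/
theorem exists_coord (K : Pre H) (E : Eight M V (K.α sZ)) :
    ∃ K' : Pre H, K'.α sZ = K.α sZ ∧ K'.α sU * K'.β sU ∈ M ⊓ H := by
  haveI := Fact.mk Nat.prime_three
  obtain ⟨f, hf⟩ := exists_prime_orderOf_dvd_card' (G := ↥(M ⊓ H)) 3 (by rw [(K.card_inf E).1]; norm_num)
  have hf3 : (f : G) ^ 3 = 1 := by rw [← Subgroup.coe_pow, ← hf, pow_orderOf_eq_one]; rfl
  have hf1 : (f : G) ≠ 1 := fun h => by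
    rw [show f = 1 from Subtype.ext h, orderOf_one] at hf
    norm_num at hf
  obtain ⟨x0, y0, hxy⟩ := K.mem_prod.1 (K.cube_mem_prod f.2.2 hf3)
  obtain ⟨x, y, hx3, hy3, hxy⟩ : ∃ x y, x ^ 3 = 1 ∧ y ^ 3 = 1 ∧ (f : G) = K.α x * K.β y := by
    have h := hf3
    rw [hxy, K.pair_pow] at h
    rcases K.pair_one h with ⟨e, e'⟩ | ⟨e, e'⟩
    · exact ⟨x0, y0, e, e', hxy⟩
    · have hz : ∀ a : SL23, (a * sZ) ^ 3 = a ^ 3 * sZ := by decide +kernel
      refine ⟨x0 * sZ, y0 * sZ, by rw [hz, e, sZ_sq], by rw [hz, e', sZ_sq], ?_⟩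
      rw [← K.pair_mul, hxy, ← K.z_eq, K.t_sq, mul_one]
  have hx1 : x ≠ 1 := fun h => by
    rw [h, map_one, one_mul] at hxy
    refine hf1 ?_
    rw [hxy, K.no_single E K.β K.β_inj K.z_eq.symm K.norm_β hy3 (hxy ▸ f.2.1), map_one]
  have hy1 : y ≠ 1 := fun h => by
    rw [h, map_one, mul_one] at hxy
    refine hf1 ?_
    rw [hxy, K.no_single E K.α K.α_inj rfl K.norm_α hx3 (hxy ▸ f.2.1), map_one]
  obtain ⟨φ, hφ⟩ := exists_equiv hx3 hx1
  obtain ⟨ψ, hψ⟩ := exists_equiv hy3 hy1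
  refine ⟨K.reparam φ ψ (fix_sZ φ) (fix_sZ ψ), congrArg K.α (fix_sZ φ), ?_⟩
  show K.α (φ sU) * K.β (ψ sU) ∈ _
  rw [hφ, hψ, ← hxy]
  exact f.2

/-- The six vectors moved by the element of order three. -/
theorem six (K : Pre H) (E : Eight M V (K.α sZ)) {f : G} (hf : f ∈ M ⊓ H) (hf3 : f ^ 3 = 1)
    (hmove : f ∉ V) :
    ∃ v ∈ V, (∀ x ∈ V, f * x = x * f → x = 1 ∨ x = K.α sZ) ∧ ¬ (v = 1 ∨ v = K.α sZ) ∧
      ∀ x ∈ V, x = 1 ∨ x = K.α sZ ∨ ∃ i : Fin 3, ∃ k : Fin 2,
        x = f ^ i.val * v * (f ^ i.val)⁻¹ * K.α sZ ^ k.val := by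
  have htV := E.mem
  set t := K.α sZ with ht
  have hft : f * t = t * f := K.mem_H.1 hf.2
  have hfix : ∀ x ∈ V, f * x = x * f → x = 1 ∨ x = t := by
    intro x hx hxf
    by_contra hne
    push Not at hne
    set F := Subgroup.centralizer ({f} : Set G) ⊓ V with hF
    have hmem : ∀ y ∈ V, f * y = y * f → y ∈ F := fun y hy e =>
      ⟨Subgroup.mem_centralizer_singleton_iff.2 e.symm, hy⟩
    have hd : Nat.card F ∣ 8 := E.card ▸ Subgroup.card_dvd_of_le inf_le_right
    have h3 : 3 ≤ Nat.card F := by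
      have hsub : ({1, t, x} : Set G) ⊆ F := by
        rintro y (rfl | rfl | rfl)
        exacts [one_mem F, hmem _ htV hft, hmem _ hx hxf]
      have hn := Set.ncard_le_ncard hsub
      have h3' : ({1, t, x} : Set G).ncard = 3 :=
        Set.ncard_eq_three.2 ⟨_, _, _, K.t_ne.symm, hne.1.symm, hne.2.symm, rfl⟩
      rw [h3', ← Nat.card_coe_set_eq] at hn
      exact hn
    have h48 : Nat.card F = 4 ∨ Nat.card F = 8 := by
      have := Nat.le_of_dvd (by norm_num) hd
      rcases (show Nat.card F = 3 ∨ Nat.card F = 4 ∨ Nat.card F = 5 ∨ Nat.card F = 6 ∨ Nat.card F = 7 ∨ Nat.card F = 8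
        by omega) with e | e | e | e | e | e <;> rw [e] at hd ⊢ <;> revert hd <;> decide
    rcases h48 with h4 | h8
    · apply hmove
      refine E.self f hf.1 fun y hy => ?_
      have hi : (F.subgroupOf V).index = 2 := by
        have := (F.subgroupOf V).card_mul_index
        rw [Nat.card_congr (Subgroup.subgroupOfEquivOfLe inf_le_right).toEquiv, h4, E.card] at this
        omega
      by_contra hyF
      have hy1 : y ∉ F := fun h => hyF (Subgroup.mem_centralizer_singleton_iff.1 h.1).symm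
      have hfy : f * y * f⁻¹ ∈ V := E.norm f hf.1 y hy
      have hfy1 : f * y * f⁻¹ ∉ F := fun h => hyF (by
        have h' := Subgroup.mem_centralizer_singleton_iff.1 h.1
        have := congrArg (fun a => f⁻¹ * a * f) h'
        simp only [mul_assoc, inv_mul_cancel_left, inv_mul_cancel, mul_one] at this
        exact this.symm)
      have hc := (Subgroup.mul_mem_iff_of_index_two hi (a := ⟨f * y * f⁻¹, hfy⟩) (b := ⟨y, hy⟩)).2
        (by simp [Subgroup.mem_subgroupOf, hy1, hfy1])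
      rw [Subgroup.mem_subgroupOf] at hc
      have hcc : f * (f * y * f⁻¹ * y) = (f * y * f⁻¹ * y) * f := (Subgroup.mem_centralizer_singleton_iff.1 hc.1).symm
      have h1 := cube_one_of_fixed (c := f * y * f⁻¹ * y) (v := y) hf3 (E.sq _ hc.2) hcc
        (by rw [mul_assoc (f * y * f⁻¹), E.sq y hy, mul_one])
      rw [mul_eq_one_iff_eq_inv, inv_eq_of_mul_eq_one_right (E.sq y hy), mul_inv_eq_iff_eq_mul] at h1
      exact hyF h1
    · apply hmove
      refine E.self f hf.1 fun y hy => ?_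
      have hFV : F = V := Subgroup.eq_of_le_of_card_ge inf_le_right (by rw [h8, E.card])
      exact (Subgroup.mem_centralizer_singleton_iff.1 ((hFV ▸ hy : y ∈ F).1)).symm
  obtain ⟨v, hv, hvne⟩ : ∃ v ∈ V, ¬ (v = 1 ∨ v = t) := by
    by_contra h
    push Not at h
    have hsub : (V : Set G) ⊆ {1, t} := fun x hx => h x hx
    have hn := Set.ncard_le_ncard hsub
    rw [Set.ncard_pair K.t_ne.symm, ← Nat.card_coe_set_eq] at hn
    have := E.card
    simp only [SetLike.coe_sort_coe] at hn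
    omega
  refine ⟨v, hv, hfix, hvne, ?_⟩
  set W : Fin 3 → G := fun i => f ^ i.val * v * (f ^ i.val)⁻¹ with hW
  have hWV : ∀ i, W i ∈ V := fun i => E.norm _ (M.pow_mem hf.1 _) v hv
  have htfix : ∀ n : ℕ, f ^ n * t * (f ^ n)⁻¹ = t := fun n => by
    rw [((show Commute f t from hft).pow_left n).eq, mul_inv_cancel_right]
  have hWne : ∀ i, W i ≠ 1 ∧ W i ≠ t := fun i => by
    refine ⟨fun h => hvne (Or.inl (conj_eq_one_iff.1 h)), fun h => hvne (Or.inr ?_)⟩
    calc v = (f ^ i.val)⁻¹ * W i * f ^ i.val := by simp only [hW]; group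
      _ = (f ^ i.val)⁻¹ * (f ^ i.val * t * (f ^ i.val)⁻¹) * f ^ i.val := by rw [h, htfix]
      _ = t := by group
  have hWt : ∀ i, W i * t ≠ 1 ∧ W i * t ≠ t := fun i => by
    refine ⟨fun h => (hWne i).2 ?_, fun h => (hWne i).1 ?_⟩
    · rw [mul_eq_one_iff_eq_inv] at h
      rw [h]; exact inv_eq_of_mul_eq_one_right (E.sq t htV)
    · rwa [mul_eq_right] at h
  let Φ : Fin 3 × Fin 2 → ↥((V : Set G) \ {1, t}) := fun p =>
    ⟨W p.1 * t ^ p.2.val, V.mul_mem (hWV _) (V.pow_mem htV _), by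
      rcases p with ⟨i, k⟩
      fin_cases k
      · simpa using hWne i
      · simpa using hWt i⟩
  have hinj : Function.Injective Φ := by
    rintro ⟨i, k⟩ ⟨j, l⟩ h
    have h' : W i * t ^ k.val = W j * t ^ l.val := congrArg Subtype.val h
    have hij : i = j := by
      by_contra hne
      obtain ⟨n, hn3, hn, c, hcV, hcf, hfc⟩ : ∃ n : ℕ, n < 3 ∧ n ≠ 0 ∧ ∃ c ∈ V, f ^ n * c = c * f ^ n ∧
          f ^ n * v * (f ^ n)⁻¹ = c * v := by
        refine ⟨(i.val + 2 * j.val) % 3, by omega, fun e => hne (Fin.ext (by omega)), t ^ k.val * t ^ l.val,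
          V.mul_mem (V.pow_mem htV _) (V.pow_mem htV _),
          (((show Commute f t from hft).pow_left _).pow_right _).mul_right
            (((show Commute f t from hft).pow_left _).pow_right _), ?_⟩
        have hp : f ^ ((i.val + 2 * j.val) % 3) = (f ^ j.val)⁻¹ * f ^ i.val := by
          rw [eq_inv_mul_iff_mul_eq, ← pow_add]
          conv_rhs => rw [← Nat.mod_add_div i.val 3]
          rw [pow_eq_pow_mod _ hf3]
          conv_rhs => rw [pow_eq_pow_mod _ hf3]
          congr 1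
          omega
        have e1 : W i = W j * (t ^ l.val * t ^ k.val) := by
          rw [← mul_assoc, ← h', mul_assoc, ← pow_add, ← two_mul, pow_mul, pow_two, E.sq t htV, one_pow, mul_one]
        have hcomm : Commute (t ^ k.val) (t ^ l.val) := (Commute.refl t).pow_pow _ _
        rw [hp, show (f ^ j.val)⁻¹ * f ^ i.val * v * ((f ^ j.val)⁻¹ * f ^ i.val)⁻¹ =
          (f ^ j.val)⁻¹ * W i * f ^ j.val by simp only [hW]; group, e1, ← hcomm.eq]
        have hd : (f ^ j.val)⁻¹ * (t ^ k.val * t ^ l.val) * f ^ j.val = t ^ k.val * t ^ l.val := by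
          rw [mul_assoc, ← (((show Commute f t from hft).pow_left j.val).pow_right _).mul_right
            (((show Commute f t from hft).pow_left j.val).pow_right _) |>.eq, inv_mul_cancel_left]
        rw [show (f ^ j.val)⁻¹ * (W j * (t ^ k.val * t ^ l.val)) * f ^ j.val =
          ((f ^ j.val)⁻¹ * W j * f ^ j.val) * ((f ^ j.val)⁻¹ * (t ^ k.val * t ^ l.val) * f ^ j.val) by group, hd,
          show (f ^ j.val)⁻¹ * W j * f ^ j.val = v by simp only [hW]; group]
        exact E.comm v hv _ (V.mul_mem (V.pow_mem htV _) (V.pow_mem htV _))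
      have h1 := cube_one_of_fixed (f := f ^ n) (by rw [← pow_mul, mul_comm, pow_mul, hf3, one_pow]) (E.sq c hcV)
        hcf hfc
      rw [h1, one_mul, mul_inv_eq_iff_eq_mul] at hfc
      have hfv : f * v = v * f := by
        rcases (show n = 1 ∨ n = 2 by omega) with e | e <;> subst e
        · simpa using hfc
        · have hcm : Commute (f ^ 2) v := hfc
          have := (hcm.pow_left 2).eq
          rwa [← pow_mul, show f ^ (2 * 2) = f by rw [pow_succ, hf3, one_mul]] at this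
      exact hvne (hfix v hv hfv)
    subst hij
    have hk := mul_left_cancel h'
    have : k = l := by
      fin_cases k <;> fin_cases l <;> first
        | rfl
        | exact absurd (by simpa using hk.symm) K.t_ne
        | exact absurd (by simpa using hk) K.t_ne
    rw [this]
  have hcard : Nat.card ↥((V : Set G) \ {1, t}) ≤ Nat.card (Fin 3 × Fin 2) := by
    rw [Nat.card_coe_set_eq, Set.ncard_sdiff (by rintro y (rfl | rfl); exacts [one_mem V, htV]),
      Set.ncard_pair K.t_ne.symm, ← Nat.card_coe_set_eq]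
    have := E.card
    rw [show Nat.card (Fin 3 × Fin 2) = 6 by simp]
    simp only [SetLike.coe_sort_coe]
    omega
  have hb := hinj.bijective_of_nat_card_le hcard
  intro x hx
  by_cases hx1 : x = 1
  · exact Or.inl hx1
  by_cases hxt : x = t
  · exact Or.inr (Or.inl hxt)
  obtain ⟨⟨i, k⟩, hp⟩ := hb.2 ⟨x, hx, by simp [hx1, hxt]⟩
  exact Or.inr (Or.inr ⟨i, k, (congrArg Subtype.val hp).symm⟩)

/-- An outer element of the stabiliser inverting both elements of order three. -/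
theorem exists_outer (K : Pre H) (E : Eight M V (K.α sZ)) (hf : K.α sU * K.β sU ∈ M ⊓ H) :
    ∃ g ∈ M ⊓ H, g ∉ K.α.range ⊔ K.β.range ∧ g * K.α sU * g⁻¹ = (K.α sU)⁻¹ ∧ g * K.β sU * g⁻¹ = (K.β sU)⁻¹ := by
  obtain ⟨g, hg, hgP⟩ : ∃ g ∈ M ⊓ H, g ∉ K.α.range ⊔ K.β.range := by
    by_contra h
    push Not at h
    have h' := Subgroup.card_dvd_of_le (show M ⊓ H ≤ K.α.range ⊔ K.β.range from h)
    rw [(K.card_inf E).1, K.card_prod] at h'
    norm_num at h'
  obtain ⟨x, hx⟩ := K.norm_α g hg.2 sU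
  obtain ⟨y, hy⟩ := K.norm_β g hg.2 sU
  have hx3 : x ^ 3 = 1 := K.α_inj (by rw [map_pow, ← hx, conj_pow, ← map_pow, sU_cube]; simp)
  have hy3 : y ^ 3 = 1 := K.β_inj (by rw [map_pow, ← hy, conj_pow, ← map_pow, sU_cube]; simp)
  have hx1 : x ≠ 1 := fun h => by
    rw [h, map_one, conj_eq_one_iff] at hx
    exact sU_ne_one (K.α_inj (hx.trans (map_one _).symm))
  have hy1 : y ≠ 1 := fun h => by
    rw [h, map_one, conj_eq_one_iff] at hy
    exact sU_ne_one (K.β_inj (hy.trans (map_one _).symm))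
  obtain ⟨q, hq4, hqx⟩ := Model.sl_three_cases x hx3 hx1
  obtain ⟨r, hr4, hry⟩ := Model.sl_three_cases y hy3 hy1
  have hP : K.α q * K.β r ∈ M ⊓ H := K.q_le_inf E (K.mem_q.2 ⟨q, r, hq4, hr4, rfl⟩)
  set g0 := K.α q * K.β r * g with hg0
  have hg0D : g0 ∈ M ⊓ H := mul_mem hP hg
  have hg0P : g0 ∉ K.α.range ⊔ K.β.range := fun h => hgP (by
    have := mul_mem (inv_mem (K.mem_prod.2 ⟨q, r, rfl⟩ : K.α q * K.β r ∈ K.α.range ⊔ K.β.range)) h
    rwa [hg0, inv_mul_cancel_left] at this)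
  have ea : g0 * K.α sU * g0⁻¹ = K.α (q * x * q⁻¹) := by
    rw [hg0, show K.α q * K.β r * g * K.α sU * (K.α q * K.β r * g)⁻¹ =
      K.α q * K.β r * (g * K.α sU * g⁻¹) * (K.α q * K.β r)⁻¹ by group, hx, K.conj_α]
  have eb : g0 * K.β sU * g0⁻¹ = K.β (r * y * r⁻¹) := by
    rw [hg0, show K.α q * K.β r * g * K.β sU * (K.α q * K.β r * g)⁻¹ =
      K.α q * K.β r * (g * K.β sU * g⁻¹) * (K.α q * K.β r)⁻¹ by group, hy, K.conj_β]
  have ef : g0 * (K.α sU * K.β sU) * g0⁻¹ = K.α (q * x * q⁻¹) * K.β (r * y * r⁻¹) := by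
    rw [← ea, ← eb]; group
  have hmixed : ∀ a b : SL23, K.α a * K.β b ∈ M → (a ^ 3 = 1 ∧ b = 1 → a = 1) ∧ (b ^ 3 = 1 ∧ a = 1 → b = 1) :=
    fun a b h => ⟨fun ⟨h3, e⟩ => K.no_single E K.α K.α_inj rfl K.norm_α h3 (by simpa [e] using h),
      fun ⟨h3, e⟩ => K.no_single E K.β K.β_inj K.z_eq.symm K.norm_β h3 (by simpa [e] using h)⟩
  rcases hqx with ex | ex <;> rcases hry with ey | ey <;> rw [ex] at ea ef <;> rw [ey] at eb ef
  · exfalso
    set f := K.α sU * K.β sU with hfdef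
    have hf3 : f ^ 3 = 1 := by rw [hfdef, K.pair_pow, sU_cube, map_one, map_one, one_mul]
    have hfV : f ∉ V := fun h => by
      have h2 := E.sq f h
      rw [pow_succ, pow_two, h2, one_mul] at hf3
      rw [hfdef] at hf3
      rcases K.pair_one hf3 with ⟨e, -⟩ | ⟨e, -⟩
      · exact sU_ne_one e
      · exact absurd e (by decide +kernel)
    obtain ⟨v, hv, hfix, hvne, hsix⟩ := K.six E hf hf3 hfV
    have hcf : g0 * f = f * g0 := mul_inv_eq_iff_eq_mul.1 ef
    have htg : g0 * K.α sZ = K.α sZ * g0 := K.mem_H.1 hg0D.2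
    have htf : f * K.α sZ = K.α sZ * f := K.mem_H.1 hf.2
    have htV := E.mem
    set t := K.α sZ with htdef
    set w : ℕ → G := fun i => f ^ i * v * (f ^ i)⁻¹ with hw
    have hwV : ∀ i, w i ∈ V := fun i => E.norm _ (M.pow_mem hf.1 _) v hv
    have hcv : g0 * v * g0⁻¹ ∈ V := E.norm g0 hg0D.1 v hv
    obtain ⟨i, k, hik⟩ : ∃ i : Fin 3, ∃ k : Fin 2, g0 * v * g0⁻¹ = w i.val * t ^ k.val := by
      rcases hsix _ hcv with e | e | h
      · exact absurd (Or.inl (conj_eq_one_iff.1 e)) hvne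
      · refine absurd (Or.inr ?_) hvne
        have e2 : g0 * v * g0⁻¹ = g0 * t * g0⁻¹ := by rw [e, htg, mul_inv_cancel_right]
        exact mul_left_cancel (mul_right_cancel e2)
      · exact h
    have htn : ∀ n : ℕ, f ^ n * t * (f ^ n)⁻¹ = t := fun n => by
      rw [((show Commute f t from htf).pow_left n).eq, mul_inv_cancel_right]
    have hwj : ∀ j : ℕ, g0 * w j * g0⁻¹ = w (j + i.val) * t ^ k.val := fun j => by
      have hc : Commute g0 (f ^ j) := (show Commute g0 f from hcf).pow_right j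
      calc g0 * w j * g0⁻¹ = (g0 * f ^ j) * v * (g0 * f ^ j)⁻¹ := by simp only [hw]; group
        _ = f ^ j * (g0 * v * g0⁻¹) * (f ^ j)⁻¹ := by rw [hc.eq]; group
        _ = f ^ j * w i.val * (f ^ j)⁻¹ * (f ^ j * t * (f ^ j)⁻¹) ^ k.val := by rw [hik, conj_pow]; group
        _ = _ := by rw [htn]; simp only [hw, pow_add]; group
    set p := w 0 * w 1 * w 2 with hp
    have hw3 : ∀ j : ℕ, w (j + 3) = w j := fun j => by simp only [hw, pow_add, hf3, mul_one]
    have hrot : ∀ j : ℕ, w (j + 1) * w (j + 2) * w (j + 3) = w j * w (j + 1) * w (j + 2) := fun j => by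
      rw [hw3]
      exact (E.comm _ (V.mul_mem (hwV (j + 1)) (hwV (j + 2))) _ (hwV j)).trans (mul_assoc (w j) _ _).symm
    have hprod : ∀ j : ℕ, w j * w (j + 1) * w (j + 2) = p := by
      intro j
      induction j with
      | zero => rfl
      | succ j ih => rw [← ih, ← hrot j]
    have hpV : p ∈ V := V.mul_mem (V.mul_mem (hwV _) (hwV _)) (hwV _)
    have hfp : f * p = p * f := by
      have e : f * p * f⁻¹ = w 1 * w 2 * w 3 := by simp only [hp, hw]; group
      rw [hrot 0] at e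
      exact mul_inv_eq_iff_eq_mul.1 e
    have hgp : g0 * p * g0⁻¹ = p * t ^ k.val := by
      have e : g0 * p * g0⁻¹ = (g0 * w 0 * g0⁻¹) * (g0 * w 1 * g0⁻¹) * (g0 * w 2 * g0⁻¹) := by simp only [hp]; group
      rw [e, hwj, hwj, hwj]
      have htk : t ^ k.val ∈ V := V.pow_mem htV _
      rw [show w (0 + i.val) * t ^ k.val * (w (1 + i.val) * t ^ k.val) =
          w (0 + i.val) * (t ^ k.val * w (1 + i.val)) * t ^ k.val by group, E.comm _ htk _ (hwV _),
        show w (0 + i.val) * (w (1 + i.val) * t ^ k.val) * t ^ k.val * (w (2 + i.val) * t ^ k.val) =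
          w (0 + i.val) * w (1 + i.val) * (t ^ k.val * t ^ k.val * w (2 + i.val)) * t ^ k.val by group,
        E.sq _ htk, one_mul, Nat.zero_add, Nat.add_comm 1, Nat.add_comm 2, hprod]
    have hk : t ^ k.val = 1 := by
      rcases hfix p hpV hfp with e | e
      · rw [e] at hgp; simpa using hgp.symm
      · rw [e, show g0 * t * g0⁻¹ = t by rw [htg, mul_inv_cancel_right], left_eq_mul] at hgp
        exact hgp
    rw [hk, mul_one] at hik
    set h := (f ^ i.val)⁻¹ * g0 with hh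
    have hhM : h ∈ M := M.mul_mem (M.inv_mem (M.pow_mem hf.1 _)) hg0D.1
    have hhf : Commute f h := ((Commute.refl f).pow_right _).inv_right.mul_right (show Commute f g0 from hcf.symm)
    have hhv : h * v * h⁻¹ = v := by
      rw [hh, show (f ^ i.val)⁻¹ * g0 * v * ((f ^ i.val)⁻¹ * g0)⁻¹ = (f ^ i.val)⁻¹ * (g0 * v * g0⁻¹) * f ^ i.val by
        group, hik]
      simp only [hw]; group
    have hht : Commute h t := ((show Commute f t from htf).pow_left _).inv_left.mul_left (show Commute g0 t from htg)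
    have hall : ∀ x ∈ V, h * x = x * h := by
      intro x hx
      rcases hsix x hx with rfl | rfl | ⟨j, l, rfl⟩
      · simp
      · exact hht.eq
      · exact ((((hhf.symm.pow_right j.val).mul_right (show Commute h v from mul_inv_eq_iff_eq_mul.1 hhv)).mul_right
          (hhf.symm.pow_right j.val).inv_right).mul_right (hht.pow_right _)).eq
    apply hg0P
    have hfP : f ∈ K.α.range ⊔ K.β.range := K.mem_prod.2 ⟨_, _, hfdef⟩
    have hh1 : h ∈ K.α.range ⊔ K.β.range := by
      rcases hfix h (E.self h hhM hall) hhf.eq with e | e <;> rw [e]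
      · exact one_mem _
      · exact K.mem_prod.2 ⟨sZ, 1, by simp [htdef]⟩
    have := mul_mem (pow_mem hfP i.val) hh1
    rwa [hh, mul_inv_cancel_left] at this
  · exfalso
    have hm := mul_mem (ef ▸ mul_mem (mul_mem hg0D hf) (inv_mem hg0D) : K.α sU * K.β sU⁻¹ ∈ M ⊓ H) hf
    rw [K.pair_mul, inv_mul_cancel] at hm
    exact (show (sU * sU : SL23) ≠ 1 by decide +kernel) ((hmixed _ _ hm.1).1 ⟨by decide +kernel, rfl⟩)
  · exfalso
    have hm := mul_mem (ef ▸ mul_mem (mul_mem hg0D hf) (inv_mem hg0D) : K.α sU⁻¹ * K.β sU ∈ M ⊓ H) hf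
    rw [K.pair_mul, inv_mul_cancel] at hm
    exact (show (sU * sU : SL23) ≠ 1 by decide +kernel) ((hmixed _ _ hm.1).2 ⟨by decide +kernel, rfl⟩)
  · exact ⟨g0, hg0D, hg0P, by rw [ea, map_inv], by rw [eb, map_inv]⟩

end Pre

end CfsgLib.GTwoInvol
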