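import Cfsg.Agent.Lib.GTwoInvol.FusionModel
import Cfsg.Agent.Lib.Transfer.Thompson
import Cfsg.Agent.Lib.Classical.UThreeThree.Hom
import Cfsg.Prelude.Def_Solvable
import Cfsg.Prelude.Def_Transfer

/-!
The two factors of the centralizer of the involution, and the elementary subgroup of order eight.
-/

set_option autoImplicit false
set_option linter.style.haveILetI false
set_option linter.unusedSectionVars false

namespace CfsgLib.GTwoInvol

variable {G : Type*} [Group G]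

theorem sl23_closure : Subgroup.closure ({sU, sL} : Set SL23) = ⊤ := by
  have h : ∀ x : SL23, x ∈ [1, sU, sU * sU, sL, sL * sL, sU * sL, sL * sU, sU * sL * sU] ∨
      ∃ a ∈ [1, sU, sU * sU, sL, sL * sL, sU * sL, sL * sU, sU * sL * sU],
        ∃ b ∈ [1, sU, sU * sU, sL, sL * sL, sU * sL, sL * sU, sU * sL * sU], x = a * b := by decide +kernel
  rw [eq_top_iff]
  intro x _
  have hu : sU ∈ Subgroup.closure ({sU, sL} : Set SL23) := Subgroup.subset_closure (by simp)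
  have hl : sL ∈ Subgroup.closure ({sU, sL} : Set SL23) := Subgroup.subset_closure (by simp)
  have hm : ∀ a ∈ [1, sU, sU * sU, sL, sL * sL, sU * sL, sL * sU, sU * sL * sU],
      a ∈ Subgroup.closure ({sU, sL} : Set SL23) := by
    intro a ha
    simp only [List.mem_cons, List.not_mem_nil, or_false] at ha
    rcases ha with e | e | e | e | e | e | e | e <;> rw [e]
    exacts [one_mem _, hu, mul_mem hu hu, hl, mul_mem hl hl, mul_mem hu hl, mul_mem hl hu,
      mul_mem (mul_mem hu hl) hu]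
  rcases h x with h1 | ⟨a, ha, b, hb, rfl⟩
  · exact hm x h1
  · exact mul_mem (hm a ha) (hm b hb)

theorem sl23_hom_ext {f g : SL23 →* G} (h1 : f sU = g sU) (h2 : f sL = g sL) : f = g := by
  refine MonoidHom.eq_of_eqOn_dense sl23_closure ?_
  rintro x (rfl | rfl)
  exacts [h1, h2]

/-- The two commuting factors and their centralizer. -/
structure Pre (H : Subgroup G) where
  α : SL23 →* G
  β : SL23 →* G
  α_inj : Function.Injective α
  β_inj : Function.Injective β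
  z_eq : α sZ = β sZ
  comm : ∀ x y, Commute (α x) (β y)
  cent : H = Subgroup.centralizer {α sZ}
  norm_α : ∀ h ∈ H, ∀ x, ∃ x', h * α x * h⁻¹ = α x'
  norm_β : ∀ h ∈ H, ∀ y, ∃ y', h * β y * h⁻¹ = β y'
  index : (α.range ⊔ β.range).relIndex H = 2

/-- An elementary subgroup of order eight with the full linear group acting. -/
structure Eight (M V : Subgroup G) (t : G) : Prop where
  le : V ≤ M
  mem : t ∈ V
  card : Nat.card V = 8
  comm : ∀ a ∈ V, ∀ b ∈ V, a * b = b * a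
  sq : ∀ a ∈ V, a * a = 1
  norm : ∀ m ∈ M, ∀ v ∈ V, m * v * m⁻¹ ∈ V
  self : ∀ m ∈ M, (∀ v ∈ V, m * v = v * m) → m ∈ V
  cardM : Nat.card M = 1344
  simple : ∀ N : Subgroup G, N ≤ M → (∀ m ∈ M, ∀ x ∈ N, m * x * m⁻¹ ∈ N) → V ≤ N → N = V ∨ N = M

variable [Finite G]

theorem exists_pre (H H₁ H₂ : Subgroup G) (h1 : H₁ ≤ H) (h2 : H₂ ≤ H) (hn1 : (H₁.subgroupOf H).Normal)
    (hn2 : (H₂.subgroupOf H).Normal) (e1 : ↥H₁ ≃* SL23) (e2 : ↥H₂ ≃* SL23)
    (hidx : (H₁ ⊔ H₂).relIndex H = 2) (hint1 : H₁ ⊓ H₂ = H₁ ⊓ Subgroup.centralizer (H₁ : Set G))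
    (hint2 : H₁ ⊓ H₂ = H₂ ⊓ Subgroup.centralizer (H₂ : Set G))
    (hHC : H = Subgroup.centralizer ((H₁ ⊓ H₂ : Subgroup G) : Set G)) :
    ∃ K : Pre H, K.α sZ ∈ H₁ ⊓ H₂ := by
  let a : SL23 →* G := H₁.subtype.comp e1.symm.toMonoidHom
  let b : SL23 →* G := H₂.subtype.comp e2.symm.toMonoidHom
  have hai : Function.Injective a := H₁.subtype_injective.comp e1.symm.injective
  have hbi : Function.Injective b := H₂.subtype_injective.comp e2.symm.injective
  have ha : a.range = H₁ := by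
    ext g
    exact ⟨fun ⟨x, hx⟩ => hx ▸ (e1.symm x).2, fun hg => ⟨e1 ⟨g, hg⟩, by simp [a]⟩⟩
  have hb : b.range = H₂ := by
    ext g
    exact ⟨fun ⟨x, hx⟩ => hx ▸ (e2.symm x).2, fun hg => ⟨e2 ⟨g, hg⟩, by simp [b]⟩⟩
  have hZ : ∀ (c : SL23 →* G), Function.Injective c →
      H₁ ⊓ H₂ = c.range ⊓ Subgroup.centralizer (c.range : Set G) →
      ∀ g, g ∈ H₁ ⊓ H₂ ↔ g = 1 ∨ g = c sZ := by
    intro c hc h g
    rw [h]
    constructor
    · rintro ⟨⟨x, rfl⟩, hg⟩
      have hx : ∀ y, x * y = y * x := fun y => hc (by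
        rw [map_mul, map_mul]; exact (Subgroup.mem_centralizer_iff.1 hg _ ⟨y, rfl⟩).symm)
      rcases center_cases x (hx _) (hx _) with e | e <;> simp [e]
    · rintro (rfl | rfl)
      · exact one_mem _
      · refine ⟨⟨sZ, rfl⟩, Subgroup.mem_centralizer_iff.2 ?_⟩
        rintro _ ⟨y, rfl⟩
        rw [← map_mul, ← map_mul, sZ_comm]
  have hZ1 := hZ a hai (by rw [ha]; exact hint1)
  have hZ2 := hZ b hbi (by rw [hb]; exact hint2)
  have hz : a sZ = b sZ := by
    rcases (hZ2 (a sZ)).1 ((hZ1 _).2 (Or.inr rfl)) with e | e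
    · exact absurd (hai (e.trans (map_one a).symm)) sZ_ne_one
    · exact e
  have hnorm : ∀ (Hi : Subgroup G) (c : SL23 →* G), Hi ≤ H → (Hi.subgroupOf H).Normal → c.range = Hi →
      ∀ h ∈ H, ∀ x, ∃ x', h * c x * h⁻¹ = c x' := by
    intro Hi c hle hn hc h hh x
    have hm : c x ∈ Hi := hc ▸ ⟨x, rfl⟩
    have := hn.conj_mem ⟨c x, hle hm⟩ hm ⟨h, hh⟩
    rw [Subgroup.mem_subgroupOf] at this
    obtain ⟨x', hx'⟩ : h * c x * h⁻¹ ∈ c.range := hc ▸ this
    exact ⟨x', hx'.symm⟩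
  have hna := hnorm H₁ a h1 hn1 ha
  have hnb := hnorm H₂ b h2 hn2 hb
  have hcent : H = Subgroup.centralizer {a sZ} := by
    rw [hHC]
    ext g
    rw [Subgroup.mem_centralizer_iff, Subgroup.mem_centralizer_singleton_iff]
    constructor
    · exact fun h => (h _ ((hZ1 _).2 (Or.inr rfl))).symm
    · intro h x hx
      rcases (hZ1 x).1 hx with rfl | rfl
      · simp
      · exact h.symm
  have haH : ∀ x, a x ∈ H := fun x => h1 (ha ▸ ⟨x, rfl⟩)
  have hbH : ∀ x, b x ∈ H := fun x => h2 (hb ▸ ⟨x, rfl⟩)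
  have hcomm3 : ∀ x y, x ^ 3 = 1 → b y * a x * (b y)⁻¹ = a x := by
    intro x y hx
    set c := b y * a x * (b y)⁻¹ * (a x)⁻¹ with hc
    have hc1 : c ∈ H₁ ⊓ H₂ := by
      refine ⟨?_, ?_⟩
      · obtain ⟨x', hx'⟩ := hna _ (hbH y) x
        rw [hc, hx']
        rw [← ha]
        exact a.range.mul_mem ⟨x', rfl⟩ (a.range.inv_mem ⟨x, rfl⟩)
      · obtain ⟨y', hy'⟩ := hnb _ (haH x) y⁻¹
        rw [hc, show b y * a x * (b y)⁻¹ * (a x)⁻¹ = b y * (a x * b y⁻¹ * (a x)⁻¹) by rw [map_inv]; group, hy']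
        rw [← hb]
        exact mul_mem ⟨y, rfl⟩ ⟨y', rfl⟩
    rcases (hZ1 c).1 hc1 with e | e
    · rw [hc, mul_inv_eq_one] at e; exact e
    · exfalso
      have hcx : b y * a x * (b y)⁻¹ = a (sZ * x) := by
        rw [map_mul, ← e, hc, inv_mul_cancel_right]
      have h3 : (a (sZ * x)) ^ 3 = 1 := by rw [← hcx, conj_pow, ← map_pow, hx, map_one]; group
      rw [← map_pow, ← map_one a] at h3
      have k : ∀ x : SL23, x ^ 3 = 1 → (sZ * x) ^ 3 ≠ 1 := by decide +kernel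
      exact k x hx (hai h3)
  have hcomm : ∀ x y, Commute (a x) (b y) := by
    intro x y
    have h := sl23_hom_ext (f := (MulAut.conj (b y)).toMonoidHom.comp a) (g := a)
      (hcomm3 _ y sU_cube) (hcomm3 _ y Model.sl_braid_self.2.1)
    have := DFunLike.congr_fun h x
    simp only [MonoidHom.comp_apply, MulEquiv.toMonoidHom_eq_coe, MonoidHom.coe_coe, MulAut.conj_apply] at this
    exact (mul_inv_eq_iff_eq_mul.1 this).symm
  exact ⟨⟨a, b, hai, hbi, hz, hcomm, hcent, hna, hnb, by rw [ha, hb]; exact hidx⟩, (hZ1 _).2 (Or.inr rfl)⟩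

theorem exists_eight (H M : Subgroup G) {t : G} (ht1 : t ≠ 1) (ht : H = Subgroup.centralizer {t})
    [hOM : (Cfsg.pCore 2 ↥M).Normal]
    (e : (↥M ⧸ Cfsg.pCore 2 ↥M) ≃* Matrix.SpecialLinearGroup (Fin 3) (ZMod 2))
    (hOel : Cfsg.IsElementaryAbelian 2 (Cfsg.pCore 2 ↥M)) (hOcard : Nat.card ↥(Cfsg.pCore 2 ↥M) = 8)
    (hin : t ∈ (Cfsg.pCore 2 ↥M).map M.subtype) (hH : ¬ 1344 ∣ Nat.card H) :
    Eight M ((Cfsg.pCore 2 ↥M).map M.subtype) t := by
  set W := Cfsg.pCore 2 ↥M with hW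
  obtain ⟨hs, hc⟩ := CfsgLib.UThreeThree.isSimpleGroup_SL32
  haveI := hs
  haveI : IsSimpleGroup (↥M ⧸ W) := e.isSimpleGroup
  obtain ⟨hcm, hsq⟩ := hOel
  have hcard : Nat.card M = 1344 := by
    rw [Subgroup.card_eq_card_quotient_mul_card_subgroup W, Nat.card_congr e.toEquiv, hc, hOcard]
  have hsimple : ∀ N : Subgroup M, N.Normal → W ≤ N → N = W ∨ N = ⊤ := by
    intro N hN hle
    haveI := hN.map (QuotientGroup.mk' W) (QuotientGroup.mk'_surjective W)
    rcases Subgroup.Normal.eq_bot_or_eq_top (H := N.map (QuotientGroup.mk' W)) inferInstance with h | h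
    · left
      rw [Subgroup.map_eq_bot_iff, QuotientGroup.ker_mk'] at h
      exact le_antisymm h hle
    · right
      have := Subgroup.comap_map_eq (QuotientGroup.mk' W) N
      rw [h, Subgroup.comap_top, QuotientGroup.ker_mk', sup_eq_left.2 hle] at this
      exact this.symm
  refine ⟨Subgroup.map_subtype_le _, hin, by rw [Subgroup.card_map_of_injective M.subtype_injective, hOcard],
    ?_, ?_, ?_, ?_, hcard, ?_⟩
  · rintro _ ⟨a, ha, rfl⟩ _ ⟨b, hb, rfl⟩
    exact congrArg (fun x : W => ((x : M) : G)) (mul_comm' (⟨a, ha⟩ : W) ⟨b, hb⟩)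
  · rintro _ ⟨a, ha, rfl⟩
    rw [← map_mul, ← pow_two, hsq a ha, map_one]
  · rintro m hm _ ⟨v, hv, rfl⟩
    exact ⟨⟨m, hm⟩ * v * ⟨m, hm⟩⁻¹, hOM.conj_mem v hv ⟨m, hm⟩, rfl⟩
  · intro m hm hmv
    have hle : W ≤ Subgroup.centralizer (W : Set M) := fun x hx => Subgroup.mem_centralizer_iff.2 fun y hy =>
      congrArg (fun x : W => (x : M)) (mul_comm' (⟨y, hy⟩ : W) ⟨x, hx⟩)
    rcases hsimple (Subgroup.centralizer (W : Set M)) inferInstance hle with h | h
    · refine ⟨⟨m, hm⟩, ?_, rfl⟩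
      show (⟨m, hm⟩ : M) ∈ W
      rw [← h]
      exact Subgroup.mem_centralizer_iff.2 fun y hy => Subtype.ext (hmv _ ⟨y, hy, rfl⟩).symm
    · exfalso
      apply hH
      rw [← hcard]
      refine Subgroup.card_dvd_of_le fun x hx => ?_
      rw [ht, Subgroup.mem_centralizer_singleton_iff]
      obtain ⟨t', ht', rfl⟩ := hin
      exact congrArg Subtype.val (Subgroup.mem_centralizer_iff.1 (h ▸ Subgroup.mem_top (⟨x, hx⟩ : M) :
        (⟨x, hx⟩ : M) ∈ Subgroup.centralizer (W : Set M)) t' ht').symm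
  · intro N hN hn hV
    haveI : (N.subgroupOf M).Normal :=
      ⟨fun x hx m => Subgroup.mem_subgroupOf.2 (by simpa using hn m m.2 x (Subgroup.mem_subgroupOf.1 hx))⟩
    rcases hsimple (N.subgroupOf M) inferInstance (fun x hx => Subgroup.mem_subgroupOf.2 (hV ⟨x, hx, rfl⟩)) with h | h
    · left; rw [← h, Subgroup.map_subgroupOf_eq_of_le hN]
    · right; exact le_antisymm hN (Subgroup.subgroupOf_eq_top.1 h)

end CfsgLib.GTwoInvol
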