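import Cfsg.Agent.Lib.GTwoInvol.Setup

/-!
Finite facts in the centraliser of the involution: centralisers of `d` and `de`, their involutions,
and subgroups of odd order.
-/

set_option autoImplicit false
set_option linter.style.haveILetI false

namespace CfsgLib.GTwoInvol

theorem cent_sU_sign : ∀ x : SL23, x * sU = sU * x → ∃ k : Fin 3, x = sU ^ (k : ℕ) ∨ x = sZ * sU ^ (k : ℕ) := by
  decide +kernel

theorem sU_conj_ne : ∀ x : SL23, x * sU * x⁻¹ ≠ sU * sZ ∧ x * sU⁻¹ * x⁻¹ ≠ sU * sZ ∧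
    x * sU⁻¹ * x⁻¹ ≠ sU⁻¹ * sZ := by
  decide +kernel

theorem sq_eq_one_cases : ∀ y : SL23, y * y = 1 → y = 1 ∨ y = sZ := by decide +kernel

theorem sU_pow_sq : ∀ k : Fin 3, (sU ^ (k : ℕ) * sU ^ (k : ℕ) = 1 → (k : ℕ) = 0) ∧
    sU ^ (k : ℕ) * sU ^ (k : ℕ) ≠ sZ := by
  decide +kernel

theorem comm_even : ∀ y : SL23, y = 1 ∨ y = sZ ∨
    ∃ q : SL23, q * y * q⁻¹ * y⁻¹ = sZ ∨ q * y * q⁻¹ * y⁻¹ * (q * y * q⁻¹ * y⁻¹) = sZ := by
  decide +kernel

theorem exists_twist : ∀ y : SL23, y * delta y = 1 → ∃ q : SL23, q * y * (delta q)⁻¹ = sZ * y := by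
  decide +kernel

theorem cube_of_nine : ∀ x : SL23, (x ^ 9 = 1 → x ^ 3 = 1) ∧ (x ^ 9 = sZ → x ^ 3 = sZ) := by
  decide +kernel

theorem card_SL23 : Nat.card SL23 = 24 := by
  rw [Nat.card_eq_fintype_card]
  decide +kernel

variable {G : Type*} [Group G]

namespace Hyp

variable (K : Hyp G)

theorem d_ne : K.d ≠ 1 := fun h => sU_ne_one (K.α_inj (h.trans (map_one K.α).symm))

theorem e_ne : K.e ≠ 1 := fun h => sU_ne_one (K.β_inj (h.trans (map_one K.β).symm))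

theorem pair_conj_d (x y : SL23) :
    K.α x * K.β y * K.d * (K.α x * K.β y)⁻¹ = K.α (x * sU * x⁻¹) := by
  rw [d, mul_assoc (K.α x), ← (K.comm sU y).eq, map_mul, map_mul, map_inv]; group

theorem pair_conj_e (x y : SL23) :
    K.α x * K.β y * K.e * (K.α x * K.β y)⁻¹ = K.β (y * sU * y⁻¹) := by
  have c := K.comm x (y * sU * y⁻¹)
  calc K.α x * K.β y * K.e * (K.α x * K.β y)⁻¹
      = K.α x * K.β (y * sU * y⁻¹) * (K.α x)⁻¹ := by rw [e, map_mul, map_mul, map_inv]; group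
    _ = K.β (y * sU * y⁻¹) := by rw [c.eq, mul_inv_cancel_right]

theorem pair_u_conj_d (x y : SL23) :
    K.α x * K.β y * K.u * K.d * (K.α x * K.β y * K.u)⁻¹ = K.α (x * sU⁻¹ * x⁻¹) := by
  rw [show K.α x * K.β y * K.u * K.d * (K.α x * K.β y * K.u)⁻¹ =
    K.α x * K.β y * (K.u * K.d * K.u⁻¹) * (K.α x * K.β y)⁻¹ by group, K.u_d,
    show K.α x * K.β y * K.d⁻¹ * (K.α x * K.β y)⁻¹ =
      (K.α x * K.β y * K.d * (K.α x * K.β y)⁻¹)⁻¹ by group, pair_conj_d, ← map_inv]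
  congr 1
  group

theorem pair_u_conj_e (x y : SL23) :
    K.α x * K.β y * K.u * K.e * (K.α x * K.β y * K.u)⁻¹ = K.β (y * sU⁻¹ * y⁻¹) := by
  rw [show K.α x * K.β y * K.u * K.e * (K.α x * K.β y * K.u)⁻¹ =
    K.α x * K.β y * (K.u * K.e * K.u⁻¹) * (K.α x * K.β y)⁻¹ by group, K.u_e,
    show K.α x * K.β y * K.e⁻¹ * (K.α x * K.β y)⁻¹ =
      (K.α x * K.β y * K.e * (K.α x * K.β y)⁻¹)⁻¹ by group, pair_conj_e, ← map_inv]
  congr 1
  group

/-- `C_H(d) = ⟨d⟩ × β SL(2,3)`. -/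
theorem cent_d {g : G} (hg : g ∈ K.H) (hd : Commute g K.d) :
    ∃ (k : Fin 3) (y : SL23), g = K.d ^ (k : ℕ) * K.β y := by
  have hfix : g * K.d * g⁻¹ = K.d := by rw [hd.eq, mul_inv_cancel_right]
  obtain ⟨x, y, h | h⟩ := K.exists_pair hg
  · rw [h, K.pair_conj_d] at hfix
    obtain ⟨k, hk | hk⟩ := cent_sU_sign x (mul_inv_eq_iff_eq_mul.1 (K.α_inj hfix))
    · exact ⟨k, y, by rw [h, hk, map_pow]; rfl⟩
    · refine ⟨k, sZ * y, ?_⟩
      rw [h, hk, sZ_comm, map_mul, map_pow, map_mul, mul_assoc]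
      exact congrArg (fun a => K.α sU ^ (k : ℕ) * (a * K.β y)) K.z_eq
  · rw [h, K.pair_u_conj_d] at hfix
    exfalso
    refine sU_conj_ne_inv x ?_
    have e := congrArg (fun a : SL23 => a⁻¹) (K.α_inj hfix)
    simp only [mul_inv_rev, inv_inv, ← mul_assoc] at e
    exact e

theorem pair_de {x y : SL23} (h : K.α x * K.β y = K.d * K.e) :
    (x = sU ∧ y = sU) ∨ (x = sU * sZ ∧ y = sU * sZ) := K.pair_eq h

/-- `C_H(de) = E⟨t⟩`. -/
theorem cent_de {g : G} (hg : g ∈ K.H) (hde : Commute g (K.d * K.e)) :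
    ∃ i j : Fin 3, g = K.d ^ (i : ℕ) * K.e ^ (j : ℕ) ∨ g = K.d ^ (i : ℕ) * K.e ^ (j : ℕ) * K.t := by
  have hfix : g * K.d * g⁻¹ * (g * K.e * g⁻¹) = K.d * K.e := by
    rw [show g * K.d * g⁻¹ * (g * K.e * g⁻¹) = g * (K.d * K.e) * g⁻¹ by group, hde.eq,
      mul_inv_cancel_right]
  obtain ⟨x, y, h | h⟩ := K.exists_pair hg
  · rw [h, K.pair_conj_d, K.pair_conj_e] at hfix
    rcases K.pair_de hfix with ⟨h1, h2⟩ | ⟨h1, -⟩
    · obtain ⟨i, hi⟩ := cent_sU_sign x (mul_inv_eq_iff_eq_mul.1 h1)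
      obtain ⟨j, hj⟩ := cent_sU_sign y (mul_inv_eq_iff_eq_mul.1 h2)
      refine ⟨i, j, ?_⟩
      have htd : K.t * K.d ^ (i : ℕ) = K.d ^ (i : ℕ) * K.t := (K.t_comm_d.pow_right _).eq
      have hte : K.t * K.e ^ (j : ℕ) = K.e ^ (j : ℕ) * K.t := (K.t_comm_e.pow_right _).eq
      rcases hi with hi | hi <;> rcases hj with hj | hj <;>
        rw [h, hi, hj] <;> simp only [map_mul, map_pow, ← K.z_eq]
      · exact Or.inl rfl
      · refine Or.inr ?_
        change K.d ^ (i : ℕ) * (K.t * K.e ^ (j : ℕ)) = _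
        rw [hte, mul_assoc]
      · refine Or.inr ?_
        change K.t * K.d ^ (i : ℕ) * K.e ^ (j : ℕ) = _
        rw [htd, mul_assoc, hte, mul_assoc]
      · refine Or.inl ?_
        change K.t * K.d ^ (i : ℕ) * (K.t * K.e ^ (j : ℕ)) = _
        rw [htd, mul_assoc, ← mul_assoc K.t, K.t_sq, one_mul]
    · exact absurd h1 (sU_conj_ne x).1
  · rw [h, K.pair_u_conj_d, K.pair_u_conj_e] at hfix
    exfalso
    rcases K.pair_de hfix with ⟨h1, -⟩ | ⟨h1, -⟩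
    · refine sU_conj_ne_inv x ?_
      have e := congrArg (fun a : SL23 => a⁻¹) h1
      simp only [mul_inv_rev, inv_inv, ← mul_assoc] at e
      exact e
    · exact (sU_conj_ne x).2.1 h1

/-- The only involution of `C_H(d)` is `t`. -/
theorem invol_d {g : G} (hg : g ∈ K.H) (hd : Commute g K.d) (h2 : g * g = 1) : g = 1 ∨ g = K.t := by
  obtain ⟨k, y, rfl⟩ := K.cent_d hg hd
  have h : K.α (sU ^ (k : ℕ) * sU ^ (k : ℕ)) * K.β (y * y) = K.α 1 * K.β 1 := by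
    have c := K.comm (sU ^ (k : ℕ)) y
    rw [map_mul, map_mul, map_one, map_one, mul_one, map_pow] at *
    rw [← h2]
    change K.d ^ (k : ℕ) * K.d ^ (k : ℕ) * (K.β y * K.β y) = _
    exact (c.symm.mul_mul_mul_comm _ _).symm
  rcases K.pair_eq h with ⟨h1, h3⟩ | ⟨h1, -⟩
  · rw [(sU_pow_sq k).1 h1, pow_zero, one_mul]
    rcases sq_eq_one_cases y h3 with rfl | rfl
    · exact Or.inl (map_one _)
    · exact Or.inr K.t_eq_β.symm
  · exact absurd (by simpa using h1) (sU_pow_sq k).2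

theorem pow_de_eq_one {i j : Fin 3} (h : K.d ^ (i : ℕ) * K.e ^ (j : ℕ) = 1) : (i : ℕ) = 0 ∧ (j : ℕ) = 0 := by
  have h' : K.α (sU ^ (i : ℕ)) * K.β (sU ^ (j : ℕ)) = K.α 1 * K.β 1 := by
    rw [map_pow, map_pow, map_one, map_one, mul_one]; exact h
  have hd : ∀ i : Fin 3, sU ^ (i : ℕ) = 1 → (i : ℕ) = 0 := by decide +kernel
  have hz : ∀ i : Fin 3, sU ^ (i : ℕ) ≠ 1 * sZ := by decide +kernel
  rcases K.pair_eq h' with ⟨h1, h2⟩ | ⟨h1, -⟩
  · exact ⟨hd i h1, hd j h2⟩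
  · exact absurd h1 (hz i)

theorem t_ne_de (i j : Fin 3) : K.d ^ (i : ℕ) * K.e ^ (j : ℕ) ≠ K.t := by
  intro h
  have h3 : (K.d ^ (i : ℕ) * K.e ^ (j : ℕ)) ^ 3 = 1 := by
    rw [((K.d_comm_e.pow_pow _ _)).mul_pow, ← pow_mul, ← pow_mul, mul_comm (i : ℕ), mul_comm (j : ℕ),
      pow_mul, pow_mul, K.d_cube, K.e_cube, one_pow, one_pow, one_mul]
  rw [h, pow_succ, pow_two, K.t_sq, one_mul] at h3
  exact K.t_ne_one h3

/-- The only involution of `C_H(de)` is `t`. -/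
theorem invol_de {g : G} (hg : g ∈ K.H) (hde : Commute g (K.d * K.e)) (h2 : g * g = 1) :
    g = 1 ∨ g = K.t := by
  have key : ∀ i j : Fin 3,
      K.d ^ (i : ℕ) * K.e ^ (j : ℕ) * (K.d ^ (i : ℕ) * K.e ^ (j : ℕ)) = 1 →
        K.d ^ (i : ℕ) * K.e ^ (j : ℕ) = 1 := by
    intro i j h
    have h3 : (K.d ^ (i : ℕ) * K.e ^ (j : ℕ)) ^ 3 = 1 := by
      rw [((K.d_comm_e.pow_pow _ _)).mul_pow, ← pow_mul, ← pow_mul, mul_comm (i : ℕ), mul_comm (j : ℕ),
        pow_mul, pow_mul, K.d_cube, K.e_cube, one_pow, one_pow, one_mul]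
    rwa [pow_succ, pow_two, h, one_mul] at h3
  obtain ⟨i, j, rfl | rfl⟩ := K.cent_de hg hde
  · exact Or.inl (key i j h2)
  · refine Or.inr ?_
    have c : Commute (K.d ^ (i : ℕ) * K.e ^ (j : ℕ)) K.t :=
      ((K.t_comm_d.symm.pow_left _).mul_left (K.t_comm_e.symm.pow_left _))
    rw [c.symm.mul_mul_mul_comm, K.t_sq, mul_one] at h2
    rw [key i j h2, one_mul]

/-- Conjugating an involution inverting `d` into its product with `t`. -/
theorem exists_twist_β {s : G} (hs : s ∈ K.H) (h2 : s * s = 1) (hd : s * K.d * s⁻¹ = K.d⁻¹) :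
    ∃ q : SL23, K.β q * s * (K.β q)⁻¹ = K.t * s := by
  obtain ⟨x, y, h | h⟩ := K.exists_pair hs
  · exfalso
    rw [h, K.pair_conj_d, d, ← map_inv] at hd
    exact sU_conj_ne_inv x (K.α_inj hd)
  · rw [h, K.pair_u_conj_d, d, ← map_inv] at hd
    have hx : x * sU = sU * x := by
      have e := congrArg (fun a : SL23 => a⁻¹) (K.α_inj hd)
      simp only [mul_inv_rev, inv_inv, ← mul_assoc] at e
      exact mul_inv_eq_iff_eq_mul.1 e
    have hxd : ∀ x : SL23, x * sU = sU * x → x * delta x = 1 := by decide +kernel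
    have hsq : K.α (x * delta x) * K.β (y * delta y) = K.α 1 * K.β 1 := by
      rw [map_one, map_one, mul_one, ← h2, h,
        show K.α x * K.β y * K.u * (K.α x * K.β y * K.u) =
          K.α x * K.β y * (K.u * K.α x * K.u⁻¹) * (K.u * K.β y * K.u⁻¹) * (K.u * K.u) by group,
        K.u_conj_α, K.u_conj_β, K.u_sq, mul_one, map_mul, map_mul, mul_assoc (K.α x) (K.β y),
        ← (K.comm (delta x) y).eq]
      group
    rcases K.pair_eq hsq with ⟨-, h3⟩ | ⟨h3, -⟩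
    · obtain ⟨q, hq⟩ := exists_twist y h3
      refine ⟨q, ?_⟩
      calc K.β q * s * (K.β q)⁻¹ = K.β q * (K.α x * K.β y) * (K.u * (K.β q)⁻¹ * K.u⁻¹) * K.u := by
            rw [h]; group
        _ = K.α x * K.β q * K.β y * K.β (delta q)⁻¹ * K.u := by
            rw [← map_inv, K.u_conj_β, map_inv delta, ← mul_assoc (K.β q), ← (K.comm x q).eq]
        _ = K.α x * K.β (q * y * (delta q)⁻¹) * K.u := by rw [map_mul, map_mul]; group
        _ = K.t * s := by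
            rw [hq, map_mul, h, ← K.z_eq]
            change K.α x * (K.t * K.β y) * K.u = _
            rw [← mul_assoc (K.α x), ← (K.t_comm_α x).eq]
            group
    · rw [hxd x hx, one_mul] at h3
      exact absurd h3.symm sZ_ne_one

/-- The product of the two factors, as a homomorphism. -/
def pairHom : SL23 × SL23 →* G := MonoidHom.noncommCoprod K.α K.β K.comm

theorem pairHom_apply (v : SL23 × SL23) : K.pairHom v = K.α v.1 * K.β v.2 := rfl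

/-- Subgroups of odd order of `H` lie in the product of the two factors. -/
theorem odd_le_pair [Finite G] {X : Subgroup G} (hX : X ≤ K.H) (hodd : Odd (Nat.card X)) :
    X ≤ K.pairHom.range := by
  intro g hg
  obtain ⟨k, hk⟩ := hodd
  have hpow : g ^ (2 * (k + 1)) = g := by
    have h1 : g ^ Nat.card X = 1 := orderOf_dvd_iff_pow_eq_one.1 (Subgroup.orderOf_dvd_natCard _ hg)
    rw [show 2 * (k + 1) = Nat.card X + 1 by omega, pow_succ, h1, one_mul]
  have hsq : g * g ∈ K.pairHom.range := by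
    obtain ⟨x, y, h | h⟩ := K.exists_pair (hX hg)
    · exact mul_mem ⟨(x, y), h.symm⟩ ⟨(x, y), h.symm⟩
    · rw [h, show K.α x * K.β y * K.u * (K.α x * K.β y * K.u) =
          K.α x * K.β y * ((K.u * K.α x * K.u⁻¹) * (K.u * K.β y * K.u⁻¹)) * (K.u * K.u) by group,
        K.u_conj_α, K.u_conj_β, K.u_sq, mul_one]
      exact mul_mem ⟨(x, y), rfl⟩ ⟨(delta x, delta y), rfl⟩
  rw [← hpow, pow_mul, pow_two]
  exact pow_mem hsq _

theorem card_odd_dvd [Finite G] {X : Subgroup G} (hX : X ≤ K.H) (hodd : Odd (Nat.card X)) :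
    Nat.card X ∣ 9 := by
  have h : Nat.card X ∣ 576 := by
    refine (Subgroup.card_dvd_of_le (K.odd_le_pair hX hodd)).trans ?_
    refine (Subgroup.card_range_dvd K.pairHom).trans ?_
    rw [Nat.card_prod, card_SL23]
  have hc : Nat.Coprime (Nat.card X) 64 := by
    rw [show (64 : ℕ) = 2 ^ 6 by norm_num]
    exact Nat.Coprime.pow_right 6 (Nat.coprime_two_right.2 hodd)
  exact hc.dvd_of_dvd_mul_left (by simpa using h)

theorem cube_odd [Finite G] {X : Subgroup G} (hX : X ≤ K.H) (hodd : Odd (Nat.card X)) {g : G}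
    (hg : g ∈ X) : g ^ 3 = 1 := by
  obtain ⟨⟨x, y⟩, hxy⟩ := K.odd_le_pair hX hodd hg
  have h9 : g ^ 9 = 1 := orderOf_dvd_iff_pow_eq_one.1
    ((Subgroup.orderOf_dvd_natCard _ hg).trans (K.card_odd_dvd hX hodd))
  rw [← hxy] at h9 ⊢
  rw [← map_pow, Prod.pow_mk] at h9 ⊢
  change K.α (x ^ 9) * K.β (y ^ 9) = 1 at h9
  change K.α (x ^ 3) * K.β (y ^ 3) = 1
  rcases K.pair_eq (h9.trans (by rw [map_one, map_one, mul_one]) : _ = K.α 1 * K.β 1) with
    ⟨h1, h2⟩ | ⟨h1, h2⟩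
  · rw [(cube_of_nine x).1 h1, (cube_of_nine y).1 h2, map_one, map_one, mul_one]
  · rw [one_mul] at h1 h2
    rw [(cube_of_nine x).2 h1, (cube_of_nine y).2 h2, K.z_eq, ← map_mul, sZ_sq, map_one]

end Hyp

end CfsgLib.GTwoInvol
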