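import Cfsg.Agent.Lib.GTwoInvol.Base

/-!
The element `d` is not conjugate into `⟨y⟩` when `y` is central in `O(C(d))⟨e⟩`.
-/

set_option autoImplicit false
set_option linter.style.haveILetI false
set_option linter.unusedSectionVars false

namespace CfsgLib.GTwoInvol

open CfsgLib.GTwoTwoLocal (coreCent conj_mem_coreCent odd_coreCent coreCent_le mem_coreCent_self
  mem_normalizer_coreCent)

theorem sl_norm_line : ∀ x₀ x : SL23, x₀ ^ 3 = 1 → x₀ ≠ 1 → Commute (x * x₀ * x⁻¹) x₀ →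
    ∃ k : Fin 3, x = x₀ ^ (k : ℕ) ∨ x = x₀ ^ (k : ℕ) * sZ := by
  unfold Commute SemiconjBy; decide +kernel

theorem line_delta : ∀ a : SL23,
    ((Commute (a * sU * a⁻¹) sU ∨ Commute (a * sL * a⁻¹) sL) → a * (delta a)⁻¹ ≠ sZ) ∧
    ((Commute (a * sU⁻¹ * a⁻¹) sU ∨ Commute (a * sL⁻¹ * a⁻¹) sL) → a * (delta a)⁻¹ ≠ sZ) := by
  unfold Commute SemiconjBy; decide +kernel

variable {G : Type*} [Group G] [Finite G]

theorem mem_normalizer_conj {U : Subgroup G} {n x : G} (hn : n ∈ Subgroup.normalizer (U : Set G))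
    (hx : x ∈ U) : n * x * n⁻¹ ∈ U := (Subgroup.mem_normalizer_iff.mp hn x).mp hx

/-- Two subgroups of order `729` of a group of order `3^6·8` are conjugate. -/
theorem exists_conj_729 {C U U' : Subgroup G} (hC : Nat.card C = 243 * 24) (hU : Nat.card U = 729)
    (hU' : Nat.card U' = 729) (h : U ≤ C) (h' : U' ≤ C) :
    ∃ c ∈ C, U.map (MulAut.conj c).toMonoidHom = U' := by
  haveI : Fact (Nat.Prime 3) := ⟨Nat.prime_three⟩
  have hfac : 3 ^ (Nat.card C).factorization 3 = 729 := by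
    rw [hC, show 243 * 24 = 3 ^ 6 * 8 by norm_num, Nat.factorization_mul (by norm_num) (by norm_num),
      Finsupp.add_apply, Nat.Prime.factorization_pow Nat.prime_three,
      Nat.factorization_eq_zero_of_not_dvd (show ¬ 3 ∣ 8 by norm_num)]
    simp
  have mk : ∀ V : Subgroup G, V ≤ C → Nat.card V = 729 →
      Nat.card (V.subgroupOf C) = 3 ^ (Nat.card C).factorization 3 := fun V hV hc => by
    rw [Nat.card_congr (Subgroup.subgroupOfEquivOfLe hV).toEquiv, hc, hfac]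
  obtain ⟨c, hc⟩ := MulAction.exists_smul_eq C (Sylow.ofCard (U.subgroupOf C) (mk U h hU))
    (Sylow.ofCard (U'.subgroupOf C) (mk U' h' hU'))
  refine ⟨c, c.2, Subgroup.eq_of_le_of_card_ge ?_ (by
    rw [Subgroup.card_map_of_injective (MulAut.conj (c : G)).injective, hU, hU'])⟩
  rintro _ ⟨x, hx, rfl⟩
  have h1 : c * ⟨x, h hx⟩ * c⁻¹ ∈
      ((c • Sylow.ofCard (U.subgroupOf C) (mk U h hU) : Sylow 3 C) : Subgroup C) :=
    ⟨⟨x, h hx⟩, hx, rfl⟩
  rw [hc] at h1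
  exact Subgroup.mem_subgroupOf.mp h1

namespace Hyp

variable (K : Hyp G)

theorem card_cent_d : Nat.card ↥(Subgroup.centralizer ({K.d} : Set G)) = Nat.card (coreCent K.d) * 24 := by
  let f : ↥(coreCent K.d) × SL23 → ↥(Subgroup.centralizer ({K.d} : Set G)) := fun p =>
    ⟨(p.1 : G) * K.β p.2, mul_mem (coreCent_le _ p.1.2)
      (Subgroup.mem_centralizer_singleton_iff.mpr (K.pair_β_comm_d p.2).eq)⟩
  have hf : Function.Bijective f := by
    constructor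
    · rintro ⟨⟨o, ho⟩, x⟩ ⟨⟨o', ho'⟩, x'⟩ h
      have h' : o * K.β x = o' * K.β x' := congrArg Subtype.val h
      have hxx : x = x' := by
        refine K.β_inj_mod ?_
        have e1 : (K.β x)⁻¹ * K.β x' = (K.β x)⁻¹ * (o'⁻¹ * o) * K.β x := by
          calc (K.β x)⁻¹ * K.β x' = (K.β x)⁻¹ * o'⁻¹ * (o' * K.β x') := by group
            _ = _ := by rw [← h']; group
        rw [e1]
        simpa using K.conj_core (K.pair_β_comm_d x).inv_left (mul_mem (inv_mem ho') ho)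
      subst hxx
      exact Prod.ext (Subtype.ext (mul_right_cancel h')) rfl
    · rintro ⟨g, hg⟩
      obtain ⟨o, ho, x, rfl⟩ := K.decomp_d (Subgroup.mem_centralizer_singleton_iff.mp hg)
      exact ⟨(⟨o, ho⟩, x), rfl⟩
  rw [← Nat.card_congr (Equiv.ofBijective f hf), Nat.card_prod, card_SL23]

theorem cfix_U_nine (h : Nat.card (coreCent K.d) = 243) :
    Nat.card (cfix K.U K.u) = 9 ∧ Nat.card (cfix K.U (K.t * K.u)) = 9 := by
  have hc := K.four_U.card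
  rw [K.card_U, h, K.cfix_U_t, K.card_E_eq] at hc
  have h1 := Nat.le_of_dvd (by norm_num) (K.part K.four_U.odd K.u_sq K.u_ne_one).1
  have h2 := Nat.le_of_dvd (by norm_num) (K.part K.four_U.odd K.tu_sq K.tu_ne_one).1
  constructor <;> nlinarith

/-- An element inverted by an involution conjugates it into its translate. -/
theorem conj_translate {s o : G} (_hs : s * s = 1) (ho : Odd (orderOf o)) (hinv : s * o * s⁻¹ = o⁻¹) :
    ∃ k : ℕ, (o ^ k)⁻¹ * (o * s) * o ^ k = s := by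
  obtain ⟨m, hm⟩ := ho
  refine ⟨m + 1, ?_⟩
  have hv : o ^ (m + 1) * o ^ (m + 1) = o := by
    rw [← pow_add, show m + 1 + (m + 1) = orderOf o + 1 by omega, pow_succ, pow_orderOf_eq_one, one_mul]
  have hsv : s * o ^ (m + 1) = (o ^ (m + 1))⁻¹ * s := by
    rw [← inv_pow, ← hinv, conj_pow, inv_mul_cancel_right]
  calc (o ^ (m + 1))⁻¹ * (o * s) * o ^ (m + 1) = (o ^ (m + 1))⁻¹ * o * (s * o ^ (m + 1)) := by group
    _ = (o ^ (m + 1))⁻¹ * (o ^ (m + 1) * o ^ (m + 1)) * ((o ^ (m + 1))⁻¹ * s) := by rw [hv, hsv]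
    _ = s := by group

/-- `d` is not conjugate into `⟨y⟩`. -/
theorem not_conj_center (h243 : ∀ L : Hyp G, Nat.card (coreCent L.d) = 243) {y : G} (hy : y ∈ K.R)
    (hy1 : y ≠ 1) (hyu : Commute y K.u) (hL : ∃ L : Hyp G, L.t = K.u ∧ L.d = y)
    (hcy : ∀ x ∈ coreCent K.d, Commute y x)
    (hnc : ∀ z, z ∈ K.R → Commute z (K.t * K.u) → (∀ x ∈ coreCent K.d, Commute z x) → z = 1) :
    ∀ g : G, g * K.d * g⁻¹ ∉ Subgroup.zpowers y := by
  haveI : Fact (Nat.Prime 3) := ⟨Nat.prime_three⟩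
  intro g hg
  obtain ⟨L, hLt, hLd⟩ := hL
  have hy3 : y ^ 3 = 1 := hLd ▸ L.d_cube
  -- the image of `d`
  obtain ⟨m, hm⟩ := (isOfFinOrder_of_finite y).mem_powers_iff_mem_zpowers.mpr hg
  have hyd : g * K.d * g⁻¹ = y ∨ g * K.d * g⁻¹ = y⁻¹ := by
    have h3 : m % 3 = 0 ∨ m % 3 = 1 ∨ m % 3 = 2 := by omega
    change y ^ m = g * K.d * g⁻¹ at hm
    rw [pow_eq_pow_mod m hy3] at hm
    rcases h3 with h | h | h <;> rw [h] at hm
    · rw [pow_zero, eq_comm, mul_inv_eq_one, mul_eq_left] at hm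
      exact (K.d_ne hm).elim
    · exact Or.inl (by rw [← hm, pow_one])
    · exact Or.inr (by rw [← hm]; exact eq_inv_of_mul_eq_one_left (by rw [← pow_succ, hy3]))
  have hU : Nat.card K.U = 729 := by rw [K.card_U, h243 K]
  have hUy : ∀ x ∈ K.U, Commute x y := by
    intro x hx
    obtain ⟨o, ho, k, rfl⟩ := K.mem_U.mp hx
    exact (hcy o ho).symm.mul_left ((K.R_comm_e hy).symm.pow_left _)
  have hUd : ∀ x ∈ K.U, Commute x K.d := by
    intro x hx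
    obtain ⟨o, ho, k, rfl⟩ := K.mem_U.mp hx
    exact (show Commute o K.d from Subgroup.mem_centralizer_singleton_iff.mp (coreCent_le _ ho)).mul_left
      (K.d_comm_e.symm.pow_left _)
  set C := Subgroup.centralizer ({y} : Set G) with hCdef
  have hCcard : Nat.card C = 243 * 24 := by
    rw [hCdef, ← hLd, L.card_cent_d, h243 L]
  have hUC : K.U ≤ C := fun x hx => Subgroup.mem_centralizer_singleton_iff.mpr (hUy x hx).eq
  have hgUC : K.U.map (MulAut.conj g).toMonoidHom ≤ C := by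
    rintro _ ⟨x, hx, rfl⟩
    have h : Commute (g * x * g⁻¹) (g * K.d * g⁻¹) := (hUd x hx).map (MulAut.conj g).toMonoidHom
    refine Subgroup.mem_centralizer_singleton_iff.mpr ?_
    rcases hyd with e | e <;> rw [e] at h
    exacts [h.eq, (Commute.inv_right_iff.mp h).eq]
  obtain ⟨c, hcC, hc⟩ := exists_conj_729 hCcard
    (by rw [Subgroup.card_map_of_injective (MulAut.conj g).injective, hU]) hU hgUC hUC
  have hcy' : Commute c y := Subgroup.mem_centralizer_singleton_iff.mp hcC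
  set n₀ := c * g with hn₀
  have hn₀U : n₀ ∈ Subgroup.normalizer (K.U : Set G) :=
    CfsgLib.SymNineThree.mem_normalizer_of_le _ fun x hx => by
      rw [show n₀ * x * n₀⁻¹ = c * (g * x * g⁻¹) * c⁻¹ by rw [hn₀]; group, ← hc]
      exact ⟨g * x * g⁻¹, ⟨x, hx, rfl⟩, rfl⟩
  have hn₀d : n₀ * K.d * n₀⁻¹ = y ∨ n₀ * K.d * n₀⁻¹ = y⁻¹ := by
    rw [show n₀ * K.d * n₀⁻¹ = c * (g * K.d * g⁻¹) * c⁻¹ by rw [hn₀]; group]
    rcases hyd with e | e <;> rw [e]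
    exacts [Or.inl (conj_eq_self hcy'), Or.inr (conj_eq_self hcy'.inv_right)]
  -- the core of `C(y)` lies in `U`
  have hOU : coreCent y ≤ K.U := by
    have hp : IsPGroup 3 ↥(coreCent y ⊔ K.U) := IsPGroup.to_sup_of_normal_left'
      (hLd ▸ L.isPGroup_core_d) K.isPGroup_U fun x hx =>
        mem_normalizer_coreCent (Or.inl (conj_eq_self (hUy x hx)))
    obtain ⟨k, hk⟩ := hp.exists_card_eq
    have hle : coreCent y ⊔ K.U ≤ C := sup_le (coreCent_le _) hUC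
    have hd : 3 ^ k ∣ 3 ^ 6 * 8 := by
      rw [← hk, show 3 ^ 6 * 8 = 243 * 24 by norm_num, ← hCcard]; exact Subgroup.card_dvd_of_le hle
    have hk6 : k ≤ 6 := (Nat.pow_dvd_pow_iff_le_right (by norm_num : 1 < 3)).mp
      ((Nat.Coprime.pow_left k (by norm_num : Nat.Coprime 3 8)).dvd_of_dvd_mul_right hd)
    have := Subgroup.eq_of_le_of_card_ge (le_sup_right : K.U ≤ coreCent y ⊔ K.U) (by
      rw [hk, hU]; exact (Nat.pow_le_pow_right (by norm_num) hk6).trans (by norm_num))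
    exact this.symm ▸ le_sup_left
  -- send `t` to `u`
  set t₁ := n₀ * K.t * n₀⁻¹ with ht₁
  have ht₁y : Commute t₁ y := by
    have h : Commute t₁ (n₀ * K.d * n₀⁻¹) := K.t_comm_d.map (MulAut.conj n₀).toMonoidHom
    rcases hn₀d with e | e <;> rw [e] at h
    exacts [h, Commute.inv_right_iff.mp h]
  have ht₁sq : t₁ * t₁ = 1 := by
    rw [ht₁, show n₀ * K.t * n₀⁻¹ * (n₀ * K.t * n₀⁻¹) = n₀ * (K.t * K.t) * n₀⁻¹ by group, K.t_sq]; group
  have ht₁1 : t₁ ≠ 1 := fun h => K.t_ne_one (by rw [ht₁, mul_inv_eq_one, mul_eq_left] at h; exact h)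
  obtain ⟨o, ho, x, hox⟩ := L.decomp_d (hLd.symm ▸ ht₁y)
  have hxz : x = sZ := by
    have h2 : (L.β 1)⁻¹ * L.β (x * x) ∈ coreCent L.d := by
      rw [map_one, inv_one, one_mul, map_mul]
      have e : L.β x * L.β x = (L.β x * o * (L.β x)⁻¹)⁻¹ * o⁻¹ * (o * L.β x * (o * L.β x)) := by group
      rw [e, ← hox, ht₁sq, mul_one]
      exact mul_mem (inv_mem (L.conj_core (L.pair_β_comm_d x) ho)) (inv_mem ho)
    rcases sq_eq_one_cases x (L.β_inj_mod h2).symm with h | h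
    · exfalso
      rw [h, map_one, mul_one] at hox
      have := mem_of_sq_mem (X := (⊥ : Subgroup G)) (g := t₁)
        (hox ▸ odd_order_of_mem (odd_coreCent L.d) ho) (by rw [ht₁sq]; exact one_mem _)
      exact ht₁1 (Subgroup.mem_bot.mp this)
    · exact h
  rw [hxz, ← L.t_eq_β, hLt] at hox
  have hinv : K.u * o * K.u⁻¹ = o⁻¹ := by
    have h1 : o * K.u * (o * K.u) = 1 := by rw [← hox]; exact ht₁sq
    rw [K.u_inv]
    exact eq_inv_of_mul_eq_one_right (by simpa [mul_assoc] using h1)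
  obtain ⟨k, hk⟩ := conj_translate K.u_sq (odd_order_of_mem (odd_coreCent _) ho) hinv
  set v := (o ^ k)⁻¹ with hv
  have hvU : v ∈ K.U := inv_mem (pow_mem (hOU (hLd ▸ ho)) k)
  set n₁ := v * n₀ with hn₁
  have hn₁U : n₁ ∈ Subgroup.normalizer (K.U : Set G) := mul_mem (Subgroup.le_normalizer hvU) hn₀U
  have hn₁t : n₁ * K.t * n₁⁻¹ = K.u := by
    rw [hn₁, show v * n₀ * K.t * (v * n₀)⁻¹ = v * t₁ * v⁻¹ by rw [ht₁]; group, hox, hv, inv_inv]
    exact hk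
  have hn₁d : n₁ * K.d * n₁⁻¹ = y ∨ n₁ * K.d * n₁⁻¹ = y⁻¹ := by
    rw [hn₁, show v * n₀ * K.d * (v * n₀)⁻¹ = v * (n₀ * K.d * n₀⁻¹) * v⁻¹ by group]
    rcases hn₀d with e | e <;> rw [e]
    exacts [Or.inl (conj_eq_self (hUy v hvU)), Or.inr (conj_eq_self (hUy v hvU).inv_right)]
  -- send `u` to `t` or `tu`
  set u₁ := n₁ * K.u * n₁⁻¹ with hu₁
  have hu₁u : Commute u₁ K.u := by
    have h := K.t_comm_u.symm.map (MulAut.conj n₁).toMonoidHom
    simp only [MulEquiv.toMonoidHom_eq_coe, MonoidHom.coe_coe, MulAut.conj_apply] at h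
    rwa [hn₁t] at h
  have hty : K.t * y * K.t⁻¹ = y⁻¹ :=
    K.four_R.inv_of_part hy hyu (K.part K.odd_R K.u_sq K.u_ne_one).2.2
  have hu₁y : u₁ * y * u₁⁻¹ = y⁻¹ := by
    have h : u₁ * (n₁ * K.d * n₁⁻¹) * u₁⁻¹ = (n₁ * K.d * n₁⁻¹)⁻¹ := by
      rw [hu₁, show n₁ * K.u * n₁⁻¹ * (n₁ * K.d * n₁⁻¹) * (n₁ * K.u * n₁⁻¹)⁻¹ =
        n₁ * (K.u * K.d * K.u⁻¹) * n₁⁻¹ by group, K.u_d]; group
    rcases hn₁d with e | e <;> rw [e] at h
    · exact h
    · rw [← conj_inv, inv_inj] at h; exact h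
  set s := u₁ * K.t with hs
  have hsy : Commute s y := by
    refine mul_inv_eq_iff_eq_mul.mp ?_
    rw [hs, show u₁ * K.t * y * (u₁ * K.t)⁻¹ = u₁ * (K.t * y * K.t⁻¹) * u₁⁻¹ by group, hty, ← conj_inv,
      hu₁y, inv_inv]
  have hsu : Commute s K.u := hu₁u.mul_left K.t_comm_u
  have htU : ∀ x ∈ K.U, K.t * x * K.t⁻¹ ∈ K.U := K.four_U.nt
  have hu₁U : ∀ x ∈ K.U, u₁ * x * u₁⁻¹ ∈ K.U := by
    intro x hx
    rw [hu₁, show n₁ * K.u * n₁⁻¹ * x * (n₁ * K.u * n₁⁻¹)⁻¹ =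
      n₁ * (K.u * (n₁⁻¹ * x * n₁⁻¹⁻¹) * K.u⁻¹) * n₁⁻¹ by group]
    exact mem_normalizer_conj hn₁U (K.four_U.nu _ (mem_normalizer_conj (inv_mem hn₁U) hx))
  set X := cfix K.U K.u with hX
  obtain ⟨hX9, hT9⟩ := K.cfix_U_nine (h243 K)
  obtain ⟨-, hX3, hXc⟩ := K.part K.four_U.odd K.u_sq K.u_ne_one
  have hsX : ∀ x ∈ X, s * x * s⁻¹ ∈ X := fun x hx => mem_cfix.mpr
    ⟨by rw [hs, show u₁ * K.t * x * (u₁ * K.t)⁻¹ = u₁ * (K.t * x * K.t⁻¹) * u₁⁻¹ by group]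
        exact hu₁U _ (htU x hx.1),
      (hsu.mul_left (mem_cfix.mp hx).2).mul_left hsu.inv_left⟩
  obtain ⟨w, hw, hwy⟩ : ∃ w ∈ X, w ∉ Subgroup.zpowers y := by
    by_contra hno
    push Not at hno
    have := Subgroup.card_le_of_le (show X ≤ Subgroup.zpowers y from hno)
    rw [hX9, Nat.card_zpowers, orderOf_eq_prime hy3 hy1] at this
    omega
  have inL : ∀ z, Commute z K.u → Commute z y → ∃ (i : Fin 3) (x : SL23), z = y ^ (i : ℕ) * L.β x := by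
    intro z h1 h2
    obtain ⟨i, x, h⟩ := L.cent_d (L.mem_H.mpr (hLt ▸ h1)) (hLd ▸ h2)
    exact ⟨i, x, hLd ▸ h⟩
  obtain ⟨iw, x₀, hwx⟩ := inL w (mem_cfix.mp hw).2 (hUy w hw.1)
  obtain ⟨is, xs, hsx⟩ := inL s hsu hsy
  have hcb : ∀ x, Commute (L.β x) y := fun x => hLd ▸ L.pair_β_comm_d x
  have hx₀3 : x₀ ^ 3 = 1 := by
    refine L.β_inj ?_
    have h := hX3 w hw
    rw [hwx, ((hcb x₀).symm.pow_left _).mul_pow, ← pow_mul, mul_comm (iw : ℕ) 3, pow_mul, hy3, one_pow,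
      one_mul] at h
    rw [map_pow, map_one]; exact h
  have hx₀1 : x₀ ≠ 1 := fun h => hwy (by
    rw [hwx, h, map_one, mul_one]; exact pow_mem (Subgroup.mem_zpowers _) _)
  have hcomm : Commute (xs * x₀ * xs⁻¹) x₀ := by
    have h := hXc _ (hsX w hw) w hw
    have e : s * w * s⁻¹ = y ^ (iw : ℕ) * L.β (xs * x₀ * xs⁻¹) := by
      rw [hsx, hwx, map_mul, map_mul, map_inv]
      have cy : Commute (L.β xs) (y ^ (iw : ℕ)) := (hcb xs).pow_right _
      calc y ^ (is : ℕ) * L.β xs * (y ^ (iw : ℕ) * L.β x₀) * (y ^ (is : ℕ) * L.β xs)⁻¹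
          = y ^ (is : ℕ) * (L.β xs * y ^ (iw : ℕ)) * L.β x₀ * (L.β xs)⁻¹ * (y ^ (is : ℕ))⁻¹ := by group
        _ = y ^ (is : ℕ) * y ^ (iw : ℕ) * (L.β xs * L.β x₀ * (L.β xs)⁻¹) * (y ^ (is : ℕ))⁻¹ := by
          rw [cy.eq]; group
        _ = y ^ (iw : ℕ) * (y ^ (is : ℕ) * (L.β xs * L.β x₀ * (L.β xs)⁻¹)) * (y ^ (is : ℕ))⁻¹ := by
          rw [((Commute.refl y).pow_pow (is : ℕ) (iw : ℕ)).eq]; group
        _ = _ := by
          rw [← map_inv L.β xs, ← map_mul, ← map_mul, ((hcb _).pow_right (is : ℕ)).symm.eq]; group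
    rw [e, hwx] at h
    have h2 : Commute (L.β (xs * x₀ * xs⁻¹)) (L.β x₀) := by
      have c1 : ∀ z, Commute (y ^ (iw : ℕ))⁻¹ (L.β z) := fun z => ((hcb z).pow_right _).symm.inv_left
      have hy' : ∀ z, Commute (y ^ (iw : ℕ))⁻¹ (y ^ (iw : ℕ) * L.β z) := fun z =>
        ((Commute.refl (y ^ (iw : ℕ))).inv_left).mul_right (c1 z)
      have h3 := ((hy' x₀).mul_left h)
      rw [inv_mul_cancel_left] at h3
      have h4 := ((c1 (xs * x₀ * xs⁻¹)).symm).mul_right h3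
      rwa [inv_mul_cancel_left] at h4
    unfold Commute SemiconjBy at h2 ⊢
    rw [← map_mul, ← map_mul] at h2
    exact L.β_inj h2
  obtain ⟨kx, hkx⟩ := sl_norm_line x₀ xs hx₀3 hx₀1 hcomm
  have hyX : y ∈ X := mem_cfix.mpr ⟨K.R_le_U hy, hyu⟩
  have hβ₀ : L.β x₀ ∈ X := by
    rw [show L.β x₀ = (y ^ (iw : ℕ))⁻¹ * w by rw [hwx, inv_mul_cancel_left]]
    exact mul_mem (inv_mem (pow_mem hyX _)) hw
  have hXinv : ∀ x ∈ X, K.t * x * K.t⁻¹ = x⁻¹ := fun x hx =>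
    K.four_U.inv_of_part hx.1 (mem_cfix.mp hx).2 hXc
  obtain ⟨e₀, he₀, s', hs', hu₁s⟩ : ∃ e₀ ∈ X, ∃ s' : G, (s' = K.t ∨ s' = K.u * K.t) ∧ u₁ = e₀ * s' := by
    have hu₁' : u₁ = s * K.t := by rw [hs, mul_assoc, K.t_sq, mul_one]
    refine ⟨y ^ (is : ℕ) * L.β x₀ ^ (kx : ℕ), mul_mem (pow_mem hyX _) (pow_mem hβ₀ _), ?_⟩
    rcases hkx with hkx | hkx
    · exact ⟨K.t, Or.inl rfl, by rw [hu₁', hsx, hkx, map_pow]⟩
    · refine ⟨K.u * K.t, Or.inr rfl, ?_⟩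
      rw [hu₁', hsx, hkx, map_mul, map_pow, ← L.t_eq_β, hLt]
      simp only [mul_assoc]
  have hs'sq : s' * s' = 1 := by
    rcases hs' with rfl | rfl
    · exact K.t_sq
    · rw [← K.t_comm_u.eq]; exact K.tu_sq
  have he₀inv : s' * e₀ * s'⁻¹ = e₀⁻¹ := by
    rcases hs' with rfl | rfl
    · exact hXinv _ he₀
    · rw [show K.u * K.t * e₀ * (K.u * K.t)⁻¹ = K.u * (K.t * e₀ * K.t⁻¹) * K.u⁻¹ by group, hXinv _ he₀,
        conj_eq_self ((mem_cfix.mp he₀).2.symm.inv_right)]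
  obtain ⟨k', hk'⟩ := conj_translate hs'sq (odd_order_of_cube (hX3 _ he₀)) he₀inv
  set v' := (e₀ ^ k')⁻¹ with hv'
  have hv'X : v' ∈ X := inv_mem (pow_mem he₀ _)
  set n := v' * n₁ with hn
  have hnU : n ∈ Subgroup.normalizer (K.U : Set G) := mul_mem (Subgroup.le_normalizer hv'X.1) hn₁U
  have hnt : n * K.t * n⁻¹ = K.u := by
    rw [hn, show v' * n₁ * K.t * (v' * n₁)⁻¹ = v' * (n₁ * K.t * n₁⁻¹) * v'⁻¹ by group, hn₁t,
      conj_eq_self (mem_cfix.mp hv'X).2]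
  have hnu : n * K.u * n⁻¹ = K.t ∨ n * K.u * n⁻¹ = K.u * K.t := by
    have : n * K.u * n⁻¹ = s' := by
      rw [hn, show v' * n₁ * K.u * (v' * n₁)⁻¹ = v' * u₁ * v'⁻¹ by rw [hu₁]; group, hu₁s, hv', inv_inv]
      exact hk'
    rcases hs' with rfl | rfl
    exacts [Or.inl this, Or.inr this]
  have hnu' : n * K.u * n⁻¹ = K.t := by
    refine hnu.resolve_right fun h => hy1 ?_
    set z := n * y * n⁻¹ with hz
    have hzU : z ∈ K.U := mem_normalizer_conj hnU (K.R_le_U hy)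
    have hztu : Commute z (K.t * K.u) := by
      rw [K.t_comm_u.eq, ← h]; exact hyu.map (MulAut.conj n).toMonoidHom
    have hzc : ∀ x ∈ K.U, Commute z x := by
      intro x hx
      have h1 : Commute z (n * (n⁻¹ * x * n⁻¹⁻¹) * n⁻¹) :=
        (hUy _ (mem_normalizer_conj (inv_mem hnU) hx)).symm.map (MulAut.conj n).toMonoidHom
      rwa [show n * (n⁻¹ * x * n⁻¹⁻¹) * n⁻¹ = x by group] at h1
    have hzR : z ∈ K.R := K.mem_R (K.mem_CE.mpr
      ⟨hUd z hzU, hzc _ (Subgroup.mem_sup_right (Subgroup.mem_zpowers _))⟩)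
      (odd_order_of_mem K.four_U.odd hzU)
    have := hnc z hzR hztu fun x hx => hzc x (Subgroup.mem_sup_left hx)
    rw [hz, mul_inv_eq_one, mul_eq_left] at this
    exact this
  have hntu : Commute n (K.t * K.u) := by
    refine mul_inv_eq_iff_eq_mul.mp ?_
    rw [show n * (K.t * K.u) * n⁻¹ = n * K.t * n⁻¹ * (n * K.u * n⁻¹) by group, hnt, hnu', K.t_comm_u.eq]
  -- in the frame at `tu`
  set T := cfix K.U (K.t * K.u) with hT
  obtain ⟨-, hT3, hTc⟩ := K.part K.four_U.odd K.tu_sq K.tu_ne_one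
  have FT : Four K.t (K.t * K.u) K.U :=
    ⟨K.t_sq, K.tu_sq, (Commute.refl K.t).mul_right K.t_comm_u, K.four_U.odd, K.four_U.nt, fun x hx => by
      rw [show K.t * K.u * x * (K.t * K.u)⁻¹ = K.t * (K.u * x * K.u⁻¹) * K.t⁻¹ by group]
      exact K.four_U.nt _ (K.four_U.nu x hx),
    fun x hx h1 h2 => K.four_U.triv x hx h1 (by have := h1.mul_right h2; rwa [K.t_mul_tu] at this)⟩
  have hTinv : ∀ o ∈ T, K.t * o * K.t⁻¹ = o⁻¹ := fun o ho => FT.inv_of_part ho.1 (mem_cfix.mp ho).2 hTc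
  obtain ⟨o₁, ho₁, ho₁1⟩ : ∃ o ∈ T, o ≠ 1 := by
    by_contra hno
    push Not at hno
    rw [(Subgroup.eq_bot_iff_forall T).mpr hno, Subgroup.card_bot] at hT9
    omega
  obtain ⟨M, hMt, hMu⟩ := K.exists_tu_frame (hT3 o₁ ho₁) ho₁1 (mem_cfix.mp ho₁).2 (hTinv o₁ ho₁)
  obtain ⟨X₁, Y₁, hX₁, hY₁, -, mα, mβ⟩ := sylow_shape hT9 (fun o ho =>
    M.line_of_inv (hMt ▸ (mem_cfix.mp ho).2) (hT3 o ho) (hMu ▸ hTinv o ho)) hTc
  have hnT : ∀ x ∈ T, n * x * n⁻¹ ∈ T := fun x hx => mem_cfix.mpr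
    ⟨mem_normalizer_conj hnU hx.1, (hntu.mul_left (mem_cfix.mp hx).2).mul_left hntu.inv_left⟩
  obtain ⟨a, b, hab⟩ := M.exists_pair (M.mem_H.mpr (hMt ▸ hntu))
  have hflip : M.α (a * (delta a)⁻¹) * M.β (b * (delta b)⁻¹) = M.α sZ * M.β 1 := by
    have h : n * M.u * n⁻¹ = M.t * M.u := by
      rw [hMu, hMt, hnt, mul_assoc, ← K.t_comm_u.eq, ← mul_assoc, K.t_sq, one_mul]
    have e : M.α a * M.β b * M.u * (M.α a * M.β b)⁻¹ =
        M.α (a * (delta a)⁻¹) * M.β (b * (delta b)⁻¹) * M.u := by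
      rw [M.pair_inv, mul_assoc, M.u_pair, ← mul_assoc, M.pair_mul, map_inv delta, map_inv delta]
    refine mul_right_cancel (b := M.u) ?_
    rw [map_one, mul_one, show M.α sZ = M.t from rfl, ← e, ← h]
    rcases hab with e | e <;> rw [e] <;> group
  have noFlip : ∀ x : SL23, (x = sU ∨ x = sL) → ∀ a : SL23,
      (Commute (a * x * a⁻¹) x ∨ Commute (a * x⁻¹ * a⁻¹) x) → a * (delta a)⁻¹ ≠ sZ := by
    rintro x (rfl | rfl) a (h | h)
    exacts [(line_delta a).1 (Or.inl h), (line_delta a).2 (Or.inl h), (line_delta a).1 (Or.inr h),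
      (line_delta a).2 (Or.inr h)]
  have dline : ∀ x : SL23, (x = sU ∨ x = sL) → delta x = x⁻¹ := by
    rintro x (rfl | rfl)
    exacts [delta_sU, delta_sL]
  have hαa : Commute (a * X₁ * a⁻¹) X₁ ∨ Commute (a * X₁⁻¹ * a⁻¹) X₁ := by
    have h := hTc _ (hnT _ mα) _ mα
    have inj : ∀ p : SL23, Commute (M.α p) (M.α X₁) → Commute p X₁ := fun p hp => by
      unfold Commute SemiconjBy at hp ⊢
      rw [← map_mul, ← map_mul] at hp
      exact M.α_inj hp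
    have conjα : ∀ x : SL23, M.α a * M.β b * M.α x * (M.α a * M.β b)⁻¹ = M.α (a * x * a⁻¹) := fun x => by
      rw [mul_assoc (M.α a), ← (M.comm x b).eq, map_mul, map_mul, map_inv]; group
    rcases hab with e | e <;> rw [e] at h
    · rw [conjα] at h; exact Or.inl (inj _ h)
    · rw [show M.α a * M.β b * M.u * M.α X₁ * (M.α a * M.β b * M.u)⁻¹ =
        M.α a * M.β b * (M.u * M.α X₁ * M.u⁻¹) * (M.α a * M.β b)⁻¹ by group, M.u_conj_α, dline X₁ hX₁,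
        conjα] at h
      exact Or.inr (inj _ h)
  have hβb : Commute (b * Y₁ * b⁻¹) Y₁ ∨ Commute (b * Y₁⁻¹ * b⁻¹) Y₁ := by
    have h := hTc _ (hnT _ mβ) _ mβ
    have inj : ∀ p : SL23, Commute (M.β p) (M.β Y₁) → Commute p Y₁ := fun p hp => by
      unfold Commute SemiconjBy at hp ⊢
      rw [← map_mul, ← map_mul] at hp
      exact M.β_inj hp
    have conjβ : ∀ x : SL23, M.α a * M.β b * M.β x * (M.α a * M.β b)⁻¹ = M.β (b * x * b⁻¹) := fun x => by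
      calc M.α a * M.β b * M.β x * (M.α a * M.β b)⁻¹ = M.α a * M.β (b * x * b⁻¹) * (M.α a)⁻¹ := by
            rw [map_mul, map_mul, map_inv]; group
        _ = _ := by rw [(M.comm a _).eq, mul_inv_cancel_right]
    rcases hab with e | e <;> rw [e] at h
    · rw [conjβ] at h; exact Or.inl (inj _ h)
    · rw [show M.α a * M.β b * M.u * M.β Y₁ * (M.α a * M.β b * M.u)⁻¹ =
        M.α a * M.β b * (M.u * M.β Y₁ * M.u⁻¹) * (M.α a * M.β b)⁻¹ by group, M.u_conj_β, dline Y₁ hY₁,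
        conjβ] at h
      exact Or.inr (inj _ h)
  rcases M.pair_eq hflip with ⟨h1, -⟩ | ⟨-, h2⟩
  · exact noFlip X₁ hX₁ a hαa h1
  · exact noFlip Y₁ hY₁ b hβb (by rw [h2, one_mul])

end Hyp

end CfsgLib.GTwoInvol
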