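import Cfsg.Agent.Lib.GTwoInvol.Base

/-!
The fixed groups of `u` and of `tu` in `O(C(E))` do not both consist of central elements of `O(C(d))`.
-/

set_option autoImplicit false
set_option linter.style.haveILetI false
set_option linter.unusedSectionVars false

namespace CfsgLib.GTwoInvol

open CfsgLib.GTwoTwoLocal (coreCent conj_mem_coreCent odd_coreCent coreCent_le mem_coreCent_self)

variable {G : Type*} [Group G] [Finite G]

theorem conj_mem_cent {s a x : G} (hs : s * a * s⁻¹ = a ∨ s * a * s⁻¹ = a⁻¹)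
    (hx : x ∈ Subgroup.centralizer ({a} : Set G)) : s * x * s⁻¹ ∈ Subgroup.centralizer ({a} : Set G) := by
  have h : Commute (s * x * s⁻¹) (s * a * s⁻¹) :=
    (show Commute x a from Subgroup.mem_centralizer_singleton_iff.mp hx).map (MulAut.conj s).toMonoidHom
  refine Subgroup.mem_centralizer_singleton_iff.mpr ?_
  rcases hs with e | e <;> rw [e] at h
  exacts [h.eq, (Commute.inv_right_iff.mp h).eq]

theorem card_zpowers_three {a : G} (h3 : a ^ 3 = 1) (h1 : a ≠ 1) : Nat.card (Subgroup.zpowers a) = 3 := by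
  haveI : Fact (Nat.Prime 3) := ⟨Nat.prime_three⟩
  rw [Nat.card_zpowers, orderOf_eq_prime h3 h1]

namespace Hyp

variable (K : Hyp G)

theorem not_both (h243 : ∀ L : Hyp G, Nat.card (coreCent L.d) = 243)
    (hu : Nat.card (cfix K.R K.u) = 3) (htu : Nat.card (cfix K.R (K.t * K.u)) = 3)
    {y c : G} (hy : y ∈ cfix K.R K.u) (hy1 : y ≠ 1) (hc : c ∈ cfix K.R (K.t * K.u)) (hc1 : c ≠ 1)
    (hL : ∃ L : Hyp G, L.t = K.u ∧ L.d = y)
    (hcy : ∀ x ∈ coreCent K.d, Commute y x) (hcc : ∀ x ∈ coreCent K.d, Commute c x) : False := by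
  obtain ⟨L, hLt, hLd⟩ := hL
  -- notation
  set O := coreCent K.d with hO
  set Y := coreCent y with hY
  have hyR : y ∈ K.R := (mem_cfix.mp hy).1
  have hyu : Commute y K.u := (mem_cfix.mp hy).2
  have hcR : c ∈ K.R := (mem_cfix.mp hc).1
  have hctu : Commute c (K.t * K.u) := (mem_cfix.mp hc).2
  have hy3 : y ^ 3 = 1 := (K.part K.odd_R K.u_sq K.u_ne_one).2.1 y hy
  have hc3 : c ^ 3 = 1 := (K.part K.odd_R K.tu_sq K.tu_ne_one).2.1 c hc
  -- the four group `t, tu` on `O` and on `R`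
  have FO : Four K.t (K.t * K.u) O :=
    ⟨K.t_sq, K.tu_sq, (Commute.refl K.t).mul_right K.t_comm_u, odd_coreCent _, K.four_d.nt,
      fun x hx => by
        rw [show K.t * K.u * x * (K.t * K.u)⁻¹ = K.t * (K.u * x * K.u⁻¹) * K.t⁻¹ by group]
        exact K.four_d.nt _ (K.four_d.nu x hx),
      fun x hx h1 h2 => K.four_d.triv x hx h1 (by
        have := h1.mul_right h2
        rwa [K.t_mul_tu] at this)⟩
  have FR : Four K.t (K.t * K.u) K.R :=
    ⟨K.t_sq, K.tu_sq, (Commute.refl K.t).mul_right K.t_comm_u, K.odd_R, K.four_R.nt,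
      fun x hx => by
        rw [show K.t * K.u * x * (K.t * K.u)⁻¹ = K.t * (K.u * x * K.u⁻¹) * K.t⁻¹ by group]
        exact K.four_R.nt _ (K.four_R.nu x hx),
      fun x hx h1 h2 => K.four_R.triv x hx h1 (by
        have := h1.mul_right h2
        rwa [K.t_mul_tu] at this)⟩
  set T := cfix O (K.t * K.u) with hT
  have hparts := K.card_parts_d
  rw [h243 K] at hparts
  have hOu : Nat.card (cfix O K.u) = 9 := by
    have h9 := Nat.le_of_dvd (by norm_num) (K.part (odd_coreCent K.d) K.u_sq K.u_ne_one).1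
    have h := hparts.1
    interval_cases hn : Nat.card (cfix O K.u) <;> omega
  have hT9 : Nat.card T = 9 := hparts.2 ▸ hOu
  have hTinv : ∀ x ∈ T, K.t * x * K.t⁻¹ = x⁻¹ := fun x hx =>
    FO.inv_of_part (mem_cfix.mp hx).1 (mem_cfix.mp hx).2 (K.part FO.odd K.tu_sq K.tu_ne_one).2.2
  have hTu : ∀ x ∈ T, K.u * x * K.u⁻¹ = x⁻¹ := fun x hx => K.u_inverts (mem_cfix.mp hx).2 (hTinv x hx)
  have hct : K.t * c * K.t⁻¹ = c⁻¹ :=
    FR.inv_of_part hcR hctu (K.part FR.odd K.tu_sq K.tu_ne_one).2.2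
  have hcu : K.u * c * K.u⁻¹ = c⁻¹ := K.u_inverts hctu hct
  have hcO : c ∈ O := K.mem_core_of_inverted (K.R_comm_d hcR) (odd_order_of_cube hc3) hct
  have hyt : K.t * y * K.t⁻¹ = y⁻¹ :=
    K.four_R.inv_of_part hyR hyu (K.part K.odd_R K.u_sq K.u_ne_one).2.2
  -- the core of `C(y)`
  have hinY : ∀ x : G, Commute x y → Odd (orderOf x) → K.u * x * K.u⁻¹ = x⁻¹ → x ∈ Y := by
    intro x h1 h2 h3
    rw [hY, ← hLd]
    exact L.mem_core_of_inverted (hLd.symm ▸ h1) h2 (hLt.symm ▸ h3)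
  have hdY : K.d ∈ Y := hinY _ (K.R_comm_d hyR).symm (odd_order_of_cube K.d_cube) K.u_d
  have heY : K.e ∈ Y := hinY _ (K.R_comm_e hyR).symm (odd_order_of_cube K.e_cube) K.u_e
  have hEY : K.E ≤ Y := sup_le (Subgroup.zpowers_le.mpr hdY) (Subgroup.zpowers_le.mpr heY)
  have hTY : T ≤ Y := fun x hx =>
    hinY x (hcy x (mem_cfix.mp hx).1).symm (odd_order_of_mem (odd_coreCent _) (mem_cfix.mp hx).1) (hTu x hx)
  have hcY : c ∈ Y := hTY (mem_cfix.mpr ⟨hcO, hctu⟩)
  have hYu : cfix Y K.u = Subgroup.zpowers y := by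
    have h := L.cfix_d_t
    rwa [hLt, hLd] at h
  have FY : Four K.t K.u Y :=
    ⟨K.t_sq, K.u_sq, K.t_comm_u, odd_coreCent _, fun x hx => conj_mem_coreCent (Or.inr hyt) hx,
      fun x hx => conj_mem_coreCent (Or.inl (conj_eq_self hyu.symm)) hx, fun x hx h1 h2 => by
        have hxy : x ∈ Subgroup.zpowers y := hYu ▸ mem_cfix.mpr ⟨hx, h2⟩
        obtain ⟨k, rfl⟩ := Subgroup.mem_zpowers_iff.mp hxy
        have h3 : K.t * y ^ k * K.t⁻¹ = (y ^ k)⁻¹ := by rw [← conj_zpow, hyt, inv_zpow]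
        rw [h1.symm.eq, mul_inv_cancel_right, eq_inv_iff_mul_eq_one] at h3
        have h6 : (y ^ k) ^ 3 = 1 := by
          rw [← zpow_natCast, ← zpow_mul, mul_comm, zpow_mul, zpow_natCast, hy3, one_zpow]
        rwa [pow_succ, pow_two, h3, one_mul] at h6⟩
  have hYt : cfix Y K.t = K.E :=
    (Subgroup.eq_of_le_of_card_ge (fun x hx => mem_cfix.mpr ⟨hEY hx, (K.E_comm hx).2.2⟩)
      (by rw [K.card_E_eq]; exact Nat.le_of_dvd (by norm_num) (K.part FY.odd K.t_sq K.t_ne_one).1)).symm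
  have hYtu : cfix Y (K.t * K.u) = T :=
    (Subgroup.eq_of_le_of_card_ge (fun x hx => mem_cfix.mpr ⟨hTY hx, (mem_cfix.mp hx).2⟩)
      (by rw [hT9]; exact Nat.le_of_dvd (by norm_num) (K.part FY.odd K.tu_sq K.tu_ne_one).1)).symm
  -- central elements of `Y`
  have central : ∀ a : G, (K.t * a * K.t⁻¹ = a ∨ K.t * a * K.t⁻¹ = a⁻¹) →
      (K.u * a * K.u⁻¹ = a ∨ K.u * a * K.u⁻¹ = a⁻¹) → Commute a K.d → Commute a K.e → Commute a y →
      (∀ x ∈ T, Commute a x) → ∀ x ∈ Y, Commute x a := by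
    intro a hat hau hd he hya hTa
    have h : Y ⊓ Subgroup.centralizer ({a} : Set G) = Y := by
      refine FY.eq_of_parts inf_le_left (fun x hx => ⟨FY.nt x hx.1, conj_mem_cent hat hx.2⟩)
        (fun x hx => ⟨FY.nu x hx.1, conj_mem_cent hau hx.2⟩) ?_ ?_ ?_
      · rw [hYt]
        exact le_inf hEY (sup_le (Subgroup.zpowers_le.mpr (Subgroup.mem_centralizer_singleton_iff.mpr hd.symm.eq))
          (Subgroup.zpowers_le.mpr (Subgroup.mem_centralizer_singleton_iff.mpr he.symm.eq)))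
      · rw [hYu]
        exact le_inf (Subgroup.zpowers_le.mpr (mem_coreCent_self hy3))
          (Subgroup.zpowers_le.mpr (Subgroup.mem_centralizer_singleton_iff.mpr hya.symm.eq))
      · rw [hYtu]
        exact le_inf hTY fun x hx => Subgroup.mem_centralizer_singleton_iff.mpr (hTa x hx).symm.eq
    intro x hx
    exact Subgroup.mem_centralizer_singleton_iff.mp (h.ge hx).2
  have hdC : ∀ x ∈ Y, Commute x K.d :=
    central K.d (Or.inl (conj_eq_self K.t_comm_d)) (Or.inr K.u_d) (Commute.refl _) K.d_comm_e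
      (K.R_comm_d hyR).symm
      (fun x hx => (Subgroup.mem_centralizer_singleton_iff.mp (coreCent_le _ (mem_cfix.mp hx).1) :
        Commute x K.d).symm)
  set Z := Y ⊓ Subgroup.centralizer (Y : Set G) with hZ
  have hdZ : K.d ∈ Z := ⟨hdY, Subgroup.mem_centralizer_iff.mpr fun x hx => (hdC x hx).eq⟩
  have hZc : ∀ s : G, (∀ x ∈ Y, s⁻¹ * x * s ∈ Y) → (∀ x ∈ Y, s * x * s⁻¹ ∈ Y) →
      ∀ x ∈ Z, s * x * s⁻¹ ∈ Z := by
    intro s h1 h2 x hx
    refine ⟨h2 x hx.1, Subgroup.mem_centralizer_iff.mpr fun z hz => ?_⟩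
    have h := Subgroup.mem_centralizer_iff.mp hx.2 _ (h1 z hz)
    calc z * (s * x * s⁻¹) = s * (s⁻¹ * z * s * x) * s⁻¹ := by group
      _ = s * (x * (s⁻¹ * z * s)) * s⁻¹ := by rw [h]
      _ = s * x * s⁻¹ * z := by group
  have hZt := hZc K.t (fun x hx => by simpa [K.t_inv] using FY.nt x hx) FY.nt
  have hZu := hZc K.u (fun x hx => by simpa [K.u_inv] using FY.nu x hx) FY.nu
  have FZ : Four K.t K.u Z := FY.mono inf_le_left hZt hZu
  -- an element of `C(u)` in `O` outside `⟨y⟩`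
  obtain ⟨w, hw, hwy⟩ : ∃ w ∈ cfix O K.u, w ∉ Subgroup.zpowers y := by
    by_contra! h
    have := Nat.le_of_dvd Nat.card_pos (Subgroup.card_dvd_of_le h)
    rw [hOu, card_zpowers_three hy3 hy1] at this
    omega
  have hwt : K.t * w * K.t⁻¹ = w⁻¹ :=
    K.four_d.inv_of_part (mem_cfix.mp hw).1 (mem_cfix.mp hw).2 (K.part (odd_coreCent _) K.u_sq K.u_ne_one).2.2
  -- the fixed groups in `Z` centralise `w`
  have hwd : Commute w K.d := Subgroup.mem_centralizer_singleton_iff.mp (coreCent_le _ (mem_cfix.mp hw).1)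
  have hwc : Commute w c := (hcc w (mem_cfix.mp hw).1).symm
  have hwyc : Commute w y := (hcy w (mem_cfix.mp hw).1).symm
  have hne : ¬ T ≤ Subgroup.centralizer ({K.e} : Set G) := by
    intro h
    have hle : T ≤ cfix K.R (K.t * K.u) := fun x hx => by
      refine mem_cfix.mpr ⟨K.mem_R (K.mem_CE.mpr ⟨Subgroup.mem_centralizer_singleton_iff.mp
        (coreCent_le _ (mem_cfix.mp hx).1), Subgroup.mem_centralizer_singleton_iff.mp (h hx)⟩)
        (odd_order_of_mem (odd_coreCent _) (mem_cfix.mp hx).1), (mem_cfix.mp hx).2⟩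
    have := Nat.le_of_dvd Nat.card_pos (Subgroup.card_dvd_of_le hle)
    rw [hT9, htu] at this
    omega
  have hZle : Z ≤ Subgroup.centralizer ({w} : Set G) := by
    have h : Z ⊓ Subgroup.centralizer ({w} : Set G) = Z := by
      refine FZ.eq_of_parts inf_le_left (fun x hx => ⟨hZt x hx.1, conj_mem_cent (Or.inr hwt) hx.2⟩)
        (fun x hx => ⟨hZu x hx.1, conj_mem_cent (Or.inl (conj_eq_self (mem_cfix.mp hw).2.symm)) hx.2⟩)
        ?_ ?_ ?_
      · intro a ha
        refine ⟨(mem_cfix.mp ha).1, ?_⟩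
        have haE : a ∈ K.E := hYt ▸ mem_cfix.mpr ⟨(mem_cfix.mp ha).1.1, (mem_cfix.mp ha).2⟩
        obtain ⟨i, j, rfl⟩ := K.mem_E_iff.mp haE
        rw [map_pow, map_pow] at ha ⊢
        change K.d ^ (i : ℕ) * K.e ^ (j : ℕ) ∈ cfix Z K.t at ha
        change K.d ^ (i : ℕ) * K.e ^ (j : ℕ) ∈ Subgroup.centralizer ({w} : Set G)
        have hj : (j : ℕ) = 0 := by
          by_contra hj
          refine hne fun x hx => ?_
          have h1 : Commute x (K.d ^ (i : ℕ) * K.e ^ (j : ℕ)) :=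
            Subgroup.mem_centralizer_iff.mp (mem_cfix.mp ha).1.2 x (hTY hx)
          have hxd : Commute x K.d :=
            Subgroup.mem_centralizer_singleton_iff.mp (coreCent_le _ (mem_cfix.mp hx).1)
          have h2 : Commute x (K.e ^ (j : ℕ)) := by
            have := (hxd.pow_right (i : ℕ)).inv_right.mul_right h1
            rwa [inv_mul_cancel_left] at this
          have hj2 : (j : ℕ) = 1 ∨ (j : ℕ) = 2 := by have := j.2; omega
          refine Subgroup.mem_centralizer_singleton_iff.mpr ?_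
          rcases hj2 with hj2 | hj2 <;> rw [hj2] at h2
          · rw [pow_one] at h2; exact h2.eq
          · have := h2.mul_right h2
            rw [← pow_add, show 2 + 2 = 3 + 1 from rfl, pow_succ, K.e_cube, one_mul] at this
            exact this.eq
        rw [hj, pow_zero, mul_one]
        exact Subgroup.mem_centralizer_singleton_iff.mpr (hwd.symm.pow_left _).eq
      · intro a ha
        refine ⟨(mem_cfix.mp ha).1, ?_⟩
        have hay : a ∈ Subgroup.zpowers y := hYu ▸ mem_cfix.mpr ⟨(mem_cfix.mp ha).1.1, (mem_cfix.mp ha).2⟩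
        exact (Subgroup.zpowers_le.mpr (Subgroup.mem_centralizer_singleton_iff.mpr hwyc.symm.eq)) hay
      · intro a ha
        refine ⟨(mem_cfix.mp ha).1, ?_⟩
        have haT : a ∈ T := hYtu ▸ mem_cfix.mpr ⟨(mem_cfix.mp ha).1.1, (mem_cfix.mp ha).2⟩
        have hae : Commute K.e a := Subgroup.mem_centralizer_iff.mp (mem_cfix.mp ha).1.2 K.e heY
        have haR : a ∈ cfix K.R (K.t * K.u) := mem_cfix.mpr ⟨K.mem_R (K.mem_CE.mpr
          ⟨Subgroup.mem_centralizer_singleton_iff.mp (coreCent_le _ (mem_cfix.mp haT).1), hae.symm⟩)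
          (odd_order_of_mem (odd_coreCent _) (mem_cfix.mp haT).1), (mem_cfix.mp ha).2⟩
        have heq : Subgroup.zpowers c = cfix K.R (K.t * K.u) :=
          Subgroup.eq_of_le_of_card_ge (Subgroup.zpowers_le.mpr hc) (by rw [htu, card_zpowers_three hc3 hc1])
        exact (Subgroup.zpowers_le.mpr (Subgroup.mem_centralizer_singleton_iff.mpr hwc.symm.eq)) (heq ▸ haR)
    exact fun x hx => (h.ge hx).2
  -- the component in the second factor of the frame at `u`
  obtain ⟨i, x, hwx⟩ := L.cent_d (g := w) (L.mem_H.mpr (hLt.symm ▸ (mem_cfix.mp hw).2)) (hLd.symm ▸ hwyc)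
  rw [hLd] at hwx
  have hβy : ∀ q : SL23, Commute (L.β q) y := fun q => hLd ▸ L.pair_β_comm_d q
  have hx3 : x ^ 3 = 1 := by
    have hw3 := (K.part (odd_coreCent K.d) K.u_sq K.u_ne_one).2.1 w hw
    rw [hwx, (((hβy x).pow_right (i : ℕ)).symm).mul_pow, ← pow_mul, mul_comm (i : ℕ), pow_mul, hy3, one_pow,
      one_mul, ← map_pow] at hw3
    exact L.β_inj (hw3.trans (map_one L.β).symm)
  have hx1 : x ≠ 1 := fun h => hwy (by
    rw [hwx, h, map_one, mul_one]
    exact pow_mem (Subgroup.mem_zpowers _) _)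
  have hxZ : Z ≤ Subgroup.centralizer ({L.β x} : Set G) := fun z hz => by
    have h1 : Commute z w := Subgroup.mem_centralizer_singleton_iff.mp (hZle hz)
    have h2 : Commute z y := Subgroup.mem_centralizer_singleton_iff.mp (coreCent_le _ hz.1)
    have h3 := ((h2.pow_right (i : ℕ)).inv_right).mul_right h1
    rw [hwx, inv_mul_cancel_left] at h3
    exact Subgroup.mem_centralizer_singleton_iff.mpr h3.eq
  obtain ⟨q, hq⟩ := fix_grows x hx3 hx1
  have hqZ : Z ≤ Subgroup.centralizer ({L.β (q * x * q⁻¹)} : Set G) := fun z hz => by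
    have hz' : (L.β q)⁻¹ * z * L.β q ∈ Z := by
      have := hZc (L.β q)⁻¹
        (fun v hv => by rw [inv_inv]; exact conj_mem_coreCent (Or.inl (conj_eq_self (hβy q))) hv)
        (fun v hv => conj_mem_coreCent (Or.inl (conj_eq_self (hβy q).inv_left)) hv) z hz
      rwa [inv_inv] at this
    have h : Commute (L.β q * ((L.β q)⁻¹ * z * L.β q) * (L.β q)⁻¹) (L.β q * L.β x * (L.β q)⁻¹) :=
      (show Commute ((L.β q)⁻¹ * z * L.β q) (L.β x) from
        Subgroup.mem_centralizer_singleton_iff.mp (hxZ hz')).map (MulAut.conj (L.β q)).toMonoidHom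
    rw [show L.β q * ((L.β q)⁻¹ * z * L.β q) * (L.β q)⁻¹ = z by group, ← map_inv, ← map_mul, ← map_mul] at h
    exact Subgroup.mem_centralizer_singleton_iff.mpr h.eq
  have hd' : Commute K.d (L.β (x * (q * x * q⁻¹))) := by
    rw [map_mul]
    exact (show Commute K.d (L.β x) from Subgroup.mem_centralizer_singleton_iff.mp (hxZ hdZ)).mul_right
      (show Commute K.d (L.β (q * x * q⁻¹)) from Subgroup.mem_centralizer_singleton_iff.mp (hqZ hdZ))
  have hdu : Commute K.d K.u := by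
    rw [← hLt, L.t_eq_β]
    rcases hq with h | h <;> rw [← h, map_pow] <;> exact hd'.pow_right _
  have h := K.u_d
  rw [hdu.symm.eq, mul_inv_cancel_right, eq_inv_iff_mul_eq_one] at h
  have h3 := K.d_cube
  rw [pow_succ, pow_two, h, one_mul] at h3
  exact K.d_ne h3

end Hyp

end CfsgLib.GTwoInvol
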