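import Cfsg.Agent.Lib.GTwoInvol.Base
import Cfsg.Agent.Lib.GTwoInvol.FixE

/-!
The parts of `C(E)` when `|O(C(d))| = 243`: both of order three.
-/

set_option autoImplicit false
set_option linter.style.haveILetI false
set_option linter.unusedSectionVars false

namespace CfsgLib.GTwoInvol

open CfsgLib.GTwoTwoLocal (coreCent conj_mem_coreCent odd_coreCent coreCent_le mem_coreCent_self
  mem_normalizer_coreCent)

variable {G : Type*} [Group G] [Finite G]

namespace Hyp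

variable (K : Hyp G)

/-- The fixed points at `tu` of the core normalise `O(C(E))` when it has no fixed point there. -/
theorem T_normalizes (h : Nat.card (coreCent K.d) = 243) (hb : cfix K.R (K.t * K.u) = ⊥) {v : G}
    (hv : v ∈ cfix (coreCent K.d) (K.t * K.u)) : v ∈ Subgroup.normalizer (K.R : Set G) := by
  set F := coreCent K.d ⊓ Subgroup.centralizer ({K.e} : Set G) with hF
  have hFR : F ≤ K.R := by rw [hF, ← K.R_inf_core]; exact inf_le_left
  have hFb : cfix F (K.t * K.u) = ⊥ := le_bot_iff.mp (hb ▸ inf_le_inf_right _ hFR)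
  have hcm := K.comm_mem_cent_e h hFb hv.1 (mem_cfix.mp hv).2
  refine CfsgLib.SymNineThree.mem_normalizer_of_le _ fun g hg => ?_
  obtain ⟨o, ho, k, rfl⟩ := K.mem_U.mp (K.R_le_U hg)
  have hdR : Subgroup.zpowers K.d ≤ K.R := Subgroup.zpowers_le.mpr (K.E_le_R K.d_mem_E)
  have hoR : o ∈ K.R := by
    simpa using mul_mem hg (inv_mem (pow_mem (K.E_le_R K.e_mem_E) (k : ℕ)))
  have h1 : v * o * v⁻¹ ∈ K.R := by
    rw [show v * o * v⁻¹ = v * o * v⁻¹ * o⁻¹ * o by group]
    exact mul_mem (hdR (K.comm_core_d hv.1 ho)) hoR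
  have h2 : v * K.e * v⁻¹ ∈ K.R := by
    rw [show v * K.e * v⁻¹ = (K.e * v * K.e⁻¹ * v⁻¹)⁻¹ * K.e by group]
    exact mul_mem (inv_mem (hFR hcm)) (K.E_le_R K.e_mem_E)
  rw [show v * (o * K.e ^ (k : ℕ)) * v⁻¹ = v * o * v⁻¹ * (v * K.e * v⁻¹) ^ (k : ℕ) by rw [conj_pow]; group]
  exact mul_mem h1 (pow_mem h2 _)

theorem inv_tu_d {v : G} (hv : v ∈ cfix (coreCent K.d) (K.t * K.u)) : K.t * v * K.t⁻¹ = v⁻¹ :=
  K.twist.four_d.inv_of_part hv.1 (mem_cfix.mp hv).2 (K.part (odd_coreCent _) K.tu_sq K.tu_ne_one).2.2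

/-- `C(E)` has fixed points at both involutions. -/
theorem part_tu_ne_bot (h243 : ∀ L : Hyp G, Nat.card (coreCent L.d) = 243) :
    cfix K.R (K.t * K.u) ≠ ⊥ := by
  intro hb
  have hcard : ∀ L : Hyp G, Nat.card (cfix (coreCent L.d) (L.t * L.u)) = 9 := by
    intro L
    obtain ⟨h1, h2⟩ := L.card_parts_d
    rw [h243 L] at h1
    rw [← h2]
    nlinarith
  have hswap : K.swap.t * K.swap.u = K.t * K.u := by rw [K.t_swap]; rfl
  have hbs : cfix K.swap.R (K.swap.t * K.swap.u) = ⊥ := by rw [hswap, K.R_swap]; exact hb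
  set T₁ := cfix (coreCent K.d) (K.t * K.u) with hT₁
  set T₂ := cfix (coreCent K.e) (K.t * K.u) with hT₂
  have p₁ := K.part (odd_coreCent K.d) K.tu_sq K.tu_ne_one
  have p₂ := K.part (odd_coreCent K.e) K.tu_sq K.tu_ne_one
  refine K.not_disjoint K.cfix_R_t (hcard K) (T₂ := T₂) ?_ ?_ ?_ p₁.2.2 p₂.2.2 ?_
  · have := hcard K.swap
    rwa [hswap, K.d_swap] at this
  · intro o ho
    exact ⟨K.T_normalizes (h243 K) hb ho, p₁.2.1 o ho, (mem_cfix.mp ho).2, K.inv_tu_d ho⟩
  · intro o ho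
    have ho' : o ∈ cfix (coreCent K.swap.d) (K.swap.t * K.swap.u) := by rw [hswap]; exact ho
    have hn := K.swap.T_normalizes (h243 _) hbs ho'
    have hi := K.swap.inv_tu_d ho'
    rw [K.R_swap] at hn
    rw [K.t_swap] at hi
    exact ⟨hn, p₂.2.1 o ho, (mem_cfix.mp ho).2, hi⟩
  · refine (Subgroup.eq_bot_iff_forall _).mpr fun x hx => ?_
    obtain ⟨h1, h2⟩ := Subgroup.mem_inf.mp hx
    refine Subgroup.mem_bot.mp (hb ▸ mem_cfix.mpr ⟨K.mem_R (K.mem_CE.mpr
      ⟨Subgroup.mem_centralizer_singleton_iff.mp (coreCent_le _ h1.1),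
       Subgroup.mem_centralizer_singleton_iff.mp (coreCent_le _ h2.1)⟩)
      (odd_order_of_mem (odd_coreCent _) h1.1), (mem_cfix.mp h1).2⟩)

/-- Both parts have order three. -/
theorem parts_nine (h243 : ∀ L : Hyp G, Nat.card (coreCent L.d) = 243) :
    Nat.card (cfix K.R K.u) = 3 ∧ Nat.card (cfix K.R (K.t * K.u)) = 3 := by
  have hle := K.card_cent_e_sq_le
  have hge := K.card_cent_e_ge (h243 K)
  rw [h243 K] at hle
  have hR := K.card_R_d
  rw [K.card_R_parts] at hR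
  have hF : Nat.card ↥(coreCent K.d ⊓ Subgroup.centralizer ({K.e} : Set G)) = 27 := by nlinarith
  rw [hF] at hR
  have hu := (K.part K.odd_R K.u_sq K.u_ne_one).1
  have htu := (K.part K.odd_R K.tu_sq K.tu_ne_one).1
  have h2 : Nat.card (cfix K.R (K.t * K.u)) ≠ 1 := fun e =>
    K.part_tu_ne_bot h243 (Subgroup.card_eq_one.mp e)
  have h1 : Nat.card (cfix K.R K.u) ≠ 1 := fun e =>
    K.twist.part_tu_ne_bot h243 (by
      rw [show K.twist.t * K.twist.u = K.u from K.t_mul_tu]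
      exact Subgroup.card_eq_one.mp e)
  have hu' : Nat.card (cfix K.R K.u) ≤ 9 := Nat.le_of_dvd (by norm_num) hu
  have htu' : Nat.card (cfix K.R (K.t * K.u)) ≤ 9 := Nat.le_of_dvd (by norm_num) htu
  generalize Nat.card (cfix K.R K.u) = a at *
  generalize Nat.card (cfix K.R (K.t * K.u)) = b at *
  interval_cases a <;> interval_cases b <;> omega

end Hyp

end CfsgLib.GTwoInvol
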