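import Cfsg.Agent.Lib.GTwoInvol.Local
import Cfsg.Agent.Lib.GTwoTwoLocal.Parabolic
import Cfsg.Agent.Lib.GTwoThreeLocal.Recognition

/-!
The two parabolics from two frames, and the identification.
-/

set_option autoImplicit false
set_option linter.style.haveILetI false

namespace CfsgLib.GTwoInvol

open Cfsg CfsgLib.GTwoTwoLocal
open scoped commutatorElement

theorem sU_sL_ne : sU * sL ≠ sL * sU := by decide +kernel

variable {G : Type*} [Group G] [Finite G]

namespace Hyp

variable (K : Hyp G)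

/-- The core is large and not abelian. -/
structure Big : Prop where
  card : Nat.card (coreCent K.d) = 243
  centre : Nat.card ↥(coreCent K.d ⊓ Subgroup.centralizer (coreCent K.d : Set G)) = 27
  nonab : ∃ a ∈ coreCent K.d, ∃ b ∈ coreCent K.d, a * b ≠ b * a

theorem derived_eq (h : K.Big) : ⁅coreCent K.d, coreCent K.d⁆ = Subgroup.zpowers K.d := by
  haveI : Fact (Nat.Prime 3) := ⟨Nat.prime_three⟩
  have hle : ⁅coreCent K.d, coreCent K.d⁆ ≤ Subgroup.zpowers K.d := by
    rw [Subgroup.commutator_le]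
    intro a ha b hb
    rw [commutatorElement_def]
    exact K.comm_core_d ha hb
  refine le_antisymm hle ?_
  obtain ⟨a, ha, b, hb, hab⟩ := h.nonab
  have hc : ⁅a, b⁆ ∈ ⁅coreCent K.d, coreCent K.d⁆ := Subgroup.commutator_mem_commutator ha hb
  have hne : ⁅a, b⁆ ≠ 1 := fun e => hab (commutatorElement_eq_one_iff_mul_comm.1 e)
  obtain ⟨k, hk⟩ := Subgroup.mem_zpowers_iff.1 (hle hc)
  rw [Subgroup.zpowers_le]
  have hz : (⟨K.d, Subgroup.mem_zpowers _⟩ : Subgroup.zpowers K.d) ∈
      Subgroup.zpowers (⟨⁅a, b⁆, hle hc⟩ : Subgroup.zpowers K.d) :=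
    mem_zpowers_of_prime_card (p := 3) (by rw [Nat.card_zpowers, orderOf_eq_prime K.d_cube K.d_ne])
      (fun e => hne (congrArg Subtype.val e))
  obtain ⟨n, hn⟩ := Subgroup.mem_zpowers_iff.1 hz
  have hm := zpow_mem hc n
  rwa [show ⁅a, b⁆ ^ n = K.d from congrArg Subtype.val hn] at hm

theorem par (h : K.Big) : Par K.d K.t K.u K.β.range where
  cube := K.d_cube
  ne := K.d_ne
  t_sq := K.t_sq
  card_core := h.card
  fix_t := K.core_d_inf_cent
  card_centre := h.centre
  derived := K.derived_eq h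
  S_le := by
    rintro _ ⟨y, rfl⟩
    rw [Subgroup.mem_centralizer_iff]
    simp only [Set.mem_insert_iff, Set.mem_singleton_iff, forall_eq_or_imp, forall_eq]
    exact ⟨(K.t_comm_β y).eq, (K.comm sU y).eq⟩
  card_S := by
    rw [← Nat.card_congr (MonoidHom.ofInjective K.β_inj).toEquiv, card_SL23]
  t_mem := ⟨sZ, K.t_eq_β.symm⟩
  small := by
    intro L hL hn ht
    rw [Subgroup.eq_bot_iff_forall]
    intro l hl
    obtain ⟨y, rfl⟩ := hL hl
    have hq : ∀ q : SL23, K.β (q * y * q⁻¹ * y⁻¹) ∈ L := fun q => by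
      have := mul_mem (hn _ ⟨q, rfl⟩ _ hl) (inv_mem hl)
      simpa [map_mul, map_inv] using this
    rcases comm_even y with rfl | rfl | ⟨q, h | h⟩
    · exact map_one _
    · exact absurd (by rwa [← K.t_eq_β] at hl) ht
    · exact absurd (by simpa [h, ← K.t_eq_β] using hq q) ht
    · refine absurd ?_ ht
      have := mul_mem (hq q) (hq q)
      rwa [← map_mul, h, ← K.t_eq_β] at this
  nonab := ⟨_, ⟨sU, rfl⟩, _, ⟨sL, rfl⟩, fun e =>
    sU_sL_ne (K.β_inj (by rw [map_mul, map_mul]; exact e))⟩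
  u_d := K.u_d
  comm_ut := K.t_comm_u.symm
  u_S := by
    rintro _ ⟨y, rfl⟩
    exact ⟨delta y, (K.u_conj_β y).symm⟩
  outer := by
    rintro _ ⟨y, rfl⟩ hall
    have h := hall (K.β sU) ⟨sU, rfl⟩
    have e : K.β (y * sU⁻¹ * y⁻¹) = K.β sU := by
      have hu : K.u * K.β sU * K.u⁻¹ = (K.β sU)⁻¹ := K.u_e
      calc K.β (y * sU⁻¹ * y⁻¹) = K.β y * (K.u * K.β sU * K.u⁻¹) * (K.β y)⁻¹ := by
            rw [hu, map_mul, map_mul, map_inv, map_inv]
        _ = K.β y * K.u * K.β sU * (K.β y * K.u)⁻¹ := by group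
        _ = K.β sU := by rw [h.eq, mul_inv_cancel_right]
    have e' := congrArg (fun a : SL23 => a⁻¹) (K.β_inj e)
    simp only [mul_inv_rev, inv_inv, ← mul_assoc] at e'
    exact sU_conj_ne_inv y e'
  decomp := fun g hg => by
    obtain ⟨o, ho, y, e⟩ := K.decomp_d hg
    exact ⟨o, ho, _, ⟨y, rfl⟩, e⟩

theorem side (h : K.Big) : CfsgLib.GTwoLocal.Side (Subgroup.normalizer (Subgroup.zpowers K.d : Set G))
    (coreCent K.d) (coreCent K.d ⊓ Subgroup.centralizer (coreCent K.d : Set G)) (Subgroup.zpowers K.d) :=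
  have P := K.par h
  { qle := P.core_le_para
    qcard := h.card
    qnorm := fun _ ha _ hq => P.conj_core ha hq
    index := P.index_core
    nonab := P.sec_centre.nonab
    Z_eq := rfl
    D_eq := P.derived.symm
    idxQ := P.index_cen
    dle := P.zpowers_le_cen
    idxZ := P.index_zpowers
    actQ := P.sec_core.kerQ
    actZ := P.sec_centre.kerQ
    norm := rfl }

end Hyp

/-- Two frames give the group. -/
theorem iso_of_frames (K₁ K₂ : Hyp G) (h₁ : K₁.Big) (h₂ : K₂.Big) {U : Subgroup G}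
    (hU : Nat.card U = 729) (hU₁ : U ≤ Subgroup.normalizer (Subgroup.zpowers K₁.d : Set G))
    (hU₂ : U ≤ Subgroup.normalizer (Subgroup.zpowers K₂.d : Set G))
    (hnc : ∀ g : G, g * K₁.d * g⁻¹ ∉ Subgroup.zpowers K₂.d)
    (hne : coreCent K₁.d ≠ coreCent K₂.d) :
    Nonempty (G ≃* ↥(Cfsg.Lie.chevG2.group (ZMod 3))) := by
  haveI : Fact (Nat.Prime 3) := ⟨Nat.prime_three⟩
  have P₁ := K₁.par h₁
  have P₂ := K₂.par h₂
  have S₁ := K₁.side h₁
  have S₂ := K₂.side h₂
  have H : CfsgLib.GTwoLocal.Amalg (Subgroup.normalizer (Subgroup.zpowers K₁.d : Set G)) (coreCent K₁.d)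
      (coreCent K₁.d ⊓ Subgroup.centralizer (coreCent K₁.d : Set G)) (Subgroup.zpowers K₁.d)
      (Subgroup.normalizer (Subgroup.zpowers K₂.d : Set G)) (coreCent K₂.d)
      (coreCent K₂.d ⊓ Subgroup.centralizer (coreCent K₂.d : Set G)) (Subgroup.zpowers K₂.d) U := by
    refine ⟨S₁, S₂, hU, hU₁, hU₂, fun g hg => ?_, hne⟩
    set c := (MulAut.conj g).toMonoidHom with hc
    have hinj : Function.Injective c := (MulAut.conj g).injective
    have hle : (coreCent K₁.d).map c ≤ coreCent K₂.d := by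
      refine P₂.le_core_of_pgroup (fun x hx => ?_) ?_ (P₁.isPGroup_core.map c)
      · obtain ⟨q, hq, rfl⟩ := hx
        exact hg.le ⟨q, P₁.core_le_para hq, rfl⟩
      · intro a ha x hx
        obtain ⟨q, hq, rfl⟩ := hx
        obtain ⟨b, hb, rfl⟩ := hg.ge ha
        exact ⟨b * q * b⁻¹, P₁.conj_core hb hq, by simp only [map_mul, map_inv]⟩
    have heq : (coreCent K₁.d).map c = coreCent K₂.d := Subgroup.eq_of_le_of_card_ge hle
      (le_of_eq (by rw [Subgroup.card_map_of_injective hinj, h₁.card, h₂.card]))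
    have hd : (Subgroup.zpowers K₁.d).map c = Subgroup.zpowers K₂.d := by
      rw [← P₁.derived, Subgroup.map_commutator, heq, P₂.derived]
    exact hnc g (hd.le ⟨K₁.d, Subgroup.mem_zpowers _, rfl⟩)
  obtain ⟨d, e, p, q, n, m, N⟩ := H.exists_normed
  exact N.iso_chev

end CfsgLib.GTwoInvol
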