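import Cfsg.Agent.Lib.GTwoInvol.Three
import Cfsg.Agent.Lib.GTwoInvol.DeType
import Cfsg.Agent.Lib.GTwoInvol.NotBoth
import Cfsg.Agent.Lib.GTwoInvol.PartsNine
import Cfsg.Agent.Lib.GTwoInvol.NonConj
import Cfsg.Agent.Lib.GTwoInvol.Side
import Cfsg.Agent.Lib.GTwoInvol.Degen

/-!
The nondegenerate case: the cores of the centralisers of `d` and of a second element `y`.
-/

set_option autoImplicit false
set_option linter.style.haveILetI false
set_option linter.unusedSectionVars false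

namespace CfsgLib.GTwoInvol

open CfsgLib.GTwoTwoLocal (coreCent conj_mem_coreCent odd_coreCent coreCent_le mem_coreCent_self
  mem_normalizer_coreCent card_cent_conj)

variable {G : Type*} [Group G] [Finite G]

/-- A subgroup of index three in an invariant `3`-group is normal. -/
theorem Four.le_normalizer {t u : G} {X : Subgroup G} (F : Four t u X) (hp : IsPGroup 3 X) {Q : Subgroup G}
    (hQ : Q ≤ X) (nt : ∀ x ∈ Q, t * x * t⁻¹ ∈ Q) (nu : ∀ x ∈ Q, u * x * u⁻¹ ∈ Q)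
    (hcard : Nat.card X = 3 * Nat.card Q) : X ≤ Subgroup.normalizer (Q : Set G) := by
  obtain ⟨r, hr, hrQ, hrn, -⟩ := F.grow hp hQ (fun h => by
    rw [h] at hcard; have := Nat.card_pos (α := X); omega) nt nu
  set N := X ⊓ Subgroup.normalizer (Q : Set G)
  have hQN : Q ≤ N := le_inf hQ Subgroup.le_normalizer
  have h1 : Nat.card Q ∣ Nat.card N := Subgroup.card_dvd_of_le hQN
  have h2 : Nat.card N ∣ 3 * Nat.card Q := hcard ▸ Subgroup.card_dvd_of_le inf_le_left
  obtain ⟨a, ha⟩ := h1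
  rw [ha, mul_comm (Nat.card Q)] at h2
  have ha3 : a ∣ 3 := Nat.dvd_of_mul_dvd_mul_right Nat.card_pos h2
  have hane : a ≠ 1 := by
    rintro rfl
    refine hrQ ?_
    rw [Subgroup.eq_of_le_of_card_ge hQN (by rw [ha, mul_one])]
    exact ⟨hr, hrn⟩
  have : a = 3 := ((Nat.dvd_prime Nat.prime_three).mp ha3).resolve_left hane
  subst this
  exact (Subgroup.eq_of_le_of_card_ge (inf_le_left : N ≤ X) (by rw [hcard, ha, mul_comm])).ge.trans inf_le_right

namespace Hyp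

variable (K : Hyp G)

theorem card_243 (hnd : ∀ L : Hyp G, ¬ L.Deg) : Nat.card (coreCent K.d) = 243 := by
  rcases K.card_O_cases with h | h | h
  · exfalso
    refine hnd K fun g hg => ?_
    have hF : Nat.card ↥(coreCent K.d ⊓ Subgroup.centralizer ({K.e} : Set G)) ≤ 3 := by
      rw [← h]; exact Subgroup.card_le_of_le inf_le_left
    have hEq : K.E = K.R := Subgroup.eq_of_le_of_card_ge K.E_le_R (by
      rw [K.card_R_d, K.card_E_eq]; omega)
    rcases K.decomp_CE hg with h' | h'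
    · exact K.E_le_H (hEq ▸ h')
    · have := mul_mem (K.E_le_H (hEq ▸ h')) (K.mem_H.mpr (Commute.refl K.t))
      rwa [mul_assoc, K.t_sq, mul_one] at this
  · exact (K.not27 (hnd K) h).elim
  · exact h

theorem R_part_comm {y : G} (hy : y ∈ cfix K.R K.u) {x : G} (hx : x ∈ K.E) : Commute x y := by
  obtain ⟨i, j, rfl⟩ := K.mem_E_iff.mp hx
  rw [map_pow, map_pow]
  exact ((K.R_comm_d hy.1).symm.pow_left _).mul_left ((K.R_comm_e hy.1).symm.pow_left _)

theorem inv_R_u {y : G} (hy : y ∈ cfix K.R K.u) : K.t * y * K.t⁻¹ = y⁻¹ :=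
  K.four_R.inv_of_part hy.1 (mem_cfix.mp hy).2 (K.part K.odd_R K.u_sq K.u_ne_one).2.2

theorem inv_R_tu {c : G} (hc : c ∈ cfix K.R (K.t * K.u)) : K.t * c * K.t⁻¹ = c⁻¹ :=
  K.twist.four_R.inv_of_part hc.1 (mem_cfix.mp hc).2 (K.part K.odd_R K.tu_sq K.tu_ne_one).2.2

/-- The parts of `C(E)` at `u` and `tu` commute. -/
theorem comm_parts (h243 : ∀ L : Hyp G, Nat.card (coreCent L.d) = 243)
    (hu : Nat.card (cfix K.R K.u) = 3) (htu : Nat.card (cfix K.R (K.t * K.u)) = 3) {y c : G}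
    (hy : y ∈ cfix K.R K.u) (hc : c ∈ cfix K.R (K.t * K.u)) : Commute y c := by
  haveI : Fact (Nat.Prime 3) := ⟨Nat.prime_three⟩
  by_cases hy1 : y = 1
  · exact hy1 ▸ Commute.one_left _
  by_cases hc1 : c = 1
  · exact hc1 ▸ Commute.one_right _
  have hyd : y ∈ coreCent K.d :=
    K.mem_core_of_inverted (K.R_comm_d hy.1) (odd_order_of_mem K.odd_R hy.1) (K.inv_R_u hy)
  have hcd : c ∈ coreCent K.d :=
    K.mem_core_of_inverted (K.R_comm_d hc.1) (odd_order_of_mem K.odd_R hc.1) (K.inv_R_tu hc)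
  have mkhom : ∀ z : G, z ∈ coreCent K.d → ∃ f : ↥(coreCent K.d) →* ↥(Subgroup.zpowers K.d),
      ∀ a, f a = 1 ↔ Commute (a : G) z := by
    intro z hz
    refine ⟨MonoidHom.mk' (fun a => ⟨(a : G) * z * (a : G)⁻¹ * z⁻¹, K.comm_core_d a.2 hz⟩) fun a b => ?_,
      fun a => ?_⟩
    · apply Subtype.ext
      have hb : Commute ((b : G) * z * (b : G)⁻¹ * z⁻¹) (a : G) :=
        K.zpowers_d_comm (K.comm_core_d b.2 hz) a.2
      calc ((a * b : ↥(coreCent K.d)) : G) * z * ((a * b : ↥(coreCent K.d)) : G)⁻¹ * z⁻¹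
          = (a : G) * ((b : G) * z * (b : G)⁻¹ * z⁻¹) * (z * (a : G)⁻¹ * z⁻¹) := by
            simp only [Subgroup.coe_mul]; group
        _ = ((b : G) * z * (b : G)⁻¹ * z⁻¹) * ((a : G) * z * (a : G)⁻¹ * z⁻¹) := by rw [← hb.eq]; group
        _ = ((a : G) * z * (a : G)⁻¹ * z⁻¹) * ((b : G) * z * (b : G)⁻¹ * z⁻¹) :=
            (K.zpowers_d_comm (K.comm_core_d b.2 hz)
              (mul_mem (mul_mem (mul_mem a.2 hz) (inv_mem a.2)) (inv_mem hz))).eq
    · rw [Subtype.ext_iff]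
      simp only [MonoidHom.mk'_apply, Subgroup.coe_one]
      rw [mul_inv_eq_one, mul_inv_eq_iff_eq_mul]
      rfl
  obtain ⟨f, hf⟩ := mkhom y hyd
  obtain ⟨g, hg⟩ := mkhom c hcd
  set P := K.U ⊓ (Subgroup.centralizer ({y} : Set G) ⊓ Subgroup.centralizer ({c} : Set G)) with hP
  have hker : 243 ≤ Nat.card (f.prod g).ker * 9 := by
    have h := Subgroup.card_mul_index (f.prod g).ker
    rw [h243 K, Subgroup.index_ker] at h
    have : Nat.card (f.prod g).range ≤ 9 := by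
      refine (Nat.card_le_card_of_injective _ Subtype.val_injective).trans (le_of_eq ?_)
      rw [Nat.card_prod, Nat.card_zpowers, orderOf_eq_prime K.d_cube K.d_ne]
    calc 243 = Nat.card (f.prod g).ker * Nat.card (f.prod g).range := h.symm
      _ ≤ _ := Nat.mul_le_mul_left _ this
  have hEc : ∀ z : G, Commute z y → Commute z c →
      z ∈ Subgroup.centralizer ({y} : Set G) ⊓ Subgroup.centralizer ({c} : Set G) := fun z h1 h2 =>
    ⟨Subgroup.mem_centralizer_singleton_iff.mpr h1.eq, Subgroup.mem_centralizer_singleton_iff.mpr h2.eq⟩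
  have hPcard : 81 ≤ Nat.card P := by
    rw [K.card_meet_U (X := P) inf_le_left (Subgroup.mem_inf.mpr ⟨Subgroup.mem_sup_right (Subgroup.mem_zpowers _),
      hEc _ (K.R_comm_e hy.1).symm (K.R_comm_e hc.1).symm⟩)]
    let φ : (f.prod g).ker → ↥(P ⊓ coreCent K.d) := fun a => ⟨((a : ↥(coreCent K.d)) : G), by
      have ha := a.2
      rw [MonoidHom.mem_ker, MonoidHom.prod_apply, Prod.mk_eq_one, hf, hg] at ha
      exact ⟨⟨Subgroup.mem_sup_left (a : ↥(coreCent K.d)).2, hEc _ ha.1 ha.2⟩, (a : ↥(coreCent K.d)).2⟩⟩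
    have := Nat.card_le_card_of_injective φ fun a b h =>
      Subtype.ext (Subtype.ext (congrArg (fun x : ↥(P ⊓ coreCent K.d) => (x : G)) h))
    omega
  have hEP : K.E ≤ P := fun x hx => ⟨K.R_le_U (K.E_le_R hx),
    hEc _ (K.R_part_comm hy hx) (by
      obtain ⟨i, j, rfl⟩ := K.mem_E_iff.mp hx
      rw [map_pow, map_pow]
      exact ((K.R_comm_d hc.1).symm.pow_left _).mul_left ((K.R_comm_e hc.1).symm.pow_left _))⟩
  have conjC : ∀ s : G, (s * y * s⁻¹ = y ∨ s * y * s⁻¹ = y⁻¹) → (s * c * s⁻¹ = c ∨ s * c * s⁻¹ = c⁻¹) →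
      ∀ x ∈ Subgroup.centralizer ({y} : Set G) ⊓ Subgroup.centralizer ({c} : Set G),
        s * x * s⁻¹ ∈ Subgroup.centralizer ({y} : Set G) ⊓ Subgroup.centralizer ({c} : Set G) := by
    intro s h1 h2 x hx
    have key : ∀ z : G, (s * z * s⁻¹ = z ∨ s * z * s⁻¹ = z⁻¹) → Commute x z → Commute (s * x * s⁻¹) z := by
      intro z hz hc
      have h : Commute (s * x * s⁻¹) (s * z * s⁻¹) := hc.map (MulAut.conj s).toMonoidHom
      rcases hz with e | e <;> rw [e] at h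
      exacts [h, Commute.inv_right_iff.mp h]
    exact hEc _ (key y h1 (Subgroup.mem_centralizer_singleton_iff.mp hx.1))
      (key c h2 (Subgroup.mem_centralizer_singleton_iff.mp hx.2))
  have uc : K.u * c * K.u⁻¹ = c⁻¹ := K.u_inverts (mem_cfix.mp hc).2 (K.inv_R_tu hc)
  have FP : Four K.t K.u P := K.four_U.inter
    (conjC K.t (Or.inr (K.inv_R_u hy)) (Or.inr (K.inv_R_tu hc)))
    (conjC K.u (Or.inl (conj_eq_self (mem_cfix.mp hy).2.symm)) (Or.inr uc))
  obtain ⟨r, hr, hrE, hrn, hparts⟩ := FP.grow (K.isPGroup_U.to_le inf_le_left) hEP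
    (fun h => by rw [← h, K.card_E_eq] at hPcard; omega)
    (fun x hx => by rw [conj_eq_self (K.E_comm_t hx).symm]; exact hx) (fun _ => K.u_conj_E)
  obtain ⟨hry, hrc⟩ := Subgroup.mem_inf.mp hr.2
  have inR : ∀ s : G, s * s = 1 → s ≠ 1 → Commute r s → K.t * r * K.t⁻¹ = r⁻¹ → r ∈ cfix K.R s := by
    intro s hs hs1 hrs hinv
    have h3 := (K.part K.four_U.odd hs hs1).2.1 r (mem_cfix.mpr ⟨hr.1, hrs⟩)
    have hn : ∀ x ∈ K.E, r * x * r⁻¹ ∈ K.E := fun x hx => (Subgroup.mem_normalizer_iff.mp hrn x).mp hx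
    exact mem_cfix.mpr ⟨K.mem_R (K.mem_CE.mpr
      ⟨act_trivial K.t_sq h3 hinv (fun x hx => K.E_comm_t hx) hn K.d_mem_E,
       act_trivial K.t_sq h3 hinv (fun x hx => K.E_comm_t hx) hn K.e_mem_E⟩) (odd_order_of_cube h3), hrs⟩
  have hr1 : r ≠ 1 := fun h => hrE (h ▸ one_mem _)
  rcases hparts with h | h | h
  · exact (hrE (K.cfix_U_t ▸ mem_cfix.mpr ⟨hr.1, h⟩)).elim
  · have hrR := inR K.u K.u_sq K.u_ne_one h
      (K.four_U.inv_of_part hr.1 h (K.part K.four_U.odd K.u_sq K.u_ne_one).2.2)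
    have hz := mem_zpowers_of_prime_card (g := (⟨r, hrR⟩ : cfix K.R K.u)) (g' := ⟨y, hy⟩) hu
      (fun e => hr1 (congrArg Subtype.val e))
    obtain ⟨n, hn⟩ := Subgroup.mem_zpowers_iff.mp hz
    rw [show y = r ^ n from (congrArg Subtype.val hn).symm]
    exact Commute.zpow_left (Subgroup.mem_centralizer_singleton_iff.mp hrc) n
  · have hrR := inR _ K.tu_sq K.tu_ne_one h
      (Four.inv_of_part (t := K.t) (u := K.t * K.u) ⟨K.t_sq, K.tu_sq, (Commute.refl K.t).mul_right K.t_comm_u,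
        K.four_U.odd, K.four_U.nt, fun x hx => by
          rw [show K.t * K.u * x * (K.t * K.u)⁻¹ = K.t * (K.u * x * K.u⁻¹) * K.t⁻¹ by group]
          exact K.four_U.nt _ (K.four_U.nu x hx),
        fun x hx h1 h2 => K.four_U.triv x hx h1 (by have := h1.mul_right h2; rwa [K.t_mul_tu] at this)⟩
        hr.1 h (K.part K.four_U.odd K.tu_sq K.tu_ne_one).2.2)
    have hz := mem_zpowers_of_prime_card (g := (⟨r, hrR⟩ : cfix K.R (K.t * K.u))) (g' := ⟨c, hc⟩) htu
      (fun e => hr1 (congrArg Subtype.val e))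
    obtain ⟨n, hn⟩ := Subgroup.mem_zpowers_iff.mp hz
    rw [show c = r ^ n from (congrArg Subtype.val hn).symm]
    exact (Commute.zpow_left (Subgroup.mem_centralizer_singleton_iff.mp hry) n).symm

/-- A frame at `u` with first element `y`. -/
theorem exists_frame_u (h243 : ∀ L : Hyp G, Nat.card (coreCent L.d) = 243)
    (hu : Nat.card (cfix K.R K.u) = 3) (htu : Nat.card (cfix K.R (K.t * K.u)) = 3) {y : G}
    (hy : y ∈ cfix K.R K.u) (hy1 : y ≠ 1) : ∃ L : Hyp G, L.t = K.u ∧ L.d = y := by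
  obtain ⟨g, hg, h | h⟩ := K.factor_of_parts h243 hu htu hy hy1
  · exact ⟨K.conj g, hg, h⟩
  · exact ⟨K.swap.conj g, by rw [t_conj, t_swap]; exact hg, h⟩

/-- An extra element at `tu` in the normalizer makes `y` central in the core. -/
theorem central_of_extra (h243 : ∀ L : Hyp G, Nat.card (coreCent L.d) = 243)
    (hu : Nat.card (cfix K.R K.u) = 3) (htu : Nat.card (cfix K.R (K.t * K.u)) = 3) {y : G}
    (hy : y ∈ cfix K.R K.u) (hy1 : y ≠ 1) {r : G} (hrU : r ∈ K.U) (hrR : r ∉ K.R)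
    (hrn : r ∈ Subgroup.normalizer (K.R : Set G)) (hrtu : Commute r (K.t * K.u)) :
    ∀ x ∈ coreCent K.d, Commute y x := by
  haveI : Fact (Nat.Prime 3) := ⟨Nat.prime_three⟩
  obtain ⟨c, hc, hc1⟩ := ne_one_of_card (X := cfix K.R (K.t * K.u)) (by rw [htu]; norm_num)
  have hyc := K.comm_parts h243 hu htu hy hc
  obtain ⟨L, hLt, hLd⟩ := K.exists_frame_u h243 hu htu hy hy1
  have hyu := (mem_cfix.mp hy).2
  have hty := K.inv_R_u hy
  have hXodd : Odd (Nat.card (coreCent y)) := odd_coreCent _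
  have FX : Four K.t K.u (coreCent y) :=
    ⟨K.t_sq, K.u_sq, K.t_comm_u, hXodd, fun _ hx => conj_mem_coreCent (Or.inr hty) hx,
      fun _ hx => conj_mem_coreCent (Or.inl (conj_eq_self hyu.symm)) hx, fun x hx ht hu' =>
        K.cube_fix_tu ((K.part hXodd K.t_sq K.t_ne_one).2.1 x (mem_cfix.mpr ⟨hx, ht⟩)) ht hu'⟩
  have hEX : K.E ≤ cfix (coreCent y) K.t := fun x hx => mem_cfix.mpr
    ⟨hLd ▸ L.mem_core_of_inverted (hLd ▸ K.R_part_comm hy hx) (odd_order_of_mem K.odd_E hx)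
      (hLt ▸ K.u_inv_E hx), K.E_comm_t hx⟩
  have h9t : Nat.card (cfix (coreCent y) K.t) = 9 := le_antisymm
    (Nat.le_of_dvd (by norm_num) (K.part hXodd K.t_sq K.t_ne_one).1)
    (K.card_E_eq ▸ Subgroup.card_le_of_le hEX)
  have hX : Nat.card (coreCent y) = 243 := hLd ▸ h243 L
  have hXu : cfix (coreCent y) K.u = Subgroup.zpowers y := by
    rw [← hLd, ← hLt]; exact L.cfix_d_t
  have hy3 := (K.part K.odd_R K.u_sq K.u_ne_one).2.1 y hy
  set T := cfix (coreCent y) (K.t * K.u) with hT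
  obtain ⟨hTd, hT3, hTc⟩ := K.part hXodd K.tu_sq K.tu_ne_one
  have hT9 : Nat.card T = 9 := by
    have h := FX.card
    rw [hX, h9t, hXu, Nat.card_zpowers, orderOf_eq_prime hy3 hy1, ← hT] at h
    omega
  have hcinv := K.inv_R_tu hc
  have hcX : c ∈ coreCent y := hLd ▸ L.mem_core_of_inverted (hLd ▸ hyc.symm) (odd_order_of_mem K.odd_R hc.1)
    (hLt ▸ K.u_inverts (mem_cfix.mp hc).2 hcinv)
  have hRX : K.R ≤ coreCent y := by
    have h := K.four_R.eq_of_parts (Y := K.R ⊓ coreCent y) inf_le_left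
      (fun x hx => ⟨K.t_conj_R hx.1, FX.nt x hx.2⟩) (fun x hx => ⟨K.u_conj_R hx.1, FX.nu x hx.2⟩)
      (le_inf inf_le_left (fun x hx => (hEX (K.cfix_R_t ▸ hx)).1))
      (le_inf inf_le_left (fun x hx => by
        have hz := mem_zpowers_of_prime_card (g := (⟨y, hy⟩ : cfix K.R K.u)) (g' := ⟨x, hx⟩) hu
          (fun e => hy1 (congrArg Subtype.val e))
        obtain ⟨n, hn⟩ := Subgroup.mem_zpowers_iff.mp hz
        rw [show x = y ^ n from (congrArg Subtype.val hn).symm]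
        exact zpow_mem (mem_coreCent_self hy3) n))
      (le_inf inf_le_left (fun x hx => by
        have hz := mem_zpowers_of_prime_card (g := (⟨c, hc⟩ : cfix K.R (K.t * K.u))) (g' := ⟨x, hx⟩) htu
          (fun e => hc1 (congrArg Subtype.val e))
        obtain ⟨n, hn⟩ := Subgroup.mem_zpowers_iff.mp hz
        rw [show x = c ^ n from (congrArg Subtype.val hn).symm]
        exact zpow_mem hcX n))
    exact h.ge.trans inf_le_right
  have hXn : coreCent y ≤ Subgroup.normalizer (K.R : Set G) :=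
    FX.le_normalizer (K.isPGroup_of_four hXodd FX.nt FX.nu) hRX (fun _ => K.t_conj_R) (fun _ => K.u_conj_R)
      (by rw [hX, K.card_R_parts, hu, htu])
  have hTinv : ∀ o ∈ T, K.t * o * K.t⁻¹ = o⁻¹ := fun o ho =>
    Four.inv_of_part (t := K.t) (u := K.t * K.u) ⟨K.t_sq, K.tu_sq, (Commute.refl K.t).mul_right K.t_comm_u,
      hXodd, FX.nt, fun x hx => by
        rw [show K.t * K.u * x * (K.t * K.u)⁻¹ = K.t * (K.u * x * K.u⁻¹) * K.t⁻¹ by group]
        exact FX.nt _ (FX.nu x hx),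
      fun x hx h1 h2 => FX.triv x hx h1 (by have := h1.mul_right h2; rwa [K.t_mul_tu] at this)⟩
      ho.1 (mem_cfix.mp ho).2 hTc
  have hrinv : K.t * r * K.t⁻¹ = r⁻¹ :=
    Four.inv_of_part (t := K.t) (u := K.t * K.u) ⟨K.t_sq, K.tu_sq, (Commute.refl K.t).mul_right K.t_comm_u,
      K.four_U.odd, K.four_U.nt, fun x hx => by
        rw [show K.t * K.u * x * (K.t * K.u)⁻¹ = K.t * (K.u * x * K.u⁻¹) * K.t⁻¹ by group]
        exact K.four_U.nt _ (K.four_U.nu x hx),
      fun x hx h1 h2 => K.four_U.triv x hx h1 (by have := h1.mul_right h2; rwa [K.t_mul_tu] at this)⟩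
      hrU hrtu (K.part K.four_U.odd K.tu_sq K.tu_ne_one).2.2
  have hr3 := (K.part K.four_U.odd K.tu_sq K.tu_ne_one).2.1 r (mem_cfix.mpr ⟨hrU, hrtu⟩)
  have hcomm : ∀ o ∈ T, Commute r o := fun o ho => K.norm_commute K.cfix_R_t
    (by rw [hu, K.cfix_R_t, K.card_E_eq]; norm_num) hrn (hXn ho.1) hr3 (hT3 o ho) hrtu (mem_cfix.mp ho).2
    hrinv (hTinv o ho)
  have hr1 : r ≠ 1 := fun h => hrR (h ▸ one_mem _)
  have hrT : r ∈ T := by
    have hn : Subgroup.zpowers r ≤ Subgroup.normalizer (T : Set G) :=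
      Subgroup.zpowers_le.mpr (CfsgLib.SymNineThree.mem_normalizer_of_le _ fun m hm => by
        rw [(hcomm m hm).eq, mul_inv_cancel_right]; exact hm)
    have hp : IsPGroup 3 ↥(T ⊔ Subgroup.zpowers r) := IsPGroup.to_sup_of_normal_left'
      (IsPGroup.of_card (n := 2) (by rw [hT9]; rfl))
      (IsPGroup.of_card (n := 1) (by rw [Nat.card_zpowers, orderOf_eq_prime hr3 hr1, pow_one])) hn
    have hodd : Odd (Nat.card ↥(T ⊔ Subgroup.zpowers r)) := by
      obtain ⟨n, hn⟩ := hp.exists_card_eq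
      rw [hn]; exact Odd.pow (by decide)
    have hle : T ⊔ Subgroup.zpowers r ≤ Subgroup.centralizer ({K.t * K.u} : Set G) :=
      sup_le inf_le_right (Subgroup.zpowers_le.mpr (Subgroup.mem_centralizer_singleton_iff.mpr hrtu.eq))
    have h9 := (K.odd_cent hodd K.tu_sq K.tu_ne_one fun x hx =>
      Subgroup.mem_centralizer_singleton_iff.mp (hle hx)).1
    have := Subgroup.eq_of_le_of_card_ge (le_sup_left : T ≤ T ⊔ Subgroup.zpowers r)
      (by rw [hT9]; exact Nat.le_of_dvd (by norm_num) h9)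
    exact this.symm ▸ Subgroup.mem_sup_right (Subgroup.mem_zpowers _)
  have hrd : r ∈ coreCent K.d := by
    refine K.mem_core_of_inverted ?_ (odd_order_of_cube hr3) hrinv
    obtain ⟨o, ho, k, rfl⟩ := K.mem_U.mp hrU
    exact (show Commute o K.d from Subgroup.mem_centralizer_singleton_iff.mp (coreCent_le _ ho)).mul_left
      (K.d_comm_e.symm.pow_left _)
  set T₁ := cfix (coreCent K.d) (K.t * K.u) with hT₁
  obtain ⟨hT₁d, -, -⟩ := K.part (odd_coreCent K.d) K.tu_sq K.tu_ne_one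
  have hsub : Nat.card ↥(T ⊓ T₁) = 9 := by
    have hc3 := (K.part K.odd_R K.tu_sq K.tu_ne_one).2.1 c hc
    refine card_T_nine ((Subgroup.card_dvd_of_le inf_le_left).trans hTd) (a := c) (b := r) ?_ ?_ hc3 hc1
      fun h => hrR (Subgroup.zpowers_le.mpr hc.1 h)
    · exact ⟨mem_cfix.mpr ⟨hcX, (mem_cfix.mp hc).2⟩, mem_cfix.mpr
        ⟨K.mem_core_of_inverted (K.R_comm_d hc.1) (odd_order_of_cube hc3) hcinv, (mem_cfix.mp hc).2⟩⟩
    · exact ⟨hrT, mem_cfix.mpr ⟨hrd, hrtu⟩⟩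
  have hT₁T : T₁ ≤ T := by
    have := Subgroup.eq_of_le_of_card_ge (inf_le_right : T ⊓ T₁ ≤ T₁)
      (by rw [hsub]; exact Nat.le_of_dvd (by norm_num) hT₁d)
    exact this.ge.trans inf_le_left
  have hyd : y ∈ coreCent K.d := K.mem_core_of_inverted (K.R_comm_d hy.1) (odd_order_of_cube hy3) hty
  have conjC : ∀ s : G, (s * y * s⁻¹ = y ∨ s * y * s⁻¹ = y⁻¹) → (∀ x ∈ coreCent K.d, s * x * s⁻¹ ∈ coreCent K.d) →
      ∀ x ∈ coreCent K.d ⊓ Subgroup.centralizer ({y} : Set G),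
        s * x * s⁻¹ ∈ coreCent K.d ⊓ Subgroup.centralizer ({y} : Set G) := by
    intro s h1 h2 x hx
    refine ⟨h2 x hx.1, Subgroup.mem_centralizer_singleton_iff.mpr ?_⟩
    have h : Commute (s * x * s⁻¹) (s * y * s⁻¹) :=
      (show Commute x y from Subgroup.mem_centralizer_singleton_iff.mp hx.2).map (MulAut.conj s).toMonoidHom
    rcases h1 with e | e <;> rw [e] at h
    exacts [h.eq, (Commute.inv_right_iff.mp h).eq]
  have heq := K.four_d.eq_of_parts (Y := coreCent K.d ⊓ Subgroup.centralizer ({y} : Set G)) inf_le_left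
    (conjC K.t (Or.inr hty) fun _ => K.t_normalises_d)
    (conjC K.u (Or.inl (conj_eq_self hyu.symm)) fun _ => K.u_normalises_d)
    (fun x hx => ⟨hx.1, Subgroup.mem_centralizer_singleton_iff.mpr
      (K.zpowers_d_comm (K.cfix_d_t ▸ hx) hyd).eq⟩)
    (fun x hx => ⟨hx.1, Subgroup.mem_centralizer_singleton_iff.mpr
      ((K.part (odd_coreCent K.d) K.u_sq K.u_ne_one).2.2 x hx y (mem_cfix.mpr ⟨hyd, hyu⟩)).eq⟩)
    (fun x hx => ⟨hx.1, Subgroup.mem_centralizer_singleton_iff.mpr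
      (Subgroup.mem_centralizer_singleton_iff.mp (coreCent_le y (hT₁T hx).1))⟩)
  intro x hx
  rw [← heq] at hx
  exact (show Commute x y from Subgroup.mem_centralizer_singleton_iff.mp hx.2).symm

/-- Exactly one of the two parts is central in the core, after a twist. -/
theorem exists_central (h243 : ∀ L : Hyp G, Nat.card (coreCent L.d) = 243) :
    ∃ M : Hyp G, (M = K ∨ M = K.twist) ∧ Nat.card (cfix M.R M.u) = 3 ∧
      Nat.card (cfix M.R (M.t * M.u)) = 3 ∧ ∃ y ∈ cfix M.R M.u, y ≠ 1 ∧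
        (∀ x ∈ coreCent M.d, Commute y x) ∧
        ∀ z, z ∈ M.R → Commute z (M.t * M.u) → (∀ x ∈ coreCent M.d, Commute z x) → z = 1 := by
  obtain ⟨hu, htu⟩ := K.parts_nine h243
  obtain ⟨y, hy, hy1⟩ := ne_one_of_card (X := cfix K.R K.u) (by rw [hu]; norm_num)
  obtain ⟨c, hc, hc1⟩ := ne_one_of_card (X := cfix K.R (K.t * K.u)) (by rw [htu]; norm_num)
  have hp2 : K.twist.t * K.twist.u = K.u := K.t_mul_tu
  have hu2 : Nat.card (cfix K.twist.R K.twist.u) = 3 := htu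
  have htu2 : Nat.card (cfix K.twist.R (K.twist.t * K.twist.u)) = 3 := by rw [hp2]; exact hu
  have some_central : (∀ x ∈ coreCent K.d, Commute y x) ∨ (∀ x ∈ coreCent K.d, Commute c x) := by
    obtain ⟨r, hr, hrR, hrn, h | h | h⟩ := K.four_U.grow K.isPGroup_U K.R_le_U
      (fun h => by
        have := K.card_R_parts
        rw [hu, htu, h, K.card_U, h243 K] at this; norm_num at this)
      (fun _ => K.t_conj_R) (fun _ => K.u_conj_R)
    · exact (hrR (K.E_le_R (K.cfix_U_t ▸ mem_cfix.mpr ⟨hr, h⟩))).elim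
    · exact Or.inr (K.twist.central_of_extra h243 hu2 htu2 (y := c) hc hc1 (r := r) hr hrR hrn
        (by rw [hp2]; exact h))
    · exact Or.inl (K.central_of_extra h243 hu htu hy hy1 hr hrR hrn h)
  have nb : ∀ M : Hyp G, Nat.card (cfix M.R M.u) = 3 → Nat.card (cfix M.R (M.t * M.u)) = 3 →
      ∀ y ∈ cfix M.R M.u, y ≠ 1 → (∀ x ∈ coreCent M.d, Commute y x) →
      ∀ z, z ∈ M.R → Commute z (M.t * M.u) → (∀ x ∈ coreCent M.d, Commute z x) → z = 1 := by
    intro M hu htu y hy hy1 hcy z hz hzt hzc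
    by_contra hz1
    exact M.not_both h243 hu htu hy hy1 (mem_cfix.mpr ⟨hz, hzt⟩) hz1 (M.exists_frame_u h243 hu htu hy hy1)
      hcy hzc
  rcases some_central with h | h
  · exact ⟨K, Or.inl rfl, hu, htu, y, hy, hy1, h, nb K hu htu y hy hy1 h⟩
  · exact ⟨K.twist, Or.inr rfl, hu2, htu2, c, hc, hc1, h, nb K.twist hu2 htu2 c hc hc1 h⟩

theorem big (h243 : ∀ L : Hyp G, Nat.card (coreCent L.d) = 243) : K.Big := by
  obtain ⟨M, hM, hu, htu, y, hy, hy1, hcy, hnc⟩ := K.exists_central h243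
  have hd : M.d = K.d := by rcases hM with rfl | rfl <;> rfl
  suffices h : M.Big by
    exact ⟨h243 K, hd ▸ h.centre, hd ▸ h.nonab⟩
  haveI : Fact (Nat.Prime 3) := ⟨Nat.prime_three⟩
  obtain ⟨c, hc, hc1⟩ := ne_one_of_card (X := cfix M.R (M.t * M.u)) (by rw [htu]; norm_num)
  have hcd : c ∈ coreCent M.d :=
    M.mem_core_of_inverted (M.R_comm_d hc.1) (odd_order_of_mem M.odd_R hc.1) (M.inv_R_tu hc)
  have hyd : y ∈ coreCent M.d :=
    M.mem_core_of_inverted (M.R_comm_d hy.1) (odd_order_of_mem M.odd_R hy.1) (M.inv_R_u hy)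
  have hcnot : ¬ ∀ x ∈ coreCent M.d, Commute c x := fun h => hc1 (hnc c hc.1 (mem_cfix.mp hc).2 h)
  refine ⟨h243 M, ?_, ?_⟩
  swap
  · push Not at hcnot
    obtain ⟨x, hx, hxc⟩ := hcnot
    exact ⟨c, hcd, x, hx, fun e => hxc e⟩
  set Z := coreCent M.d ⊓ Subgroup.centralizer (coreCent M.d : Set G) with hZ
  have conjZ : ∀ s : G, (∀ x ∈ coreCent M.d, s * x * s⁻¹ ∈ coreCent M.d) → ∀ z ∈ Z, s * z * s⁻¹ ∈ Z := by
    intro s hs z hz
    have hn : s ∈ Subgroup.normalizer (coreCent M.d : Set G) :=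
      CfsgLib.SymNineThree.mem_normalizer_of_le _ hs
    refine ⟨hs z hz.1, Subgroup.mem_centralizer_iff.mpr fun x hx => ?_⟩
    have hx' : s⁻¹ * x * s ∈ coreCent M.d := by
      have := (Subgroup.mem_normalizer_iff.mp (inv_mem hn) x).mp hx
      simpa using this
    have h : Commute (s * (s⁻¹ * x * s) * s⁻¹) (s * z * s⁻¹) :=
      (show Commute (s⁻¹ * x * s) z from Subgroup.mem_centralizer_iff.mp hz.2 _ hx').map
        (MulAut.conj s).toMonoidHom
    rw [show s * (s⁻¹ * x * s) * s⁻¹ = x by group] at h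
    exact h.eq
  have FZ : Four M.t M.u Z := M.four_d.mono inf_le_left (conjZ _ fun _ => M.t_normalises_d)
    (conjZ _ fun _ => M.u_normalises_d)
  obtain ⟨q, hqd, -, hqu⟩ := M.exists_q
  have hqn : q ∈ Subgroup.normalizer (Z : Set G) :=
    CfsgLib.SymNineThree.mem_normalizer_of_le _ (conjZ q fun x hx => M.conj_core hqd hx)
  have heq : Nat.card (cfix Z M.u) = Nat.card (cfix Z (M.t * M.u)) := card_cent_conj hqn hqu
  have hZt : cfix Z M.t = Subgroup.zpowers M.d := by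
    refine le_antisymm (fun x hx => M.cfix_d_t ▸ mem_cfix.mpr ⟨hx.1.1, (mem_cfix.mp hx).2⟩) ?_
    refine Subgroup.zpowers_le.mpr (mem_cfix.mpr ⟨⟨mem_coreCent_self M.d_cube, ?_⟩, M.t_comm_d.symm⟩)
    exact Subgroup.mem_centralizer_iff.mpr fun x hx =>
      (M.zpowers_d_comm (Subgroup.mem_zpowers _) hx).symm.eq
  have hyZ : y ∈ cfix Z M.u := mem_cfix.mpr
    ⟨⟨hyd, Subgroup.mem_centralizer_iff.mpr fun x hx => (hcy x hx).symm.eq⟩, (mem_cfix.mp hy).2⟩
  have hne1 : Nat.card (cfix Z M.u) ≠ 1 := fun h =>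
    hy1 (Subgroup.mem_bot.mp (Subgroup.card_eq_one.mp h ▸ hyZ))
  have hne9 : Nat.card (cfix Z M.u) ≠ 9 := by
    intro h
    refine hcnot fun x hx => ?_
    have h9 : Nat.card (cfix (coreCent M.d) (M.t * M.u)) ≤ 9 :=
      Nat.le_of_dvd (by norm_num) (M.part (odd_coreCent M.d) M.tu_sq M.tu_ne_one).1
    have hEq := Subgroup.eq_of_le_of_card_ge
      (inf_le_inf_right _ inf_le_left : cfix Z (M.t * M.u) ≤ cfix (coreCent M.d) (M.t * M.u))
      (by rw [← heq, h]; exact h9)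
    have hcZ : c ∈ cfix (coreCent M.d) (M.t * M.u) := mem_cfix.mpr ⟨hcd, (mem_cfix.mp hc).2⟩
    have hcZ := (SetLike.ext_iff.mp hEq c).mpr hcZ
    exact (show Commute x c from Subgroup.mem_centralizer_iff.mp hcZ.1.2 x hx).symm
  have hdvd : Nat.card (cfix Z M.u) ∣ 3 ^ 2 := (M.part FZ.odd M.u_sq M.u_ne_one).1
  obtain ⟨k, hk, hk'⟩ := (Nat.dvd_prime_pow Nat.prime_three).mp hdvd
  have hk1 : Nat.card (cfix Z M.u) = 3 := by interval_cases k <;> simp_all
  rw [FZ.card, hZt, ← heq, hk1, Nat.card_zpowers, orderOf_eq_prime M.d_cube M.d_ne]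

include K in
/-- The identification. -/
theorem iso_chevG2 : Nonempty (G ≃* ↥(Cfsg.Lie.chevG2.group (ZMod 3))) := by
  have h243 : ∀ L : Hyp G, Nat.card (coreCent L.d) = 243 := fun L => L.card_243 fun N => N.not_deg
  obtain ⟨M, -, hu, htu, y, hy, hy1, hcy, hnc⟩ := K.exists_central h243
  obtain ⟨L, hLt, hLd⟩ := M.exists_frame_u h243 hu htu hy hy1
  have hUd : M.U ≤ Subgroup.centralizer ({M.d} : Set G) :=
    sup_le (coreCent_le _) (Subgroup.zpowers_le.mpr (Subgroup.mem_centralizer_singleton_iff.mpr M.d_comm_e.symm.eq))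
  have hUy : M.U ≤ Subgroup.centralizer ({y} : Set G) :=
    sup_le (fun x hx => Subgroup.mem_centralizer_singleton_iff.mpr (hcy x hx).symm.eq)
      (Subgroup.zpowers_le.mpr (Subgroup.mem_centralizer_singleton_iff.mpr (M.R_comm_e hy.1).symm.eq))
  have toNorm : ∀ z : G, Subgroup.centralizer ({z} : Set G) ≤ Subgroup.normalizer (Subgroup.zpowers z : Set G) :=
    fun z g hg => CfsgLib.SymNineThree.mem_normalizer_of_le _ fun m hm => by
      obtain ⟨n, rfl⟩ := Subgroup.mem_zpowers_iff.mp hm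
      rw [((show Commute g z from Subgroup.mem_centralizer_singleton_iff.mp hg).zpow_right n).eq, mul_inv_cancel_right]
      exact zpow_mem (Subgroup.mem_zpowers _) n
  refine iso_of_frames M L (M.big h243) (L.big h243) (U := M.U) (by rw [M.card_U, h243 M])
    (hUd.trans (toNorm _)) (hLd ▸ hUy.trans (toNorm _))
    (hLd ▸ M.not_conj_center h243 hy.1 hy1 (mem_cfix.mp hy).2 ⟨L, hLt, hLd⟩ hcy hnc) fun h => ?_
  have he : M.e ∈ coreCent L.d := L.mem_core_of_inverted (hLd ▸ (M.R_comm_e hy.1).symm)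
    (odd_order_of_cube M.e_cube) (hLt ▸ M.u_e)
  rw [← h] at he
  exact sU_ne_one (M.core_d_inf_β he)

end Hyp

end CfsgLib.GTwoInvol
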