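import Mathlib

/-!
Groups with an involution centralizer `(SL(2,3) * SL(2,3)).2` and one class of involutions: the
model of the centralizer.
-/

set_option autoImplicit false

namespace CfsgLib.GTwoInvol

open Matrix

/-- `SL(2,3)`. -/
abbrev SL23 := Matrix.SpecialLinearGroup (Fin 2) (ZMod 3)

/-- The central involution. -/
def sZ : SL23 := ⟨!![2, 0; 0, 2], by decide⟩

/-- The standard element of order three. -/
def sU : SL23 := ⟨!![1, 1; 0, 1], by decide⟩

/-- The opposite element of order three. -/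
def sL : SL23 := ⟨!![1, 0; 1, 1], by decide⟩

/-- The element of order four exchanging the two root groups. -/
def sJ : SL23 := ⟨!![0, 1; 2, 0], by decide⟩

/-- `diag(1,-1)`. -/
def epsM : Matrix (Fin 2) (Fin 2) (ZMod 3) := !![1, 0; 0, 2]

theorem epsM_sq : epsM * epsM = 1 := by decide

/-- Conjugation by `diag(1,-1)`. -/
def delta : SL23 →* SL23 where
  toFun x := ⟨epsM * x.1 * epsM, by
    rw [Matrix.det_mul, Matrix.det_mul, x.2, mul_one, ← Matrix.det_mul, epsM_sq, Matrix.det_one]⟩
  map_one' := Subtype.ext (by simp [epsM_sq])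
  map_mul' x y := Subtype.ext (by
    change epsM * (x.1 * y.1) * epsM = epsM * x.1 * epsM * (epsM * y.1 * epsM)
    rw [mul_assoc (epsM * x.1) epsM, ← mul_assoc epsM (epsM * y.1), ← mul_assoc epsM epsM, epsM_sq]
    simp only [one_mul, mul_assoc])

theorem delta_delta : ∀ x : SL23, delta (delta x) = x := by decide +kernel

theorem delta_sU : delta sU = sU⁻¹ := by decide +kernel

theorem delta_sL : delta sL = sL⁻¹ := by decide +kernel

theorem delta_sJ : delta sJ = sZ * sJ := by decide +kernel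

theorem delta_sZ : delta sZ = sZ := by decide +kernel

theorem sZ_sq : sZ * sZ = 1 := by decide +kernel

theorem sZ_ne_one : sZ ≠ 1 := by decide +kernel

theorem sU_cube : sU ^ 3 = 1 := by decide +kernel

theorem sU_ne_one : sU ≠ 1 := by decide +kernel

theorem sZ_comm : ∀ x : SL23, sZ * x = x * sZ := by decide +kernel

theorem center_cases : ∀ x : SL23, x * sU = sU * x → x * sL = sL * x → x = 1 ∨ x = sZ := by
  decide +kernel

theorem sU_conj_ne_inv : ∀ x : SL23, x * sU * x⁻¹ ≠ sU⁻¹ := by decide +kernel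

variable {G : Type*} [Group G]

/-- The hypothesis: the centralizer of the involution `α sZ` is `(α SL23 * β SL23)⟨u⟩`. -/
structure Hyp (G : Type*) [Group G] where
  α : SL23 →* G
  β : SL23 →* G
  u : G
  α_inj : Function.Injective α
  β_inj : Function.Injective β
  z_eq : α sZ = β sZ
  comm : ∀ x y, Commute (α x) (β y)
  u_sq : u * u = 1
  u_α : ∀ x, u * α x = α (delta x) * u
  u_β : ∀ x, u * β x = β (delta x) * u
  range : ∀ g : G, Commute g (α sZ) → ∃ x y, g = α x * β y ∨ g = α x * β y * u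
  one_class : ∀ i : G, i * i = 1 → i ≠ 1 → ∃ g : G, g * α sZ * g⁻¹ = i
  odd_index : Odd (Subgroup.centralizer {α sZ}).index
  seven : 7 ∣ Nat.card G

namespace Hyp

variable (K : Hyp G)

/-- The involution. -/
def t : G := K.α sZ

/-- The element of order three of the first factor. -/
def d : G := K.α sU

/-- The element of order three of the second factor. -/
def e : G := K.β sU

/-- The centralizer of `t`. -/
def H : Subgroup G := Subgroup.centralizer {K.t}

/-- The Sylow 3-subgroup `⟨d⟩ × ⟨e⟩` of the centralizer of `t`. -/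
def E : Subgroup G := Subgroup.zpowers K.d ⊔ Subgroup.zpowers K.e

/-- The centralizer of the Sylow 3-subgroup. -/
def CE : Subgroup G := Subgroup.centralizer {K.d} ⊓ Subgroup.centralizer {K.e}

/-- The degenerate case: the centralizer of `E` lies in the centralizer of `t`. -/
def Deg : Prop := K.CE ≤ K.H

theorem mem_H {g : G} : g ∈ K.H ↔ Commute g K.t := Subgroup.mem_centralizer_singleton_iff

theorem t_eq_β : K.t = K.β sZ := K.z_eq

theorem t_sq : K.t * K.t = 1 := by rw [t, ← map_mul, sZ_sq, map_one]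

theorem t_ne_one : K.t ≠ 1 := fun h => sZ_ne_one (K.α_inj (by rw [map_one]; exact h))

theorem t_inv : K.t⁻¹ = K.t := inv_eq_of_mul_eq_one_right K.t_sq

theorem u_inv : K.u⁻¹ = K.u := inv_eq_of_mul_eq_one_right K.u_sq

theorem t_comm_α (x : SL23) : Commute K.t (K.α x) := by
  unfold Commute SemiconjBy t; rw [← map_mul, ← map_mul, sZ_comm]

theorem t_comm_β (x : SL23) : Commute K.t (K.β x) := by
  rw [t_eq_β]; unfold Commute SemiconjBy; rw [← map_mul, ← map_mul, sZ_comm]

theorem t_comm_u : Commute K.t K.u := by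
  unfold Commute SemiconjBy t; rw [K.u_α, delta_sZ]

theorem α_mem_H (x : SL23) : K.α x ∈ K.H := K.mem_H.mpr (K.t_comm_α x).symm

theorem β_mem_H (x : SL23) : K.β x ∈ K.H := K.mem_H.mpr (K.t_comm_β x).symm

theorem u_mem_H : K.u ∈ K.H := K.mem_H.mpr K.t_comm_u.symm

theorem u_conj_α (x : SL23) : K.u * K.α x * K.u⁻¹ = K.α (delta x) := by
  rw [K.u_α, mul_inv_cancel_right]

theorem u_conj_β (x : SL23) : K.u * K.β x * K.u⁻¹ = K.β (delta x) := by
  rw [K.u_β, mul_inv_cancel_right]

theorem u_d : K.u * K.d * K.u⁻¹ = K.d⁻¹ := by rw [d, K.u_conj_α, delta_sU, map_inv]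

theorem u_e : K.u * K.e * K.u⁻¹ = K.e⁻¹ := by rw [e, K.u_conj_β, delta_sU, map_inv]

theorem d_cube : K.d ^ 3 = 1 := by rw [d, ← map_pow, sU_cube, map_one]

theorem e_cube : K.e ^ 3 = 1 := by rw [e, ← map_pow, sU_cube, map_one]

theorem d_comm_e : Commute K.d K.e := K.comm _ _

theorem t_comm_d : Commute K.t K.d := K.t_comm_α _

theorem t_comm_e : Commute K.t K.e := K.t_comm_β _

/-- The two factors meet in the centre. -/
theorem α_eq_β {x y : SL23} (h : K.α x = K.β y) : (x = 1 ∧ y = 1) ∨ (x = sZ ∧ y = sZ) := by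
  have hc : ∀ z : SL23, x * z = z * x := fun z => K.α_inj (by
    rw [map_mul, map_mul, h]; exact (K.comm z y).symm.eq)
  rcases center_cases x (hc _) (hc _) with hx | hx
  · left; refine ⟨hx, K.β_inj ?_⟩; rw [← h, hx, map_one, map_one]
  · right; refine ⟨hx, K.β_inj ?_⟩; rw [← h, hx]; exact K.z_eq

theorem pair_eq {x y x' y' : SL23} (h : K.α x * K.β y = K.α x' * K.β y') :
    (x = x' ∧ y = y') ∨ (x = x' * sZ ∧ y = y' * sZ) := by
  have h2 : K.α (x'⁻¹ * x) = K.β (y' * y⁻¹) := by
    rw [map_mul, map_mul, map_inv, map_inv, inv_mul_eq_iff_eq_mul, ← mul_assoc,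
      eq_mul_inv_iff_mul_eq, h]
  rcases K.α_eq_β h2 with ⟨h3, h4⟩ | ⟨h3, h4⟩
  · exact Or.inl ⟨(inv_mul_eq_one.mp h3).symm, (mul_inv_eq_one.mp h4).symm⟩
  · refine Or.inr ⟨inv_mul_eq_iff_eq_mul.mp h3, ?_⟩
    rw [mul_inv_eq_iff_eq_mul.mp h4, mul_assoc, ← sZ_comm y, ← mul_assoc, sZ_sq, one_mul]

theorem pair_ne_u (x y : SL23) : K.α x * K.β y ≠ K.u := by
  intro h
  have h1 : (K.α x * K.β y) * K.d * (K.α x * K.β y)⁻¹ = K.α (x * sU * x⁻¹) := by
    rw [d, mul_assoc (K.α x), ← (K.comm sU y).eq, map_mul, map_mul, map_inv]; group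
  rw [h, K.u_d, d, ← map_inv] at h1
  exact sU_conj_ne_inv x (K.α_inj h1).symm

theorem pair_mem_H (x y : SL23) : K.α x * K.β y ∈ K.H := mul_mem (K.α_mem_H x) (K.β_mem_H y)

theorem exists_pair {g : G} (hg : g ∈ K.H) :
    ∃ x y, g = K.α x * K.β y ∨ g = K.α x * K.β y * K.u := K.range g (K.mem_H.mp hg)

theorem u_comm_iff {x y : SL23} : Commute (K.α x * K.β y) K.u ↔
    (delta x = x ∧ delta y = y) ∨ (delta x = x * sZ ∧ delta y = y * sZ) := by
  have key : K.u * (K.α x * K.β y) = K.α (delta x) * K.β (delta y) * K.u := by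
    rw [← mul_assoc, K.u_α, mul_assoc, K.u_β, mul_assoc]
  constructor
  · intro h
    refine K.pair_eq (mul_right_cancel (b := K.u) ?_)
    rw [← key, h.eq]
  · intro h
    refine (key.trans ?_ : K.u * _ = _).symm
    rcases h with ⟨h1, h2⟩ | ⟨h1, h2⟩ <;> rw [h1, h2]
    rw [map_mul, map_mul, mul_assoc (K.α x), ← mul_assoc (K.α sZ), (K.comm sZ y).eq, mul_assoc (K.β y),
      K.z_eq, ← map_mul K.β sZ sZ, sZ_sq, map_one, mul_one]

/-- The symmetry exchanging the factors. -/
def swap : Hyp G where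
  α := K.β
  β := K.α
  u := K.u
  α_inj := K.β_inj
  β_inj := K.α_inj
  z_eq := K.z_eq.symm
  comm x y := (K.comm y x).symm
  u_sq := K.u_sq
  u_α := K.u_β
  u_β := K.u_α
  range g hg := by
    obtain ⟨x, y, h⟩ := K.range g (by rwa [K.z_eq])
    refine ⟨y, x, ?_⟩
    rwa [(K.comm x y).symm.eq]
  one_class := by rw [← K.z_eq]; exact K.one_class
  odd_index := by rw [← K.z_eq]; exact K.odd_index
  seven := K.seven

/-- The symmetry inverting the second element of order three. -/
def flip : Hyp G where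
  α := K.α
  β := K.β.comp delta
  u := K.u
  α_inj := K.α_inj
  β_inj := K.β_inj.comp (Function.LeftInverse.injective delta_delta)
  z_eq := by rw [MonoidHom.comp_apply, delta_sZ]; exact K.z_eq
  comm x y := K.comm x _
  u_sq := K.u_sq
  u_α := K.u_α
  u_β x := K.u_β _
  range g hg := by
    obtain ⟨x, y, h⟩ := K.range g hg
    exact ⟨x, delta y, by simpa [delta_delta] using h⟩
  one_class := K.one_class
  odd_index := K.odd_index
  seven := K.seven

/-- The symmetry exchanging the two outer involutions. -/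
def twist : Hyp G where
  α := K.α
  β := K.β
  u := K.t * K.u
  α_inj := K.α_inj
  β_inj := K.β_inj
  z_eq := K.z_eq
  comm := K.comm
  u_sq := by rw [← mul_assoc, mul_assoc K.t, ← K.t_comm_u.eq, ← mul_assoc, K.t_sq, one_mul, K.u_sq]
  u_α x := by rw [mul_assoc, K.u_α, ← mul_assoc, (K.t_comm_α _).eq, mul_assoc]
  u_β x := by rw [mul_assoc, K.u_β, ← mul_assoc, (K.t_comm_β _).eq, mul_assoc]
  range g hg := by
    obtain ⟨x, y, h | h⟩ := K.range g hg
    · exact ⟨x, y, Or.inl h⟩
    · refine ⟨x * sZ, y, Or.inr ?_⟩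
      rw [h, map_mul, mul_assoc (K.α x) (K.α sZ), (K.comm sZ y).eq]
      change _ = K.α x * (K.β y * K.t) * (K.t * K.u)
      rw [mul_assoc (K.α x) (K.β y * K.t), mul_assoc (K.β y) K.t, ← mul_assoc K.t, K.t_sq, one_mul,
        mul_assoc]
  one_class := K.one_class
  odd_index := K.odd_index
  seven := K.seven

/-- Conjugation by an element of the group. -/
def conj [Finite G] (g : G) : Hyp G where
  α := (MulAut.conj g).toMonoidHom.comp K.α
  β := (MulAut.conj g).toMonoidHom.comp K.β
  u := MulAut.conj g K.u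
  α_inj := (MulAut.conj g).injective.comp K.α_inj
  β_inj := (MulAut.conj g).injective.comp K.β_inj
  z_eq := congrArg (MulAut.conj g) K.z_eq
  comm x y := (K.comm x y).map (MulAut.conj g).toMonoidHom
  u_sq := by rw [← map_mul, K.u_sq, map_one]
  u_α x := by
    change MulAut.conj g _ * MulAut.conj g _ = MulAut.conj g _ * MulAut.conj g _
    rw [← map_mul, ← map_mul, K.u_α]
  u_β x := by
    change MulAut.conj g _ * MulAut.conj g _ = MulAut.conj g _ * MulAut.conj g _
    rw [← map_mul, ← map_mul, K.u_β]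
  range a ha := by
    have hb : Commute (g⁻¹ * a * g) (K.α sZ) := by
      simpa [mul_assoc] using ha.map (MulAut.conj g).symm.toMonoidHom
    obtain ⟨x, y, h⟩ := K.range _ hb
    refine ⟨x, y, ?_⟩
    have e1 : ∀ p q : G, g * p * g⁻¹ * (g * q * g⁻¹) = g * (p * q) * g⁻¹ := fun p q => by group
    have ea : a = g * (g⁻¹ * a * g) * g⁻¹ := by group
    rcases h with h | h
    · refine Or.inl (ea.trans ?_); rw [h]; exact (e1 _ _).symm
    · refine Or.inr (ea.trans ?_); rw [h]; simp only [MonoidHom.comp_apply, MulEquiv.toMonoidHom_eq_coe,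
        MonoidHom.coe_coe, MulAut.conj_apply, e1]
  one_class i hi hne := by
    obtain ⟨a, ha⟩ := K.one_class i hi hne
    exact ⟨a * g⁻¹, by simp [← ha]; group⟩
  odd_index := by
    have h : Subgroup.centralizer {((MulAut.conj g).toMonoidHom.comp K.α) sZ} =
        (Subgroup.centralizer {K.α sZ}).map (MulAut.conj g).toMonoidHom := by
      ext a
      rw [Subgroup.mem_map_equiv, Subgroup.mem_centralizer_singleton_iff,
        Subgroup.mem_centralizer_singleton_iff, ← (MulAut.conj g).symm.injective.eq_iff, map_mul, map_mul]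
      simp only [MonoidHom.comp_apply, MulEquiv.toMonoidHom_eq_coe, MonoidHom.coe_coe, MulEquiv.symm_apply_apply]
    rw [h]
    exact (Subgroup.index_map_equiv _ (MulAut.conj g)).symm ▸ K.odd_index
  seven := K.seven

theorem t_swap : K.swap.t = K.t := K.z_eq.symm

theorem d_swap : K.swap.d = K.e := rfl

theorem e_swap : K.swap.e = K.d := rfl

theorem t_flip : K.flip.t = K.t := rfl

theorem d_flip : K.flip.d = K.d := rfl

theorem e_flip : K.flip.e = K.e⁻¹ := by
  change K.β (delta sU) = _; rw [delta_sU, map_inv]; rfl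

theorem t_twist : K.twist.t = K.t := rfl

theorem u_twist : K.twist.u = K.t * K.u := rfl

end Hyp

end CfsgLib.GTwoInvol
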