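import Cfsg.Agent.Lib.GTwoInvol.Base
import Cfsg.Agent.Lib.GTwoInvol.FixE

/-!
The core of `C(d)` does not have order `27` when `C(E)` is not inside `C(t)`.
-/

set_option autoImplicit false
set_option linter.style.haveILetI false
set_option linter.unusedSectionVars false

namespace CfsgLib.GTwoInvol

open CfsgLib.GTwoTwoLocal (coreCent conj_mem_coreCent odd_coreCent coreCent_le mem_coreCent_self
  mem_normalizer_coreCent card_cent_conj)

variable {G : Type*} [Group G] [Finite G]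

theorem coreCent_inv (d : G) : coreCent d⁻¹ = coreCent d := by
  have h : Subgroup.centralizer ({d⁻¹} : Set G) = Subgroup.centralizer ({d} : Set G) := by
    ext g
    rw [Subgroup.mem_centralizer_singleton_iff, Subgroup.mem_centralizer_singleton_iff]
    exact (Commute.inv_right_iff : Commute g d⁻¹ ↔ Commute g d)
  unfold CfsgLib.GTwoTwoLocal.coreCent
  rw [h]

namespace Hyp

variable (K : Hyp G)

theorem card_T_nine {T : Subgroup G} {a b : G} (hdvd : Nat.card T ∣ 9) (ha : a ∈ T) (hb : b ∈ T)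
    (ha3 : a ^ 3 = 1) (ha1 : a ≠ 1) (hab : b ∉ Subgroup.zpowers a) : Nat.card T = 9 := by
  have hle : Subgroup.zpowers a ≤ T := Subgroup.zpowers_le.mpr ha
  have hlt : Nat.card (Subgroup.zpowers a) < Nat.card T := by
    refine lt_of_le_of_ne (Subgroup.card_le_of_le hle) fun h => hab ?_
    rw [Subgroup.eq_of_le_of_card_ge hle h.ge]; exact hb
  haveI : Fact (Nat.Prime 3) := ⟨Nat.prime_three⟩
  rw [Nat.card_zpowers, orderOf_eq_prime ha3 ha1] at hlt
  have := Nat.le_of_dvd (by norm_num) hdvd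
  interval_cases h : Nat.card T <;> simp_all (config := { decide := true })

theorem ne_one_of_card {X : Subgroup G} (h : Nat.card X ≠ 1) : ∃ x ∈ X, x ≠ 1 := by
  by_contra hno
  push Not at hno
  exact h (Subgroup.card_eq_one.mpr ((Subgroup.eq_bot_iff_forall _).mpr hno))

theorem u_inv_E_three {x : G} (hx : x ∈ K.E) : K.u * x * K.u⁻¹ = x⁻¹ := by
  obtain ⟨i, j, rfl⟩ := K.mem_E_iff.mp hx
  rw [K.u_pair, mul_inv_cancel_right, K.pair_inv, map_pow delta, map_pow delta, delta_sU, inv_pow, inv_pow]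

theorem cube_fix_tu {g : G} (h3 : g ^ 3 = 1) (ht : Commute g K.t) (hu : Commute g K.u) : g = 1 := by
  obtain ⟨x, y, hx, hy, rfl⟩ := K.inside_of_cube (K.mem_H.mpr ht) h3
  rcases K.u_comm_iff.mp hu with ⟨h1, h2⟩ | ⟨h1, h2⟩
  · have key : ∀ x : SL23, delta x = x → x ^ 3 = 1 → x = 1 := by decide +kernel
    rw [key x h1 hx, key y h2 hy, map_one, map_one, one_mul]
  · exfalso
    have key : ∀ x : SL23, delta x = x * sZ → x ^ 3 ≠ 1 := by decide +kernel
    exact key x h1 hx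

/-- Both parts of `C(E)` are small when `|O(C(d))| = 27`. -/
theorem card_R_three (hnd : ¬ K.Deg) (h27 : Nat.card (coreCent K.d) = 27) :
    Nat.card K.R = 27 ∧ Nat.card (coreCent K.e) = 27 := by
  haveI : Fact (Nat.Prime 3) := ⟨Nat.prime_three⟩
  have hR9 : 9 < Nat.card K.R := by
    by_contra hle
    have hEq : K.E = K.R := Subgroup.eq_of_le_of_card_ge K.E_le_R (by rw [K.card_E_eq]; omega)
    refine hnd fun g hg => ?_
    rcases K.decomp_CE hg with h | h
    · exact K.E_le_H (hEq ▸ h)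
    · have := mul_mem (K.E_le_H (hEq ▸ h)) (K.mem_H.mpr (Commute.refl K.t))
      rwa [mul_assoc, K.t_sq, mul_one] at this
  have main : ∀ L : Hyp G, L.R = K.R → ∀ n, Nat.card (coreCent L.d) = n →
      (n = 3 → False) ∧ (n = 27 → Nat.card K.R = 27) ∧ (n = 243 → 81 ≤ Nat.card K.R) := by
    intro L hL n hn
    have hR := L.card_R_d
    rw [hL] at hR
    have hsq := L.card_cent_e_sq_le
    have hdvd : Nat.card ↥(coreCent L.d ⊓ Subgroup.centralizer ({L.e} : Set G)) ∣ n :=
      hn ▸ Subgroup.card_dvd_of_le inf_le_left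
    set m := Nat.card ↥(coreCent L.d ⊓ Subgroup.centralizer ({L.e} : Set G)) with hm
    refine ⟨fun h => ?_, fun h => ?_, fun h => ?_⟩
    · subst h; have := Nat.le_of_dvd (by norm_num) hdvd; omega
    · subst h
      rw [hn] at hsq
      have hm9 : m ≤ 9 := by nlinarith
      obtain ⟨k, hk, hk'⟩ := (Nat.dvd_prime_pow Nat.prime_three).mp (show m ∣ 3 ^ 3 by simpa using hdvd)
      interval_cases k <;> omega
    · subst h; have : 27 ≤ m := hm ▸ L.card_cent_e_ge hn; omega
  have hR := (main K rfl 27 h27).2.1 rfl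
  refine ⟨hR, ?_⟩
  rcases K.swap.card_O_cases with h | h | h
  · exact ((main K.swap K.R_swap 3 h).1 rfl).elim
  · exact h
  · have := (main K.swap K.R_swap 243 h).2.2 rfl
    omega

theorem normalizes_R_of_U (h27 : Nat.card (coreCent K.d) = 27) (hR : Nat.card K.R = 27) :
    K.U ≤ Subgroup.normalizer (K.R : Set G) := by
  haveI : Fact (Nat.Prime 3) := ⟨Nat.prime_three⟩
  set N := K.U ⊓ Subgroup.normalizer (K.R : Set G) with hN
  obtain ⟨r, hr, hrR, hrn, -⟩ := K.four_U.grow K.isPGroup_U K.R_le_U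
    (fun h => by rw [h, K.card_U, h27] at hR; norm_num at hR) (fun _ => K.t_conj_R) (fun _ => K.u_conj_R)
  have hRN : K.R ≤ N := le_inf K.R_le_U Subgroup.le_normalizer
  have h81 : Nat.card K.U = 81 := by rw [K.card_U, h27]
  have hd : Nat.card N ∣ 3 ^ 4 := by
    have := Subgroup.card_dvd_of_le (inf_le_left : N ≤ K.U); rwa [h81] at this
  have hlt : 27 < Nat.card N := by
    rw [← hR]
    refine lt_of_le_of_ne (Subgroup.card_le_of_le hRN) fun h => hrR ?_
    rw [Subgroup.eq_of_le_of_card_ge hRN h.ge]; exact ⟨hr, hrn⟩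
  obtain ⟨k, hk, hk'⟩ := (Nat.dvd_prime_pow Nat.prime_three).mp hd
  have hcard : Nat.card N = 81 := by interval_cases k <;> omega
  exact (Subgroup.eq_of_le_of_card_ge (inf_le_left : N ≤ K.U) (by rw [h81, hcard])).ge.trans inf_le_right

/-- The element `q y q⁻¹` in `O(C(d)) ∩ C(tu)`. -/
theorem exists_c (h27 : Nat.card (coreCent K.d) = 27) (hR : Nat.card K.R = 27) {y : G}
    (hy : y ∈ cfix K.R K.u) (hy1 : y ≠ 1) (htu : cfix K.R (K.t * K.u) = ⊥) :
    ∃ q : G, q * K.t * q⁻¹ = K.t ∧ q * K.u * q⁻¹ = K.t * K.u ∧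
      q * y * q⁻¹ ∈ Subgroup.normalizer (K.R : Set G) ∧ (q * y * q⁻¹) ^ 3 = 1 ∧
      Commute (q * y * q⁻¹) (K.t * K.u) ∧ K.t * (q * y * q⁻¹) * K.t⁻¹ = (q * y * q⁻¹)⁻¹ ∧
      Commute (q * y * q⁻¹) K.d ∧ ¬ Commute (q * y * q⁻¹) K.e ∧ q * y * q⁻¹ ≠ 1 := by
  obtain ⟨q, hqd, hqt, hqu⟩ := K.exists_q
  have hy3 := (K.part K.odd_R K.u_sq K.u_ne_one).2.1 y hy
  have hyd : y ∈ coreCent K.d := K.mem_core_of_inverted (K.R_comm_d hy.1) (odd_order_of_cube hy3)
    (K.four_R.inv_of_part hy.1 (mem_cfix.mp hy).2 (K.part K.odd_R K.u_sq K.u_ne_one).2.2)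
  set c := q * y * q⁻¹ with hc
  have hcO : c ∈ coreCent K.d := K.conj_core hqd hyd
  have hctu : Commute c (K.t * K.u) := hqu ▸ (mem_cfix.mp hy).2.map (MulAut.conj q).toMonoidHom
  have hc3 : c ^ 3 = 1 := by rw [hc, conj_pow, hy3, mul_one, mul_inv_cancel]
  have hc1 : c ≠ 1 := fun h => hy1 (by rw [hc, mul_inv_eq_one, mul_eq_left] at h; exact h)
  refine ⟨q, conj_eq_self hqt, hqu, K.normalizes_R_of_U h27 hR (Subgroup.mem_sup_left hcO), hc3, hctu,
    K.twist.four_d.inv_of_part hcO hctu (K.twist.part (odd_coreCent _) K.tu_sq K.tu_ne_one).2.2,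
    Subgroup.mem_centralizer_singleton_iff.mp (coreCent_le _ hcO), fun he => hc1 ?_, hc1⟩
  refine Subgroup.mem_bot.mp (htu ▸ mem_cfix.mpr ⟨?_, hctu⟩)
  exact K.mem_R (K.mem_CE.mpr ⟨Subgroup.mem_centralizer_singleton_iff.mp (coreCent_le _ hcO), he⟩)
    (odd_order_of_cube hc3)

/-- The order of the core of a `de`-frame element centralising `E` and a Sylow group at `tu`. -/
theorem card_core_y {L : Hyp G} (hLt : L.t = K.u) {y : G} (hLy : L.d * L.e = y)
    (hyR : y ∈ cfix K.R K.u) {T : Subgroup G} (hT : Nat.card T = 9) (hT3 : ∀ o ∈ T, o ^ 3 = 1)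
    (hTc : ∀ o ∈ T, Commute o (K.t * K.u)) (hTy : ∀ o ∈ T, Commute o y) :
    Nat.card (coreCent y) = 729 := by
  have hyu := (mem_cfix.mp hyR).2
  have hinv : K.t * y * K.t⁻¹ = y⁻¹ :=
    K.four_R.inv_of_part hyR.1 hyu (K.part K.odd_R K.u_sq K.u_ne_one).2.2
  have hodd : Odd (Nat.card (coreCent y)) := odd_coreCent _
  have F : Four K.t K.u (coreCent y) :=
    ⟨K.t_sq, K.u_sq, K.t_comm_u, hodd, fun _ hx => conj_mem_coreCent (Or.inr hinv) hx,
      fun _ hx => conj_mem_coreCent (Or.inl (conj_eq_self hyu.symm)) hx, fun x hx ht hu =>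
        K.cube_fix_tu ((K.part hodd K.t_sq K.t_ne_one).2.1 x (mem_cfix.mpr ⟨hx, ht⟩)) ht hu⟩
  have hmem : ∀ g : G, g ^ 3 = 1 → Commute g y → g ∈ coreCent y := fun g h3 hc => by
    rw [← hLy] at hc ⊢; exact L.mem_core_de hc (odd_order_of_cube h3)
  have nine : ∀ (s : G) (hs : s * s = 1) (hs1 : s ≠ 1) (X : Subgroup G), Nat.card X = 9 →
      X ≤ cfix (coreCent y) s → Nat.card (cfix (coreCent y) s) = 9 := fun s hs hs1 X hX hle =>
    le_antisymm (Nat.le_of_dvd (by norm_num) (K.part hodd hs hs1).1)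
      (hX ▸ Subgroup.card_le_of_le hle)
  have hE3 : ∀ x ∈ K.E, x ^ 3 = 1 := (K.odd_cent K.odd_E K.t_sq K.t_ne_one fun _ hx => K.E_comm_t hx).2.1
  have hLE3 : ∀ x ∈ L.E, x ^ 3 = 1 := (K.odd_cent L.odd_E L.t_sq L.t_ne_one fun _ hx => L.E_comm_t hx).2.1
  rw [F.card, nine K.t K.t_sq K.t_ne_one K.E K.card_E_eq, nine K.u K.u_sq K.u_ne_one L.E L.card_E_eq,
    nine _ K.tu_sq K.tu_ne_one T hT]
  · exact fun o ho => mem_cfix.mpr ⟨hmem o (hT3 o ho) (hTy o ho), hTc o ho⟩
  · intro x hx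
    refine mem_cfix.mpr ⟨hmem x (hLE3 x hx) ?_, hLt ▸ L.E_comm_t hx⟩
    rw [← hLy]; exact (L.E_comm hx).1.mul_right (L.E_comm hx).2.1
  · intro x hx
    refine mem_cfix.mpr ⟨hmem x (hE3 x hx) ?_, K.E_comm_t hx⟩
    obtain ⟨i, j, rfl⟩ := K.mem_E_iff.mp hx
    rw [map_pow, map_pow]
    exact ((K.R_comm_d hyR.1).symm.pow_left _).mul_left ((K.R_comm_e hyR.1).symm.pow_left _)

/-- If `|O(de)| = 729`, the Sylow group of `C(u)` through `y` centralises `de`. -/
theorem E_le_of_729 (hd : Nat.card (coreCent (K.d * K.e)) = 729) {L : Hyp G} (hLt : L.t = K.u) {y : G}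
    (hLy : L.d * L.e = y) (hy : y ∈ cfix K.R K.u) {x : G} (hx : x ∈ L.E) : Commute x (K.d * K.e) := by
  have h := K.four_de.card
  rw [hd, show cfix (coreCent (K.d * K.e)) K.t = K.E from K.core_de_inf_H, K.card_E_eq] at h
  set X := cfix (coreCent (K.d * K.e)) K.u with hX
  obtain ⟨hXd, -, hXc⟩ := K.part (odd_coreCent (K.d * K.e)) K.u_sq K.u_ne_one
  have hXtu := Nat.le_of_dvd (by norm_num) (K.part (odd_coreCent (K.d * K.e)) K.tu_sq K.tu_ne_one).1
  have hX9 : Nat.card X = 9 := by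
    refine le_antisymm (Nat.le_of_dvd (by norm_num) hXd) ?_
    nlinarith [Nat.zero_le (Nat.card X)]
  have hyX : y ∈ X := mem_cfix.mpr ⟨K.R_le_core_de hy.1, (mem_cfix.mp hy).2⟩
  have hXE : X = L.E := by
    refine Subgroup.eq_of_le_of_card_ge (fun z hz => ?_) (by rw [L.card_E_eq, hX9])
    exact L.mem_E_of_de (hLt ▸ (mem_cfix.mp hz).2) (hLy ▸ hXc z hz y hyX)
      (odd_order_of_mem (odd_coreCent _) hz.1)
  rw [← hXE] at hx
  exact Subgroup.mem_centralizer_singleton_iff.mp (coreCent_le _ hx.1)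

/-- The case of a single fixed element at `u`. -/
theorem not27_aux (hnd : ¬ K.Deg) (h27 : Nat.card (coreCent K.d) = 27) (hu : cfix K.R K.u ≠ ⊥)
    (htu : cfix K.R (K.t * K.u) = ⊥) : False := by
  haveI : Fact (Nat.Prime 3) := ⟨Nat.prime_three⟩
  obtain ⟨hR, he27⟩ := K.card_R_three hnd h27
  obtain ⟨y, hy, hy1⟩ := ne_one_of_card (fun h => hu (Subgroup.card_eq_one.mp h))
  have hru : Nat.card (cfix K.R K.u) = 3 := by
    have h := K.card_R_parts
    rw [hR, htu, Subgroup.card_bot] at h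
    omega
  have hyu := (mem_cfix.mp hy).2
  have hy3 := (K.part K.odd_R K.u_sq K.u_ne_one).2.1 y hy
  have hty : K.t * y * K.t⁻¹ = y⁻¹ :=
    K.four_R.inv_of_part hy.1 hyu (K.part K.odd_R K.u_sq K.u_ne_one).2.2
  have hyE : ∀ x ∈ K.E, Commute x y := by
    intro x hx
    obtain ⟨i, j, rfl⟩ := K.mem_E_iff.mp hx
    rw [map_pow, map_pow]
    exact ((K.R_comm_d hy.1).symm.pow_left _).mul_left ((K.R_comm_e hy.1).symm.pow_left _)
  -- `y` is of type `de` in a frame at `u`
  obtain ⟨g, hgt, hg⟩ := K.exists_frame K.u_sq K.u_ne_one hy3 hy1 hyu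
  have notd : ∀ M : Hyp G, M.t = K.u → M.d = y → Nat.card (coreCent M.d) ≠ 27 := by
    intro M hMt hMd h
    have hs : K.t ∈ M.H := M.mem_H.mpr (hMt ▸ K.t_comm_u)
    have hc := M.card_O hs K.t_sq (hMd ▸ hty)
    rw [h] at hc
    have hle : K.E ≤ cfix (coreCent M.d) K.t := fun x hx => mem_cfix.mpr
      ⟨M.mem_core_of_inverted (hMd ▸ hyE x hx) (odd_order_of_mem K.odd_E hx) (hMt ▸ K.u_inv_E_three hx),
        K.E_comm_t hx⟩
    have h9 := Subgroup.card_le_of_le hle
    rw [K.card_E_eq] at h9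
    nlinarith
  obtain ⟨L, hLt, hLy⟩ : ∃ L : Hyp G, L.t = K.u ∧ L.d * L.e = y := by
    rcases hg with (h | h) | (h | h)
    · exact (notd (K.conj g) hgt h (by rw [d_conj, card_coreCent_conj]; exact h27)).elim
    · exact (notd (K.swap.conj g) (by rw [t_conj, t_swap]; exact hgt) h
        (by rw [d_conj, card_coreCent_conj]; exact he27)).elim
    · exact ⟨K.conj g, hgt, by rw [d_conj, e_conj, ← h]; group⟩
    · exact ⟨K.flip.conj g, by rw [t_conj, t_flip]; exact hgt, by
        rw [d_conj, e_conj, d_flip, e_flip, ← h]; group⟩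
  -- the two elements at `tu`
  obtain ⟨q, -, hqu, na, a3, atu, ainv, ad, ae, a1⟩ := K.exists_c h27 hR hy hy1 htu
  obtain ⟨q', -, hqu', nb, b3, btu, binv, be, bd, b1⟩ := K.swap.exists_c (y := y) he27
    (by rw [K.R_swap]; exact hR) (by rw [K.R_swap]; exact hy) hy1
    (by rw [K.R_swap, t_swap]; exact htu)
  rw [K.t_swap] at hqu' btu binv
  rw [K.R_swap] at nb
  rw [K.d_swap] at be
  rw [K.e_swap] at bd
  change q' * K.u * q'⁻¹ = K.t * K.u at hqu'
  change Commute (q' * y * q'⁻¹) (K.t * K.u) at btu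
  set a := q * y * q⁻¹ with ha
  set b := q' * y * q'⁻¹ with hb
  have hab : Commute a b := K.norm_commute K.cfix_R_t
    (by rw [hru, K.cfix_R_t, K.card_E_eq]; norm_num) na nb a3 b3 atu btu ainv binv
  set T := Subgroup.zpowers a ⊔ Subgroup.zpowers b with hTdef
  have haT : a ∈ T := Subgroup.mem_sup_left (Subgroup.mem_zpowers _)
  have hbT : b ∈ T := Subgroup.mem_sup_right (Subgroup.mem_zpowers _)
  have hTn : T ≤ Subgroup.normalizer (K.R : Set G) :=
    sup_le (Subgroup.zpowers_le.mpr na) (Subgroup.zpowers_le.mpr nb)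
  have hTcent : ∀ {z : G}, Commute a z → Commute b z → ∀ o ∈ T, Commute o z := by
    intro z h1 h2 o ho
    have : T ≤ Subgroup.centralizer ({z} : Set G) :=
      sup_le (Subgroup.zpowers_le.mpr (Subgroup.mem_centralizer_singleton_iff.mpr h1.eq))
        (Subgroup.zpowers_le.mpr (Subgroup.mem_centralizer_singleton_iff.mpr h2.eq))
    exact Subgroup.mem_centralizer_singleton_iff.mp (this ho)
  have hTtu := hTcent atu btu
  have hTodd : Odd (Nat.card T) := by
    have hp : IsPGroup 3 T := IsPGroup.to_sup_of_normal_left'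
      (IsPGroup.of_card (n := 1) (by rw [Nat.card_zpowers, orderOf_eq_prime a3 a1, pow_one]))
      (IsPGroup.of_card (n := 1) (by rw [Nat.card_zpowers, orderOf_eq_prime b3 b1, pow_one]))
      (Subgroup.zpowers_le.mpr (CfsgLib.SymNineThree.mem_normalizer_of_le _ fun m hm => by
        obtain ⟨n, rfl⟩ := Subgroup.mem_zpowers_iff.mp hm
        rw [((hab.symm).zpow_right n).eq, mul_inv_cancel_right]
        exact zpow_mem (Subgroup.mem_zpowers _) n))
    obtain ⟨n, hn⟩ := hp.exists_card_eq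
    rw [hn]; exact Odd.pow (by decide)
  obtain ⟨hTd, hT3, hTc⟩ := K.odd_cent hTodd K.tu_sq K.tu_ne_one hTtu
  have hab' : b ∉ Subgroup.zpowers a := by
    intro h
    obtain ⟨n, hn⟩ := Subgroup.mem_zpowers_iff.mp h
    exact bd (hn ▸ ad.zpow_left n)
  have hT9 : Nat.card T = 9 := card_T_nine hTd haT hbT a3 a1 hab'
  have hTinv : ∀ o ∈ T, K.t * o * K.t⁻¹ = o⁻¹ := by
    let I : Subgroup G :=
      { carrier := {o | o ∈ T ∧ K.t * o * K.t⁻¹ = o⁻¹}
        one_mem' := ⟨one_mem _, by simp⟩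
        mul_mem' := fun {p r} hp hr => ⟨mul_mem hp.1 hr.1, by
          rw [show K.t * (p * r) * K.t⁻¹ = K.t * p * K.t⁻¹ * (K.t * r * K.t⁻¹) by group, hp.2, hr.2,
            _root_.mul_inv_rev, (hTc _ (inv_mem hp.1) _ (inv_mem hr.1)).eq]⟩
        inv_mem' := fun {p} hp => ⟨inv_mem hp.1, by rw [← conj_inv, hp.2]⟩ }
    have : T ≤ I := sup_le (Subgroup.zpowers_le.mpr ⟨haT, ainv⟩) (Subgroup.zpowers_le.mpr ⟨hbT, binv⟩)
    exact fun o ho => (this ho).2
  -- `T` centralises `y`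
  have hdisj : ∀ o ∈ T, o ∈ K.R → o = 1 := fun o ho hoR =>
    Subgroup.mem_bot.mp (htu ▸ mem_cfix.mpr ⟨hoR, hTtu o ho⟩)
  set P := K.R ⊔ T with hP
  have hPmem : ∀ x ∈ P, ∃ r ∈ K.R, ∃ o ∈ T, x = r * o := by
    intro x hx
    have hx' : x ∈ ((P : Subgroup G) : Set G) := hx
    rw [hP, Subgroup.coe_mul_of_right_le_normalizer_left _ _ hTn] at hx'
    obtain ⟨r, hr, o, ho, rfl⟩ := hx'
    exact ⟨r, hr, o, ho, rfl⟩
  have fixP : ∀ s : G, (∀ r ∈ K.R, s * r * s⁻¹ ∈ K.R) → ∀ r ∈ K.R, ∀ o ∈ T,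
      (s * o * s⁻¹ = o⁻¹) → Commute (r * o) s → o = 1 := by
    intro s hsR r hr o ho hso hc
    have h : s * r * s⁻¹ * o⁻¹ = r * o := by
      rw [← hso, show s * r * s⁻¹ * (s * o * s⁻¹) = s * (r * o) * s⁻¹ by group, conj_eq_self hc.symm]
    have h2 : o * o ∈ K.R := by
      rw [show o * o = r⁻¹ * (r * o) * o by group, ← h]
      simpa [mul_assoc] using mul_mem (inv_mem hr) (hsR r hr)
    exact hdisj o ho (mem_of_sq_mem (odd_order_of_cube (hT3 o ho)) h2)
  have hTu : ∀ o ∈ T, K.u * o * K.u⁻¹ = o⁻¹ := fun o ho => K.u_inverts (hTtu o ho) (hTinv o ho)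
  have hPp : IsPGroup 3 P := IsPGroup.to_sup_of_normal_left' K.isPGroup_R
    (IsPGroup.of_card (n := 2) (by rw [hT9]; rfl)) hTn
  have hPodd : Odd (Nat.card P) := by
    obtain ⟨n, hn⟩ := hPp.exists_card_eq
    rw [hn]; exact Odd.pow (by decide)
  have conjT : ∀ s : G, (∀ o ∈ T, s * o * s⁻¹ = o⁻¹) → ∀ x ∈ T, s * x * s⁻¹ ∈ T := fun s hs x hx =>
    (hs x hx).symm ▸ inv_mem hx
  have conjP : ∀ s : G, (∀ r ∈ K.R, s * r * s⁻¹ ∈ K.R) → (∀ o ∈ T, s * o * s⁻¹ = o⁻¹) →
      ∀ x ∈ P, s * x * s⁻¹ ∈ P := by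
    intro s h1 h2 x hx
    have : P ≤ P.comap (MulAut.conj s).toMonoidHom :=
      sup_le (fun r hr => Subgroup.mem_sup_left (h1 r hr))
        (fun o ho => Subgroup.mem_sup_right (conjT s h2 o ho))
    exact this hx
  have FP : Four K.t K.u P := ⟨K.t_sq, K.u_sq, K.t_comm_u, hPodd,
    conjP K.t (fun _ => K.t_conj_R) hTinv, conjP K.u (fun _ => K.u_conj_R) hTu, fun x hx ht hu => by
      obtain ⟨r, hr, o, ho, rfl⟩ := hPmem x hx
      obtain rfl := fixP K.t (fun _ => K.t_conj_R) r hr o ho (hTinv o ho) ht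
      rw [mul_one] at ht hu ⊢
      exact K.four_R.triv r hr ht hu⟩
  have hTP : T ≠ P := fun h => hy1 (hdisj y (h.symm ▸ Subgroup.mem_sup_left hy.1) hy.1)
  obtain ⟨r, hrP, hrT, hrn, hparts⟩ := FP.grow hPp le_sup_right hTP (conjT K.t hTinv) (conjT K.u hTu)
  have hTy : ∀ o ∈ T, Commute o y := by
    obtain ⟨r', hr', o, ho, rfl⟩ := hPmem r hrP
    have commR : ∀ w ∈ K.R, w ∈ Subgroup.normalizer (T : Set G) → ∀ p ∈ T, Commute p w := by
      intro w hw hwn p hp
      have h1 : p * w * p⁻¹ * w⁻¹ ∈ T := by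
        have := (Subgroup.mem_normalizer_iff.mp hwn p⁻¹).mp (inv_mem hp)
        simpa [mul_assoc] using mul_mem hp this
      have h2 : p * w * p⁻¹ * w⁻¹ ∈ K.R :=
        mul_mem ((Subgroup.mem_normalizer_iff.mp (hTn hp) w).mp hw) (inv_mem hw)
      exact mul_inv_eq_iff_eq_mul.mp (mul_inv_eq_one.mp (hdisj _ h1 h2))
    rcases hparts with hpt | hpu | hptu
    · exfalso
      obtain rfl := fixP K.t (fun _ => K.t_conj_R) r' hr' o ho (hTinv o ho) hpt
      rw [mul_one] at hrT hrn hpt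
      have hc := commR r' hr' hrn
      obtain ⟨i, j, rfl⟩ := K.mem_E_iff.mp (K.cfix_R_t ▸ mem_cfix.mpr ⟨hr', hpt⟩)
      have hz : ∀ (p x z : G), x ^ 3 = 1 → z ^ 3 = 1 → ∀ i j : Fin 3, Commute p x →
          Commute p (x ^ (i : ℕ) * z ^ (j : ℕ)) → ¬ Commute p z → (j : ℕ) = 0 := by
        intro p x z _ hz3 i j hpx hpxz hpz
        by_contra hj
        have h1 : Commute p (z ^ (j : ℕ)) := by
          have := (hpx.pow_right (i : ℕ)).inv_right.mul_right hpxz
          rwa [inv_mul_cancel_left] at this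
        rcases (by omega : (j : ℕ) = 1 ∨ (j : ℕ) = 2) with e | e
        · exact hpz (by rwa [e, pow_one] at h1)
        · refine hpz ?_
          have h2 := h1.pow_right 2
          rwa [e, ← pow_mul, pow_succ, hz3, one_mul] at h2
      have hw : K.α (sU ^ (i : ℕ)) * K.β (sU ^ (j : ℕ)) = K.d ^ (i : ℕ) * K.e ^ (j : ℕ) := by
        rw [map_pow, map_pow]; rfl
      rw [hw] at hc hrT
      have hj := hz a K.d K.e K.d_cube K.e_cube i j ad (hc a haT) ae
      have hi : (i : ℕ) = 0 := by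
        refine hz b K.e K.d K.e_cube K.d_cube j i be ?_ bd
        rw [(K.d_comm_e.symm.pow_pow (j : ℕ) (i : ℕ)).eq]; exact hc b hbT
      exact hrT (by rw [hi, hj, pow_zero, pow_zero, one_mul]; exact one_mem _)
    · obtain rfl := fixP K.u (fun _ => K.u_conj_R) r' hr' o ho (hTu o ho) hpu
      rw [mul_one] at hrT hrn hpu
      have hc := commR r' hr' hrn
      haveI : Fact (Nat.Prime 3) := ⟨Nat.prime_three⟩
      have hgen : (⟨y, hy⟩ : cfix K.R K.u) ∈
          Subgroup.zpowers (⟨r', mem_cfix.mpr ⟨hr', hpu⟩⟩ : cfix K.R K.u) :=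
        mem_zpowers_of_prime_card hru fun h => hrT (by
          rw [show r' = 1 from congrArg Subtype.val h]; exact one_mem _)
      obtain ⟨n, hn⟩ := Subgroup.mem_zpowers_iff.mp hgen
      intro p hp
      rw [show y = r' ^ n from (congrArg Subtype.val hn).symm]
      exact (hc p hp).zpow_right n
    · exfalso
      refine hrT (mul_mem ?_ ho)
      have hr'c : Commute r' (K.t * K.u) := by
        have := hptu.mul_left (hTtu o ho).inv_left
        rwa [mul_inv_cancel_right] at this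
      have h1 : r' ∈ cfix K.R (K.t * K.u) := mem_cfix.mpr ⟨hr', hr'c⟩
      rw [htu, Subgroup.mem_bot] at h1
      rw [h1]; exact one_mem _
  -- both elements of type `de` in `E` have cores of order 729
  have hy729 := K.card_core_y hLt hLy hy hT9 hT3 hTtu hTy
  have ha729 : Nat.card (coreCent a) = 729 := by rw [ha, card_coreCent_conj, hy729]
  have hb729 : Nat.card (coreCent b) = 729 := by rw [hb, card_coreCent_conj, hy729]
  obtain ⟨f, hft, hf⟩ := K.exists_frame K.tu_sq K.tu_ne_one a3 a1 atu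
  have both : Nat.card (coreCent (K.d * K.e)) = 729 ∧ Nat.card (coreCent (K.d * K.e⁻¹)) = 729 := by
    have main : ∀ M : Hyp G, Nat.card (coreCent M.d) = 27 → Nat.card (coreCent M.e) = 27 →
        f * M.t * f⁻¹ = K.t * K.u → f * (M.d * M.e) * f⁻¹ = a →
        Nat.card (coreCent (M.d * M.e)) = 729 ∧ Nat.card (coreCent (M.d * M.e⁻¹)) = 729 := by
      intro M h1 h2 hMt hMa
      refine ⟨by rw [← card_coreCent_conj f, hMa]; exact ha729, ?_⟩
      set N := M.conj f with hN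
      have hNt : N.t = K.t * K.u := hMt
      have hNa : N.d * N.e = a := by rw [hN, d_conj, e_conj, ← hMa]; group
      have hbE : b ∈ N.E := N.mem_E_of_de (hNt ▸ btu) (hNa ▸ hab.symm) (odd_order_of_cube b3)
      have hMb : f⁻¹ * b * f ∈ M.E := by
        obtain ⟨i, j, hij⟩ := N.mem_E_iff.mp hbE
        refine M.mem_E_iff.mpr ⟨i, j, ?_⟩
        rw [hij]
        simp only [hN, conj, MonoidHom.comp_apply, MulEquiv.toMonoidHom_eq_coe, MonoidHom.coe_coe,
          MulAut.conj_apply]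
        group
      have hcard : Nat.card (coreCent (f⁻¹ * b * f)) = 729 := by
        rw [show f⁻¹ * b * f = f⁻¹ * b * f⁻¹⁻¹ by group, card_coreCent_conj]; exact hb729
      obtain ⟨i, j, hij⟩ := M.mem_E_iff.mp hMb
      rw [hij, map_pow, map_pow] at hcard
      change Nat.card (coreCent (M.d ^ (i : ℕ) * M.e ^ (j : ℕ))) = 729 at hcard
      have hd2 : M.d ^ 2 = M.d⁻¹ := eq_inv_of_mul_eq_one_left (by rw [← pow_succ, M.d_cube])
      have he2 : M.e ^ 2 = M.e⁻¹ := eq_inv_of_mul_eq_one_left (by rw [← pow_succ, M.e_cube])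
      have hbeq : b = f * (M.d ^ (i : ℕ) * M.e ^ (j : ℕ)) * f⁻¹ := by
        rw [show M.d ^ (i : ℕ) * M.e ^ (j : ℕ) = f⁻¹ * b * f by rw [hij, map_pow, map_pow]; rfl]
        group
      have powa : ∀ n : ℕ, b = f * (M.d * M.e) ^ n * f⁻¹ → False := fun n h =>
        hab' (by rw [h, ← conj_pow, hMa]; exact pow_mem (Subgroup.mem_zpowers _) n)
      fin_cases i <;> fin_cases j <;>
        simp only [pow_zero, pow_one, one_mul, mul_one, hd2, he2] at hcard hbeq
      · exact (b1 (by rw [hbeq]; group)).elim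
      · rw [h2] at hcard; norm_num at hcard
      · rw [coreCent_inv, h2] at hcard; norm_num at hcard
      · rw [h1] at hcard; norm_num at hcard
      · exact (powa 1 (by rw [pow_one]; exact hbeq)).elim
      · exact hcard
      · rw [coreCent_inv, h1] at hcard; norm_num at hcard
      · rw [show M.d⁻¹ * M.e = (M.d * M.e⁻¹)⁻¹ by
          rw [_root_.mul_inv_rev, inv_inv, M.d_comm_e.inv_left.eq], coreCent_inv] at hcard
        exact hcard
      · refine (powa 2 ?_).elim
        rw [M.d_comm_e.mul_pow, hd2, he2]; exact hbeq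
    rcases hf with (h | h) | (h | h)
    · rw [← h, card_coreCent_conj, h27] at ha729; norm_num at ha729
    · rw [← h, card_coreCent_conj, he27] at ha729; norm_num at ha729
    · exact main K h27 he27 hft h
    · have h' := main K.flip h27 (by rw [e_flip, coreCent_inv]; exact he27) hft
        (by rw [d_flip, e_flip]; exact h)
      rw [d_flip, e_flip, inv_inv] at h'
      exact h'.symm
  have hle : L.E ≤ cfix K.R K.u := by
    intro x hx
    have h1 := K.E_le_of_729 both.1 hLt hLy hy hx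
    have h2 := K.flip.E_le_of_729 (L := L) (by rw [d_flip, e_flip]; exact both.2) hLt hLy
      (by rw [K.R_flip]; exact hy) hx
    rw [d_flip, e_flip] at h2
    have h3 : (K.d * K.e) * (K.d * K.e⁻¹) = K.d⁻¹ := by
      rw [show K.d * K.e * (K.d * K.e⁻¹) = K.d * (K.e * K.d) * K.e⁻¹ by group, ← K.d_comm_e.eq,
        ← mul_assoc, mul_inv_cancel_right]
      exact eq_inv_of_mul_eq_one_left (by rw [mul_assoc, ← pow_two, ← pow_succ', K.d_cube])
    have hxd : Commute x K.d := by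
      have := h1.mul_right h2
      rw [h3] at this
      exact Commute.inv_right_iff.mp this
    have hxe : Commute x K.e := by
      have := hxd.inv_right.mul_right h1
      rwa [inv_mul_cancel_left] at this
    exact mem_cfix.mpr ⟨K.mem_R (K.mem_CE.mpr ⟨hxd, hxe⟩) (odd_order_of_mem L.odd_E hx),
      hLt ▸ L.E_comm_t hx⟩
  have := Subgroup.card_le_of_le hle
  rw [L.card_E_eq, hru] at this
  norm_num at this

/-- Outside the degenerate case the core of `C(d)` does not have order 27. -/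
theorem not27 (hnd : ¬ K.Deg) : Nat.card (coreCent K.d) ≠ 27 := by
  haveI : Fact (Nat.Prime 3) := ⟨Nat.prime_three⟩
  intro h27
  obtain ⟨hR, -⟩ := K.card_R_three hnd h27
  have h := K.card_R_parts
  rw [hR] at h
  have hp : Nat.card (cfix K.R K.u) * Nat.card (cfix K.R (K.t * K.u)) = 3 := by nlinarith
  rcases (Nat.dvd_prime Nat.prime_three).mp (Dvd.intro _ hp) with h1 | h1
  · rw [h1, one_mul] at hp
    refine K.twist.not27_aux hnd h27 (fun hb => ?_) ?_
    · change cfix K.R (K.t * K.u) = ⊥ at hb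
      rw [hb, Subgroup.card_bot] at hp; norm_num at hp
    · change cfix K.R (K.t * (K.t * K.u)) = ⊥
      rw [K.t_mul_tu]; exact Subgroup.card_eq_one.mp h1
  · rw [h1] at hp
    exact K.not27_aux hnd h27 (fun hb => by rw [hb, Subgroup.card_bot] at h1; norm_num at h1)
      (Subgroup.card_eq_one.mp (by omega))

end Hyp

end CfsgLib.GTwoInvol
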